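import Mathlib.Algebra.Homology.DerivedCategory.Ext.ExactSequences
import Mathlib.Algebra.Homology.DerivedCategory.Ext.EnoughInjectives
import Mathlib.Algebra.Homology.DerivedCategory.Ext.Map
import Mathlib.CategoryTheory.Abelian.RightDerived
import Groth.Agent.RDerLES

/-!
# Ext along an adjunction with exact left adjoint

If `L ⊣ R`, `L` exact and `F` is acyclic for `R`, then `Ext^n(A, R F) → Ext^n(L A, F)`,
`e ↦ L e ≫ counit`, is bijective.
-/

universe w w' v v' u u'

open CategoryTheory CategoryTheory.Limits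

namespace Groth.Agent.EtaleSite.AdjExt

variable {C : Type u} [Category.{v} C] [Abelian C] [EnoughInjectives C] [HasExt.{w} C]
  {D : Type u'} [Category.{v'} D] [Abelian D] [HasExt.{w'} D]
  {L : D ⥤ C} [L.Additive] [PreservesFiniteLimits L] [PreservesFiniteColimits L]
  {R : C ⥤ D} [R.Additive] [PreservesFiniteLimits R]
  (adj : L ⊣ R)

/-- `e ↦ L e ≫ counit`. -/
noncomputable def toExt (A : D) (F : C) (n : ℕ) (e : Abelian.Ext A (R.obj F) n) :
    Abelian.Ext (L.obj A) F n :=
  (e.mapExactFunctor L).comp (Abelian.Ext.mk₀ (adj.counit.app F)) (add_zero n)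

omit [EnoughInjectives C] [R.Additive] [PreservesFiniteLimits R] in
theorem toExt_comp_mk₀ {A : D} {F G : C} (φ : F ⟶ G) {n : ℕ}
    (e : Abelian.Ext A (R.obj F) n) :
    toExt adj A G n (e.comp (Abelian.Ext.mk₀ (R.map φ)) (add_zero n)) =
      (toExt adj A F n e).comp (Abelian.Ext.mk₀ φ) (add_zero n) := by
  rw [toExt, toExt, Abelian.Ext.mapExactFunctor_comp, Abelian.Ext.mapExactFunctor_mk₀,
    Abelian.Ext.comp_assoc_of_third_deg_zero, Abelian.Ext.mk₀_comp_mk₀,
    Abelian.Ext.comp_assoc_of_third_deg_zero, Abelian.Ext.mk₀_comp_mk₀]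
  congr 2
  exact adj.counit_naturality φ

omit [EnoughInjectives C] in
theorem toExt_comp_extClass {A : D} {S : ShortComplex C} (hS : S.ShortExact)
    (hRS : (S.map R).ShortExact) {n : ℕ} (x : Abelian.Ext A (R.obj S.X₃) n) :
    toExt adj A S.X₁ (n + 1) (x.comp hRS.extClass rfl) =
      (toExt adj A S.X₃ n x).comp hS.extClass rfl := by
  let f : (S.map R).map L ⟶ S :=
    { τ₁ := adj.counit.app S.X₁
      τ₂ := adj.counit.app S.X₂
      τ₃ := adj.counit.app S.X₃
      comm₁₂ := (adj.counit_naturality S.f).symm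
      comm₂₃ := (adj.counit_naturality S.g).symm }
  have h : (hRS.map_of_exact L).extClass.comp (Abelian.Ext.mk₀ (adj.counit.app S.X₁)) (add_zero 1) =
      (Abelian.Ext.mk₀ (adj.counit.app S.X₃)).comp hS.extClass (zero_add 1) :=
    (hRS.map_of_exact L).extClass_naturality hS f
  calc ((x.comp hRS.extClass rfl).mapExactFunctor L).comp (Abelian.Ext.mk₀ (adj.counit.app S.X₁))
          (add_zero (n + 1))
      = ((x.mapExactFunctor L).comp (hRS.extClass.mapExactFunctor L) rfl).comp
          (Abelian.Ext.mk₀ (adj.counit.app S.X₁)) (add_zero (n + 1)) :=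
        congrArg (fun z => Abelian.Ext.comp z (Abelian.Ext.mk₀ (adj.counit.app S.X₁)) (add_zero (n + 1)))
          (Abelian.Ext.mapExactFunctor_comp _ _ _ rfl)
    _ = (x.mapExactFunctor L).comp ((hRS.map_of_exact L).extClass.comp
          (Abelian.Ext.mk₀ (adj.counit.app S.X₁)) (add_zero 1)) rfl := by
        rw [Abelian.Ext.mapExactFunctor_extClass]
        exact Abelian.Ext.comp_assoc_of_third_deg_zero _ _ _ _
    _ = (x.mapExactFunctor L).comp ((Abelian.Ext.mk₀ (adj.counit.app S.X₃)).comp hS.extClass
          (zero_add 1)) rfl := congrArg (fun z => (x.mapExactFunctor L).comp z rfl) h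
    _ = _ := (Abelian.Ext.comp_assoc_of_second_deg_zero _ _ _ _).symm

theorem toExt_bijective (n : ℕ) : ∀ (A : D) (F : C),
    (∀ q : ℕ, 0 < q → IsZero ((R.rightDerived q).obj F)) →
    Function.Bijective (toExt adj A F n) := by
  induction n with
  | zero =>
    intro A F _
    have h : toExt adj A F 0 = Abelian.Ext.mk₀ ∘ (adj.homEquiv A F).symm ∘
        Abelian.Ext.homEquiv₀ := by
      funext e
      obtain ⟨f, rfl⟩ := Abelian.Ext.homEquiv₀.symm.surjective e
      simp only [Function.comp_apply, Equiv.apply_symm_apply, Adjunction.homEquiv_counit]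
      simp [toExt, Abelian.Ext.mapExactFunctor_mk₀, Abelian.Ext.mk₀_comp_mk₀]
    rw [h]
    exact (Abelian.Ext.mk₀_bijective _ _).comp
      ((adj.homEquiv A F).symm.bijective.comp Abelian.Ext.homEquiv₀.bijective)
  | succ n ih =>
    intro A F hF
    let S : ShortComplex C := ShortComplex.mk (Injective.ι F) (cokernel.π _) (cokernel.condition _)
    have hS : S.ShortExact :=
      { exact := ShortComplex.exact_cokernel _ }
    have hI : Injective S.X₂ := inferInstanceAs (Injective (Injective.under F))
    let les := RDerLES.derivedLES R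
    have zI : ∀ q : ℕ, 0 < q → IsZero ((R.rightDerived q).obj S.X₂) := fun q hq => by
      obtain ⟨k, rfl⟩ : ∃ k, q = k + 1 := ⟨q - 1, by omega⟩
      exact Functor.isZero_rightDerived_obj_injective_succ R k _
    have zQ : ∀ q : ℕ, 0 < q → IsZero ((R.rightDerived q).obj S.X₃) := fun q hq =>
      (les.exact₃ S hS q (q + 1) rfl).isZero_of_both_zeros
        ((zI q hq).eq_of_src _ _) ((hF (q + 1) (by omega)).eq_of_tgt _ _)
    have hRS : (S.map R).ShortExact := by
      have := hS.mono_f
      have hex : (S.map R).Exact := hS.exact.map_of_mono_of_preservesKernel R hS.mono_f inferInstance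
      have hm : Mono (R.map S.f) := R.map_mono S.f
      have he : Epi ((R.rightDerived 0).map S.g) :=
        (les.exact₃ S hS 0 1 rfl).epi_f ((hF 1 (by omega)).eq_of_tgt _ _)
      have he' : Epi (R.map S.g) := by
        have hnat := (R.rightDerivedZeroIsoSelf).hom.naturality S.g
        have : R.map S.g = (R.rightDerivedZeroIsoSelf).inv.app S.X₂ ≫ (R.rightDerived 0).map S.g ≫
            (R.rightDerivedZeroIsoSelf).hom.app S.X₃ := by
          simp [hnat]
        rw [this]
        infer_instance
      exact { exact := hex, mono_f := hm, epi_g := he' }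
    have hRI : Injective (S.map R).X₂ := Injective.injective_of_adjoint adj S.X₂
    constructor
    · rw [show toExt adj A F (n + 1) = AddMonoidHom.mk' (toExt adj A F (n + 1)) (fun a b => by
        simp [toExt, Abelian.Ext.mapExactFunctor_add, Abelian.Ext.add_comp]) from rfl,
        injective_iff_map_eq_zero]
      intro e he
      obtain ⟨x, hx⟩ := Abelian.Ext.covariant_sequence_exact₁ A hRS e
        (Abelian.Ext.eq_zero_of_injective _) (rfl : n + 1 = n + 1)
      have h0 : (toExt adj A S.X₃ n x).comp hS.extClass rfl = 0 := by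
        refine (toExt_comp_extClass adj hS hRS x).symm.trans ?_
        exact (congrArg (toExt adj A S.X₁ (n + 1)) hx).trans he
      obtain ⟨z, hz⟩ := Abelian.Ext.covariant_sequence_exact₃ (L.obj A) hS _ rfl h0
      obtain ⟨z', rfl⟩ := (ih A S.X₂ zI).2 z
      rw [← toExt_comp_mk₀] at hz
      obtain rfl := (ih A S.X₃ zQ).1 hz
      rw [← hx]
      refine (Abelian.Ext.comp_assoc_of_second_deg_zero z' (Abelian.Ext.mk₀ (S.map R).g)
        hRS.extClass rfl).trans ?_
      refine (congrArg (fun z => Abelian.Ext.comp z' z rfl) hRS.comp_extClass).trans ?_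
      exact Abelian.Ext.comp_zero _ _ _ _ _
    · intro y
      obtain ⟨x, hx⟩ := Abelian.Ext.covariant_sequence_exact₁ (L.obj A) hS y
        (Abelian.Ext.eq_zero_of_injective _) (rfl : n + 1 = n + 1)
      obtain ⟨x', rfl⟩ := (ih A S.X₃ zQ).2 x
      exact ⟨x'.comp hRS.extClass rfl, (toExt_comp_extClass adj hS hRS x').trans hx⟩

end Groth.Agent.EtaleSite.AdjExt
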