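import Groth.Agent.EtaleSite.Points
import Groth.Agent.Thick.Topo
import Mathlib.AlgebraicGeometry.Morphisms.FormallyUnramified
import Mathlib.AlgebraicGeometry.Morphisms.Integral
import Mathlib.AlgebraicGeometry.Morphisms.UniversallyInjective

/-!
# Topological invariance: morphisms into étale schemes
-/

set_option linter.style.haveILetI false

universe u

open CategoryTheory CategoryTheory.Limits AlgebraicGeometry Opposite

namespace Groth.Agent.EtaleSite

/-- An étale universally injective morphism is an open immersion. -/
theorem isOpenImmersion_of_etale_of_universallyInjective {U Y : Scheme.{u}} (p : U ⟶ Y) [Etale p]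
    [UniversallyInjective p] : IsOpenImmersion p := by
  haveI : Surjective (pullback.diagonal p) := (UniversallyInjective.iff_diagonal p).1 ‹_›
  haveI : Epi (pullback.diagonal p).base := (TopCat.epi_iff_surjective _).2 (pullback.diagonal p).surjective
  haveI : IsIso (pullback.diagonal p) := IsOpenImmersion.isIso _
  haveI : Mono p := (pullback.isIso_diagonal_iff p).1 inferInstance
  exact IsOpenImmersion.of_flat_of_mono p

/-- An étale universally injective surjective morphism is an isomorphism. -/
theorem isIso_of_etale_of_universallyInjective {U Y : Scheme.{u}} (p : U ⟶ Y) [Etale p]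
    [UniversallyInjective p] [Surjective p] : IsIso p := by
  haveI := isOpenImmersion_of_etale_of_universallyInjective p
  haveI : Epi p.base := (TopCat.epi_iff_surjective _).2 p.surjective
  exact IsOpenImmersion.isIso p

/-- Morphisms to an étale scheme agreeing after a surjection are equal. -/
theorem hom_ext_of_surjective {X Y Y' S : Scheme.{u}} (x : X ⟶ S) [Etale x] (a b : Y ⟶ X)
    (h : a ≫ x = b ≫ x) (π : Y' ⟶ Y) [Surjective π] (hπ : π ≫ a = π ≫ b) : a = b := by
  let l : Y ⟶ pullback x x := pullback.lift a b h
  let ι : pullback (pullback.diagonal x) l ⟶ Y := pullback.snd _ _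
  haveI : Surjective ι := by
    refine ⟨fun y => ?_⟩
    obtain ⟨y', rfl⟩ := π.surjective y
    let m : Y' ⟶ pullback (pullback.diagonal x) l := pullback.lift (π ≫ a) π (by
      refine pullback.hom_ext ?_ ?_
      · rw [Category.assoc, pullback.diagonal_fst, Category.comp_id, Category.assoc]
        exact (congrArg (π ≫ ·) (pullback.lift_fst _ _ _)).symm
      · rw [Category.assoc, pullback.diagonal_snd, Category.comp_id, Category.assoc]
        exact hπ.trans (congrArg (π ≫ ·) (pullback.lift_snd _ _ _)).symm)
    exact ⟨m y', by rw [← Scheme.Hom.comp_apply, pullback.lift_snd]⟩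
  haveI : Epi ι.base := (TopCat.epi_iff_surjective _).2 ι.surjective
  haveI : IsIso ι := IsOpenImmersion.isIso ι
  have h1 : ι ≫ a = pullback.fst (pullback.diagonal x) l := by
    have h0 := congrArg (· ≫ pullback.fst x x) (pullback.condition (f := pullback.diagonal x) (g := l))
    simp only [Category.assoc, pullback.diagonal_fst, Category.comp_id] at h0
    exact ((congrArg (ι ≫ ·) (pullback.lift_fst a b h)).symm.trans h0.symm)
  have h2 : ι ≫ b = pullback.fst (pullback.diagonal x) l := by
    have h0 := congrArg (· ≫ pullback.snd x x) (pullback.condition (f := pullback.diagonal x) (g := l))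
    simp only [Category.assoc, pullback.diagonal_snd, Category.comp_id] at h0
    exact ((congrArg (ι ≫ ·) (pullback.lift_snd a b h)).symm.trans h0.symm)
  exact (cancel_epi ι).1 (h1.trans h2.symm)

variable {S S' : Scheme.{u}} (g : S' ⟶ S) [IsIntegralHom g] [UniversallyInjective g] [Surjective g]

set_option backward.isDefEq.respectTransparency.types false in
/-- Base change along a universal homeomorphism is fully faithful into étale schemes. -/
theorem bijective_pullback_map (X Y : Over S) [Etale X.hom] :
    Function.Bijective (fun φ : Y ⟶ X => (Over.pullback g).map φ) := by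
  haveI : UniversallyInjective (pullback.fst Y.hom g) :=
    MorphismProperty.pullback_fst Y.hom g ‹_›
  constructor
  · intro φ₁ φ₂ h
    refine Over.OverMorphism.ext (hom_ext_of_surjective X.hom φ₁.left φ₂.left
      ((Over.w φ₁).trans (Over.w φ₂).symm) (pullback.fst Y.hom g) ?_)
    have e : ∀ φ : Y ⟶ X, ((Over.pullback g).map φ).left ≫ pullback.fst X.hom g =
        pullback.fst Y.hom g ≫ φ.left := fun φ => pullback.lift_fst _ _ _
    rw [← e, ← e]
    exact congrArg (fun k => k.left ≫ pullback.fst X.hom g) h
  · intro ψ
    let ψl : pullback Y.hom g ⟶ pullback X.hom g := ψ.left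
    have hψ : ψl ≫ pullback.snd X.hom g = pullback.snd Y.hom g := Over.w ψ
    let π : pullback Y.hom g ⟶ Y.left := pullback.fst Y.hom g
    let q : pullback X.hom Y.hom ⟶ Y.left := pullback.snd X.hom Y.hom
    let m : pullback Y.hom g ⟶ pullback X.hom Y.hom :=
      pullback.lift (ψl ≫ pullback.fst X.hom g) π (by
        simp only [π, Category.assoc, pullback.condition]
        rw [reassoc_of% hψ])
    have hmq : m ≫ q = π := pullback.lift_snd _ _ _
    let pr : pullback q π ⟶ pullback X.hom Y.hom := pullback.fst q π
    haveI : UniversallyInjective pr := MorphismProperty.pullback_fst q π inferInstance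
    let s' : pullback Y.hom g ⟶ pullback q π :=
      pullback.lift m (𝟙 _) (hmq.trans (Category.id_comp π).symm)
    have := isOpenImmersion_of_section (pullback.snd q π) s' (pullback.lift_snd _ _ _)
    have hpr : Topology.IsOpenEmbedding pr :=
      (isHomeomorph_iff_continuous_isClosedMap_bijective.2 ⟨pr.continuous, pr.isClosedMap, pr.injective, pr.surjective⟩).isOpenEmbedding
    let U : (pullback X.hom Y.hom).Opens :=
      ⟨pr '' Set.range s', hpr.isOpenMap _ s'.isOpenEmbedding.isOpen_range⟩
    let r : pullback Y.hom g ⟶ (U : Scheme.{u}) := IsOpenImmersion.lift U.ι m (by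
      rw [Scheme.Opens.range_ι]
      rintro _ ⟨z, rfl⟩
      exact ⟨s' z, ⟨z, rfl⟩, by rw [← Scheme.Hom.comp_apply, pullback.lift_fst]⟩)
    have hr : r ≫ U.ι = m := IsOpenImmersion.lift_fac _ _ _
    haveI : Surjective r := by
      refine ⟨fun w => ?_⟩
      obtain ⟨_, ⟨z, rfl⟩, hz⟩ := w.2
      refine ⟨z, U.ι.isOpenEmbedding.injective ?_⟩
      rw [← Scheme.Hom.comp_apply, hr, show m = s' ≫ pr from (pullback.lift_fst _ _ _).symm]
      exact hz
    let p : (U : Scheme.{u}) ⟶ Y.left := U.ι ≫ q
    have hrp : r ≫ p = π := by rw [← Category.assoc, hr, hmq]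
    haveI : UniversallyInjective (r ≫ p) := by rw [hrp]; infer_instance
    haveI : UniversallyInjective p := Thick.Topo.universallyInjective_of_comp_surjective r p
    haveI : Surjective (r ≫ p) := by rw [hrp]; infer_instance
    haveI : Surjective p := .of_comp r p
    haveI : IsIso p := isIso_of_etale_of_universallyInjective p
    let φl : Y.left ⟶ X.left := inv p ≫ U.ι ≫ pullback.fst X.hom Y.hom
    refine ⟨Over.homMk φl ?_, ?_⟩
    · simp only [φl, Category.assoc, pullback.condition]
      rw [← Category.assoc U.ι, show U.ι ≫ pullback.snd X.hom Y.hom = p from rfl,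
        IsIso.inv_hom_id_assoc]
    · refine Over.OverMorphism.ext (pullback.hom_ext ?_ ((pullback.lift_snd _ _ _).trans hψ.symm))
      refine (pullback.lift_fst _ _ _).trans ?_
      show π ≫ φl = ψl ≫ pullback.fst X.hom g
      rw [← hrp]
      simp only [φl, Category.assoc, IsIso.hom_inv_id_assoc]
      rw [reassoc_of% hr]
      exact pullback.lift_fst _ _ _

end Groth.Agent.EtaleSite
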