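import Groth.Agent.EtaleSite.Pull
import Mathlib.AlgebraicGeometry.Morphisms.FlatMono

/-!
# Geometric points: field extensions, covering families of points
-/

universe u

open CategoryTheory CategoryTheory.Limits AlgebraicGeometry Opposite

namespace Groth.Agent.EtaleSite

/-- A section of an étale morphism is an open immersion. -/
theorem isOpenImmersion_of_section {P S : Scheme.{u}} (p : P ⟶ S) [Etale p] (l : S ⟶ P)
    (h : l ≫ p = 𝟙 S) : IsOpenImmersion l := by
  have : Etale (l ≫ p) := by rw [h]; infer_instance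
  have : Etale l := Etale.of_comp l p
  have : IsSplitMono l := IsSplitMono.mk' ⟨p, h⟩
  exact IsOpenImmersion.of_flat_of_mono l

/-- Two sections of an étale morphism over a one-point scheme with the same image are equal. -/
theorem section_ext {P S : Scheme.{u}} [Subsingleton S] (p : P ⟶ S) [Etale p] (l₁ l₂ : S ⟶ P)
    (h₁ : l₁ ≫ p = 𝟙 S) (h₂ : l₂ ≫ p = 𝟙 S) (s : S) (h : l₁ s = l₂ s) : l₁ = l₂ := by
  have := isOpenImmersion_of_section p l₂ h₂
  have hr : Set.range l₁ ⊆ Set.range l₂ := by
    rintro _ ⟨t, rfl⟩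
    exact ⟨s, by rw [← h, Subsingleton.elim s t]⟩
  have hc := IsOpenImmersion.lift_fac l₂ l₁ hr
  have e : IsOpenImmersion.lift l₂ l₁ hr = 𝟙 S := by
    have := congrArg (· ≫ p) hc
    simp only [Category.assoc, h₁, h₂, Category.comp_id] at this
    exact this
  rw [← hc, e, Category.id_comp]

variable {X : Scheme.{u}} {Ω Ω' : Type u} [Field Ω] [IsSepClosed Ω] [Field Ω'] [IsSepClosed Ω']
  (σ : Spec (CommRingCat.of Ω') ⟶ Spec (CommRingCat.of Ω))
  (ξ : Spec (CommRingCat.of Ω) ⟶ X)

/-- Restriction of a point over `ξ` to a larger field. -/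
noncomputable def fiberExtFun (V : X.Etale) (φ : (Scheme.pointSmallEtale ξ).fiber.obj V) :
    (Scheme.pointSmallEtale (σ ≫ ξ)).fiber.obj V :=
  (Over.homMk (σ ≫ φ.left) ((Category.assoc _ _ _).trans (congrArg (σ ≫ ·) (Over.w φ))) :
    Over.mk (σ ≫ ξ) ⟶ (Scheme.Etale.forget X).obj V)

set_option backward.isDefEq.respectTransparency.types false in
theorem fiberExtFun_bijective (V : X.Etale) : Function.Bijective (fiberExtFun σ ξ V) := by
  let p : pullback V.hom ξ ⟶ Spec (CommRingCat.of Ω) := pullback.snd V.hom ξ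
  let a : Spec (CommRingCat.of Ω') := default
  constructor
  · intro φ₁ φ₂ h
    have h' : σ ≫ φ₁.left = σ ≫ φ₂.left := congrArg (fun k => k.left) h
    let l₁ := pullback.lift φ₁.left (𝟙 _) ((Over.w φ₁).trans (Category.id_comp ξ).symm)
    let l₂ := pullback.lift φ₂.left (𝟙 _) ((Over.w φ₂).trans (Category.id_comp ξ).symm)
    have hl : σ ≫ l₁ = σ ≫ l₂ := pullback.hom_ext
      (by simpa [l₁, l₂, pullback.lift_fst] using h')
      (by simp [l₁, l₂, pullback.lift_snd])
    have e : l₁ = l₂ := section_ext p l₁ l₂ (pullback.lift_snd _ _ _) (pullback.lift_snd _ _ _)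
      (σ a) (congrArg (fun k => k a) hl)
    exact Over.OverMorphism.ext ((pullback.lift_fst _ _ _).symm.trans
      ((congrArg (· ≫ pullback.fst V.hom ξ) e).trans (pullback.lift_fst _ _ _)))
  · intro ψ
    let m : Spec (CommRingCat.of Ω') ⟶ pullback V.hom ξ := pullback.lift ψ.left σ (Over.w ψ)
    obtain ⟨l, hl, hl'⟩ := Scheme.exists_fac_of_etale_of_isSepClosed p (𝟙 _) (m a)
      (Subsingleton.elim (α := Spec (CommRingCat.of Ω)) _ _)
    have := isOpenImmersion_of_section p l hl
    have hr : Set.range m ⊆ Set.range l := by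
      rintro _ ⟨b, rfl⟩
      exact ⟨default, by rw [hl', Subsingleton.elim b a]⟩
    have hc := IsOpenImmersion.lift_fac l m hr
    have e : IsOpenImmersion.lift l m hr = σ := by
      have := congrArg (· ≫ p) hc
      simp only [Category.assoc, hl, Category.comp_id] at this
      exact this.trans (pullback.lift_snd _ _ _)
    refine ⟨(Over.homMk (l ≫ pullback.fst V.hom ξ) ?_ :
      Over.mk ξ ⟶ (Scheme.Etale.forget X).obj V), ?_⟩
    · exact (Category.assoc _ _ _).trans ((congrArg (l ≫ ·) pullback.condition).trans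
        ((Category.assoc _ _ _).symm.trans ((congrArg (· ≫ ξ) hl).trans (Category.id_comp ξ))))
    · refine Over.OverMorphism.ext ?_
      exact (Category.assoc _ _ _).symm.trans ((congrArg (· ≫ pullback.fst V.hom ξ)
        ((congrArg (· ≫ l) e.symm).trans hc)).trans (pullback.lift_fst _ _ _))

/-- Enlarging the field does not change the fibre functor. -/
noncomputable def fiberExtIso :
    (Scheme.pointSmallEtale ξ).fiber ≅ (Scheme.pointSmallEtale (σ ≫ ξ)).fiber :=
  NatIso.ofComponents (fun V => (Equiv.ofBijective _ (fiberExtFun_bijective σ ξ V)).toIso)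
    fun {V W} g => by
      ext φ
      exact Over.OverMorphism.ext (Category.assoc _ _ _).symm

/-- The points `σ ≫ ξ` and `ξ` are isomorphic. -/
noncomputable def pointExtIso : Scheme.pointSmallEtale (σ ≫ ξ) ≅ Scheme.pointSmallEtale ξ where
  hom := ⟨(fiberExtIso σ ξ).hom⟩
  inv := ⟨(fiberExtIso σ ξ).inv⟩
  hom_inv_id := GrothendieckTopology.Point.hom_ext (fiberExtIso σ ξ).inv_hom_id
  inv_hom_id := GrothendieckTopology.Point.hom_ext (fiberExtIso σ ξ).hom_inv_id

/-- Enlarging the field does not change stalks. -/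
noncomputable def stalkExtIso : EtCoh.stalk ξ ≅ EtCoh.stalk (σ ≫ ξ) :=
  sheafFiberIsoOfPointIso (pointExtIso σ ξ)

omit σ in
theorem exists_comp_geomPointAt' (x : X) (a : X.residueField x ⟶ CommRingCat.of Ω) :
    ∃ σ : Spec (CommRingCat.of Ω) ⟶ Spec (CommRingCat.of (SeparableClosure (X.residueField x))),
      σ ≫ geomPointAt X x = Spec.map a ≫ X.fromSpecResidueField x := by
  letI : Algebra (X.residueField x) Ω := a.hom.toAlgebra
  let b : SeparableClosure (X.residueField x) →ₐ[X.residueField x] Ω := IsSepClosed.lift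
  refine ⟨Spec.map (CommRingCat.ofHom b.toRingHom), ?_⟩
  have h : CommRingCat.ofHom (algebraMap (X.residueField x) (SeparableClosure (X.residueField x))) ≫
      CommRingCat.ofHom b.toRingHom = a := by
    ext1; exact b.comp_algebraMap
  exact (Category.assoc _ _ _).symm.trans
    (congrArg (· ≫ X.fromSpecResidueField x) ((Spec.map_comp _ _).symm.trans (congrArg Spec.map h)))

omit σ in
/-- Every geometric point factors through the standard one over its image. -/
theorem exists_comp_geomPointAt (ξ : Spec (CommRingCat.of Ω) ⟶ X) :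
    ∃ σ : Spec (CommRingCat.of Ω) ⟶
        Spec (CommRingCat.of (SeparableClosure (X.residueField (ξ default)))),
      σ ≫ geomPointAt X (ξ default) = ξ := by
  obtain ⟨⟨x, a⟩, hx⟩ := (Scheme.SpecToEquivOfField Ω X).symm.surjective ξ
  have hx' : Spec.map a ≫ X.fromSpecResidueField x = ξ := hx
  obtain ⟨σ, hσ⟩ := exists_comp_geomPointAt' x a
  have hxx : ξ default = x := by
    rw [← hx', Scheme.Hom.comp_apply]
    exact Scheme.fromSpecResidueField_apply _ _
  subst hxx
  exact ⟨σ, hσ.trans hx'⟩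

omit σ in
/-- The stalk at a geometric point only depends on the underlying point. -/
theorem nonempty_stalk_iso_geomPointAt (ξ : Spec (CommRingCat.of Ω) ⟶ X) :
    Nonempty (EtCoh.stalk ξ ≅ EtCoh.stalk (geomPointAt X (ξ default))) := by
  obtain ⟨σ, hσ⟩ := exists_comp_geomPointAt ξ
  have i := stalkExtIso σ (geomPointAt X (ξ default))
  rw [hσ] at i
  exact ⟨i.symm⟩

omit σ in
/-- Above a point of an étale scheme, any geometric point of the base lifts. -/
theorem exists_fiber_point (ξ : Spec (CommRingCat.of Ω) ⟶ X) (U : X.Etale) (u : U.left)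
    (hu : U.hom u = ξ default) :
    ∃ φ : (Scheme.pointSmallEtale ξ).fiber.obj U, φ.left (default : Spec (CommRingCat.of Ω)) = u := by
  obtain ⟨l, h₁, h₂⟩ := Scheme.exists_fac_of_etale_of_isSepClosed U.hom ξ u hu
  exact ⟨(Over.homMk l h₁ : Over.mk ξ ⟶ (Scheme.Etale.forget X).obj U), h₂⟩

section Surjective

omit σ

variable {Z : Scheme.{u}} (g : Z ⟶ X) [Surjective g]

/-- Covering criterion using geometric points through a surjective morphism. -/
theorem mem_topology_of_forall_comp {U : X.Etale} (S : Sieve U)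
    (h : ∀ (Ω : Type u) [Field Ω] [IsSepClosed Ω] (ζ : Spec (CommRingCat.of Ω) ⟶ Z)
      (x : (Scheme.pointSmallEtale (ζ ≫ g)).fiber.obj U),
        ∃ (V : X.Etale) (k : V ⟶ U) (y : (Scheme.pointSmallEtale (ζ ≫ g)).fiber.obj V),
          S k ∧ (Scheme.pointSmallEtale (ζ ≫ g)).fiber.map k y = x) :
    S ∈ X.smallEtaleTopology U := by
  refine mem_topology_of_forall_exists S fun u => ?_
  obtain ⟨z, hz⟩ := g.surjective (U.hom u)
  let ζ := geomPointAt Z z
  obtain ⟨φ, hφ⟩ := exists_fiber_point (ζ ≫ g) U u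
    (hz.symm.trans (congrArg g (geomPointAt_apply Z z _)).symm)
  obtain ⟨V, k, y, hk, hy⟩ := h _ ζ φ
  let a : Spec (CommRingCat.of (SeparableClosure (Z.residueField z))) := default
  refine ⟨V, k, y.left a, hk, ?_⟩
  exact (congrArg (fun t => t.left a) hy).trans hφ

theorem sect_ext_of_surjective {F : EtCoh.Ab X} {U : X.Etale} (s t : F.obj.obj (op U))
    (h : ∀ (Ω : Type u) [Field Ω] [IsSepClosed Ω] (ζ : Spec (CommRingCat.of Ω) ⟶ Z)
      (x : (Scheme.pointSmallEtale (ζ ≫ g)).fiber.obj U),
        germ (ζ ≫ g) F U x s = germ (ζ ≫ g) F U x t) :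
    s = t := by
  have hS : Presheaf.equalizerSieve (F := F.obj) s t ∈ X.smallEtaleTopology U := by
    refine mem_topology_of_forall_comp g _ fun Ω _ _ ζ x => ?_
    obtain ⟨V, k, y, hy, e⟩ := (germ_eq_iff (ζ ≫ g) F U x s t).1 (h Ω ζ x)
    exact ⟨V, k, y, e, hy⟩
  exact F.property.isSeparated _ _ hS s t fun V k hk => hk

theorem mono_of_stalk_of_surjective {F G : EtCoh.Ab X} (a : F ⟶ G)
    (h : ∀ (Ω : Type u) [Field Ω] [IsSepClosed Ω] (ζ : Spec (CommRingCat.of Ω) ⟶ Z),
      Function.Injective ((EtCoh.stalk (ζ ≫ g)).map a)) : Mono a := by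
  have : ∀ U, Mono (a.hom.app U) := fun U => (AddCommGrpCat.mono_iff_injective _).2 (by
    intro s t hst
    refine sect_ext_of_surjective g (U := U.unop) _ _ fun Ω _ _ ζ x => h Ω ζ ?_
    rw [germ_naturality, germ_naturality, hst])
  have : Mono a.hom := NatTrans.mono_of_mono_app _
  exact (sheafToPresheaf _ _).mono_of_mono_map this

instance mono_unit_of_surjective (F : EtCoh.Ab X) :
    Mono ((EtCoh.pullPushAdj g).unit.app F) := by
  refine mono_of_stalk_of_surjective g _ fun Ω _ _ ζ => ?_
  have : IsSplitMono ((EtCoh.pull g).map ((EtCoh.pullPushAdj g).unit.app F)) :=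
    IsSplitMono.mk' ⟨_, (EtCoh.pullPushAdj g).left_triangle_components F⟩
  have : Mono ((EtCoh.pull g ⋙ EtCoh.stalk ζ).map ((EtCoh.pullPushAdj g).unit.app F)) :=
    inferInstanceAs (Mono ((EtCoh.stalk ζ).map _))
  have : Mono ((EtCoh.stalk (ζ ≫ g)).map ((EtCoh.pullPushAdj g).unit.app F)) :=
    ((MorphismProperty.monomorphisms AddCommGrpCat.{u + 1}).arrow_mk_iso_iff
      (((Functor.mapArrowFunctor _ _).mapIso (stalkPullIso g ζ)).app (Arrow.mk _))).1 this
  exact (AddCommGrpCat.mono_iff_injective _).1 this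

end Surjective

end Groth.Agent.EtaleSite
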