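import Groth.Agent.EtaleSite.Stalk
import Groth.Prelude.Def_EtCore
import Mathlib.CategoryTheory.Sites.Point.Comap
import Mathlib.CategoryTheory.Sites.Point.Category
import Mathlib.Algebra.Category.Grp.Limits

/-!
# Inverse image on small étale sites and stalks

The stalk of `f⁻¹G` at `ξ` is the stalk of `G` at `ξ ≫ f`; hence `f⁻¹` is exact.
-/

universe u

open CategoryTheory CategoryTheory.Limits AlgebraicGeometry Opposite

namespace Groth.Agent.EtaleSite

variable {X Y : Scheme.{u}} (f : X ⟶ Y) {Ω : Type u} [Field Ω] [IsSepClosed Ω]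
  (ξ : Spec (CommRingCat.of Ω) ⟶ X)

set_option backward.isDefEq.respectTransparency.types false in
/-- Points of `V` over `ξ ≫ f` are the points of `V ×_Y X` over `ξ`. -/
noncomputable def fiberBcEquiv (V : Y.Etale) :
    (Scheme.pointSmallEtale (ξ ≫ f)).fiber.obj V ≃
      (Scheme.pointSmallEtale ξ).fiber.obj ((EtCoh.bc f).obj V) where
  toFun φ := (Over.homMk (pullback.lift φ.left ξ (Over.w φ)) (pullback.lift_snd _ _ _) :
    Over.mk ξ ⟶ (Scheme.Etale.forget X).obj ((EtCoh.bc f).obj V))
  invFun ψ := (Over.homMk (ψ.left ≫ pullback.fst V.hom f) (by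
      have e : ψ.left ≫ pullback.snd V.hom f = ξ := Over.w ψ
      change (ψ.left ≫ pullback.fst V.hom f) ≫ V.hom = ξ ≫ f
      exact (Category.assoc _ _ _).trans ((congrArg (ψ.left ≫ ·) pullback.condition).trans
        ((Category.assoc _ _ _).symm.trans (congrArg (· ≫ f) e)))) :
    Over.mk (ξ ≫ f) ⟶ (Scheme.Etale.forget Y).obj V)
  left_inv φ := Over.OverMorphism.ext (pullback.lift_fst _ _ _)
  right_inv ψ := Over.OverMorphism.ext (pullback.hom_ext
    (pullback.lift_fst _ _ _) ((pullback.lift_snd _ _ _).trans (Over.w ψ).symm))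

set_option backward.isDefEq.respectTransparency.types false in
/-- The fibre functor at `ξ ≫ f` is base change followed by the fibre functor at `ξ`. -/
noncomputable def fiberBcIso :
    (Scheme.pointSmallEtale (ξ ≫ f)).fiber ≅ EtCoh.bc f ⋙ (Scheme.pointSmallEtale ξ).fiber :=
  NatIso.ofComponents (fun V => (fiberBcEquiv f ξ V).toIso) fun {V W} g => by
    ext φ
    refine Over.OverMorphism.ext (pullback.hom_ext ?_ ?_)
    · exact (pullback.lift_fst _ _ _).trans (by
        change φ.left ≫ g.left = (pullback.lift φ.left ξ (Over.w φ) ≫ ((EtCoh.bc f).map g).left) ≫ _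
        exact ((Category.assoc _ _ _).trans ((congrArg (pullback.lift φ.left ξ (Over.w φ) ≫ ·)
          (EtCoh.isPullback_bc_map f g).w).trans ((Category.assoc _ _ _).symm.trans
            (congrArg (· ≫ g.left) (pullback.lift_fst _ _ _))))).symm)
    · exact (pullback.lift_snd _ _ _).trans (Over.w ((Scheme.pointSmallEtale ξ).fiber.map
        ((EtCoh.bc f).map g) (fiberBcEquiv f ξ V φ))).symm

/-- Isomorphic functors to types have equivalent categories of elements. -/
def elementsEquiv {C : Type*} [Category C] {F G : C ⥤ Type u} (e : F ≅ G) :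
    F.Elements ≌ G.Elements where
  functor := CategoryOfElements.map e.hom
  inverse := CategoryOfElements.map e.inv
  unitIso := NatIso.ofComponents (fun p => CategoryOfElements.isoMk _ _ (Iso.refl _)
      ((congrArg (fun k => k p.2) (F.map_id p.1)).trans (e.hom_inv_id_app_apply p.1 p.2).symm))
    (fun _ => CategoryOfElements.ext _ _ _ ((Category.comp_id _).trans (Category.id_comp _).symm))
  counitIso := NatIso.ofComponents (fun p => CategoryOfElements.isoMk _ _ (Iso.refl _)
      (by
        change (G.map (𝟙 p.1)) (e.hom.app p.1 (e.inv.app p.1 p.2)) = p.2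
        rw [CategoryTheory.Functor.map_id]
        exact e.inv_hom_id_app_apply p.1 p.2))
    (fun _ => CategoryOfElements.ext _ _ _ ((Category.comp_id _).trans (Category.id_comp _).symm))
  functor_unitIso_comp _ := CategoryOfElements.ext _ _ _ (Category.id_comp (𝟙 _))

instance initiallySmall_elements_bc :
    InitiallySmall.{u} (EtCoh.bc f ⋙ (Scheme.pointSmallEtale ξ).fiber).Elements :=
  initiallySmall_of_initial_of_initiallySmall (elementsEquiv (fiberBcIso f ξ)).functor

/-- The point `ξ ≫ f` is the inverse image of the point `ξ` along base change. -/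
noncomputable def pointBcIso :
    (Scheme.pointSmallEtale ξ).comap (EtCoh.bc f) (EtCoh.coverPreserving_bc f) ≅
      Scheme.pointSmallEtale (ξ ≫ f) where
  hom := ⟨(fiberBcIso f ξ).hom⟩
  inv := ⟨(fiberBcIso f ξ).inv⟩
  hom_inv_id := GrothendieckTopology.Point.hom_ext (fiberBcIso f ξ).inv_hom_id
  inv_hom_id := GrothendieckTopology.Point.hom_ext (fiberBcIso f ξ).hom_inv_id

/-- Isomorphic points have isomorphic fibre functors. -/
noncomputable def sheafFiberIsoOfPointIso {C : Type*} [Category C] {J : GrothendieckTopology C}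
    {Φ₁ Φ₂ : GrothendieckTopology.Point.{u} J} (e : Φ₁ ≅ Φ₂)
    {A : Type*} [Category A] [HasColimitsOfSize.{u, u} A] :
    Φ₂.sheafFiber (A := A) ≅ Φ₁.sheafFiber where
  hom := e.hom.sheafFiber
  inv := e.inv.sheafFiber
  hom_inv_id := by rw [← GrothendieckTopology.Point.Hom.sheafFiber_comp, e.inv_hom_id,
    GrothendieckTopology.Point.Hom.sheafFiber_id]
  inv_hom_id := by rw [← GrothendieckTopology.Point.Hom.sheafFiber_comp, e.hom_inv_id,
    GrothendieckTopology.Point.Hom.sheafFiber_id]

instance isRightAdjoint_push : (EtCoh.push f).IsRightAdjoint :=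
  (EtCoh.pullPushAdj f).isRightAdjoint

/-- The stalk of `f⁻¹G` at `ξ` is the stalk of `G` at `ξ ≫ f`, functorially in `G`. -/
noncomputable def stalkPullIso : EtCoh.pull f ⋙ EtCoh.stalk ξ ≅ EtCoh.stalk (ξ ≫ f) :=
  ((Scheme.pointSmallEtale ξ).sheafFiberComapIso (EtCoh.bc f) (EtCoh.coverPreserving_bc f)
    AddCommGrpCat.{u + 1}).symm ≪≫ (sheafFiberIsoOfPointIso (pointBcIso f ξ)).symm

/-- Inverse image is exact. -/
instance preservesFiniteLimits_pull : PreservesFiniteLimits (EtCoh.pull f) := by
  suffices h : ∀ S : ShortComplex (EtCoh.Ab Y), S.Exact → (S.map (EtCoh.pull f)).Exact from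
    ((((EtCoh.pull f).exact_tfae.out 1 3 rfl rfl).1 h :
      PreservesFiniteLimits (EtCoh.pull f) ∧ PreservesFiniteColimits (EtCoh.pull f))).1
  intro S hS
  rw [exact_iff_stalk]
  intro Ω _ _ ξ
  exact (ShortComplex.exact_iff_of_iso (S.mapNatIso (stalkPullIso f ξ))).2
    (hS.map (EtCoh.stalk (ξ ≫ f)))

end Groth.Agent.EtaleSite
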