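import Groth.Agent.EtaleSite.AdjExt
import Groth.Agent.EtSupp.ExtZero
import Groth.Agent.EtSupp.Basic
import Groth.Agent.EtaleSite.Pull
import Groth.Prelude.Def_EtCore

/-!
# Flasque étale sheaves and the free sheaf of an étale scheme

`freeOn W = W_! ℤ` corepresents sections on `W`; a sheaf is flasque if `Ext^q(freeOn W, F) = 0` for
all `W` and `q > 0`, equivalently `H^q(W, F|_W) = 0`.
-/

set_option autoImplicit false

universe u w v v' u₁ u₂

open CategoryTheory CategoryTheory.Limits AlgebraicGeometry Opposite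

noncomputable section

namespace Groth.Agent.EtaleSite.Flasque

section Acyclic

variable {C : Type u₁} [Category.{v} C] [Abelian C] [EnoughInjectives C]
  {D : Type u₂} [Category.{v'} D] [Abelian D]
  (R : C ⥤ D) [R.Additive] [PreservesFiniteLimits R]

/-- A class of objects stable under quotients of injective embeddings that `R` sends to
epimorphisms consists of acyclic objects. -/
theorem isZero_rightDerived_of_class (P : C → Prop)
    (hP : ∀ F, P F → ∃ (S : ShortComplex C), S.ShortExact ∧ S.X₁ = F ∧ Injective S.X₂ ∧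
      P S.X₃ ∧ Epi (R.map S.g)) :
    ∀ (q : ℕ) (F : C), P F → IsZero ((R.rightDerived (q + 1)).obj F) := by
  intro q
  induction q with
  | zero =>
    intro F hF
    obtain ⟨S, hS, rfl, hI, -, he⟩ := hP F hF
    let les := RDerLES.derivedLES R
    have : Epi ((R.rightDerived 0).map S.g) := by
      have : (R.rightDerived 0).map S.g =
          (R.rightDerivedZeroIsoSelf).hom.app S.X₂ ≫ R.map S.g ≫
            (R.rightDerivedZeroIsoSelf).inv.app S.X₃ := by
        simp
      rw [this]
      infer_instance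
    have hδ : les.δ S hS 0 1 rfl = 0 :=
      (cancel_epi ((R.rightDerived 0).map S.g)).1 ((les.comp_δ S hS 0 1 rfl).trans comp_zero.symm)
    exact (les.exact₁ S hS 0 1 rfl).isZero_of_both_zeros hδ
      ((Functor.isZero_rightDerived_obj_injective_succ R 0 _).eq_of_tgt _ _)
  | succ n ih =>
    intro F hF
    obtain ⟨S, hS, rfl, hI, hQ, -⟩ := hP F hF
    let les := RDerLES.derivedLES R
    exact (les.exact₁ S hS (n + 1) (n + 1 + 1) rfl).isZero_of_both_zeros
      ((ih S.X₃ hQ).eq_of_src _ _)
      ((Functor.isZero_rightDerived_obj_injective_succ R (n + 1) _).eq_of_tgt _ _)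

/-- An exact functor has no higher derived functors. -/
theorem isZero_rightDerived_of_exact [PreservesFiniteColimits R] (q : ℕ) (F : C) :
    IsZero ((R.rightDerived (q + 1)).obj F) := by
  refine isZero_rightDerived_of_class R (fun _ => True) (fun G _ => ?_) q F trivial
  let S : ShortComplex C := ShortComplex.mk (Injective.ι G) (cokernel.π _) (cokernel.condition _)
  have : Epi S.g := coequalizer.π_epi
  exact ⟨S, { exact := ShortComplex.exact_cokernel _ }, rfl,
    inferInstanceAs (Injective (Injective.under G)), trivial, R.map_epi S.g⟩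

end Acyclic

variable {X : Scheme.{u}}

/-- An object of the small étale site is étale over the base. -/
instance etale_hom (W : X.Etale) : Etale W.hom := W.prop

/-- The free abelian sheaf on an étale scheme. -/
def freeOn (W : X.Etale) : EtCoh.Ab X :=
  (EtShriek.extZero W.hom).obj (EtCoh.const W.left ℤ)

instance preservesFiniteLimits_extZero {U : Scheme.{u}} (j : U ⟶ X) [Etale j] :
    PreservesFiniteLimits (EtShriek.extZero j) := by
  have := EtSupp.ExtZero.preservesMonomorphisms_extZero j
  have : PreservesColimitsOfSize.{0, 0} (EtShriek.extZero j) :=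
    (EtShriek.extZeroAdj j).leftAdjoint_preservesColimits
  have : PreservesFiniteColimits (EtShriek.extZero j) :=
    PreservesColimitsOfSize.preservesFiniteColimits _
  have : (EtShriek.extZero j).Additive := (EtSupp.extPullAdj j).left_adjoint_additive
  rw [Functor.preservesFiniteLimits_iff_forall_exact_map_and_mono]
  intro S hS
  have := hS.mono_f
  exact ⟨hS.exact.map_of_epi_of_preservesCokernel _ hS.epi_g inferInstance,
    (EtShriek.extZero j).map_mono S.f⟩

/-- `Ext^q(freeOn W, F) → H^q(W, F|_W)` is bijective. -/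
theorem bijective_toExt_freeOn (W : X.Etale) (F : EtCoh.Ab X) (q : ℕ) :
    haveI : (EtShriek.extZero W.hom).Additive := (EtSupp.extPullAdj W.hom).left_adjoint_additive
    haveI : PreservesFiniteColimits (EtShriek.extZero W.hom) :=
      haveI : PreservesColimitsOfSize.{0, 0} (EtShriek.extZero W.hom) :=
        (EtShriek.extZeroAdj W.hom).leftAdjoint_preservesColimits
      PreservesColimitsOfSize.preservesFiniteColimits _
    Function.Bijective (AdjExt.toExt (EtSupp.extPullAdj W.hom) (EtCoh.const W.left ℤ) F q) := by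
  have : (EtShriek.extZero W.hom).Additive := (EtSupp.extPullAdj W.hom).left_adjoint_additive
  have : PreservesColimitsOfSize.{0, 0} (EtShriek.extZero W.hom) :=
    (EtShriek.extZeroAdj W.hom).leftAdjoint_preservesColimits
  have : PreservesFiniteColimits (EtShriek.extZero W.hom) :=
    PreservesColimitsOfSize.preservesFiniteColimits _
  refine AdjExt.toExt_bijective (EtSupp.extPullAdj W.hom) q _ F fun n hn => ?_
  obtain ⟨k, rfl⟩ : ∃ k, n = k + 1 := ⟨n - 1, by omega⟩
  exact isZero_rightDerived_of_exact _ k F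

theorem subsingleton_H_iff (W : X.Etale) (F : EtCoh.Ab X) (q : ℕ) :
    Subsingleton (EtCoh.H W.left ((EtCoh.pull W.hom).obj F) q) ↔
      Subsingleton (Abelian.Ext (freeOn W) F q) :=
  (Equiv.ofBijective _ (bijective_toExt_freeOn W F q)).subsingleton_congr

/-- Flasque in the sense of étale cohomology. -/
def IsFlasque (F : EtCoh.Ab X) : Prop :=
  ∀ (W : X.Etale) (q : ℕ), 0 < q → Subsingleton (Abelian.Ext (freeOn W) F q)

theorem isFlasque_iff (F : EtCoh.Ab X) :
    IsFlasque F ↔
      ∀ (W : X.Etale) (q : ℕ), 0 < q → Subsingleton (EtCoh.H W.left ((EtCoh.pull W.hom).obj F) q) :=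
  forall_congr' fun W => forall_congr' fun q => imp_congr_right fun _ =>
    (subsingleton_H_iff W F q).symm

theorem isFlasque_of_injective (I : EtCoh.Ab X) [Injective I] : IsFlasque I := fun W q hq => by
  obtain ⟨k, rfl⟩ : ∃ k, q = k + 1 := ⟨q - 1, by omega⟩
  exact ⟨fun a b => (Abelian.Ext.eq_zero_of_injective a).trans
    (Abelian.Ext.eq_zero_of_injective b).symm⟩

theorem IsFlasque.quotient {S : ShortComplex (EtCoh.Ab X)} (hS : S.ShortExact)
    (h₁ : IsFlasque S.X₁) (h₂ : IsFlasque S.X₂) : IsFlasque S.X₃ := fun W q hq => by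
  refine subsingleton_of_forall_eq 0 fun x => ?_
  have := h₁ W (q + 1) (by omega)
  obtain ⟨y, rfl⟩ := Abelian.Ext.covariant_sequence_exact₃ (freeOn W) hS x (rfl : q + 1 = q + 1)
    (Subsingleton.elim _ _)
  have := h₂ W q hq
  rw [Subsingleton.elim y 0, Abelian.Ext.zero_comp]

/-- `W` as the image of the final object of its étale site. -/
def topIso (W : X.Etale) : (EtShriek.compEtale W.hom).obj (EtCoh.top W.left) ≅ W :=
  MorphismProperty.Over.isoMk (Iso.refl _)
    ((Category.id_comp W.hom).trans (Category.id_comp W.hom).symm)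

/-- The value at `1` of a morphism out of the constant sheaf `ℤ`. -/
def evTop {U : Scheme.{u}} (G : EtCoh.Ab U) (φ : EtCoh.const U ℤ ⟶ G) :
    EtCoh.sect G (EtCoh.top U) :=
  ((((EtCore.constAdj U).homEquiv _ _) φ :
    AddCommGrpCat.of (ULift.{u + 1} ℤ) ⟶ G.obj.obj (op (EtCoh.top U))) :
      AddCommGrpCat.of (ULift.{u + 1} ℤ) ⟶ G.obj.obj (op (EtCoh.top U))).hom (ULift.up 1)

theorem evTop_comp {U : Scheme.{u}} {G G' : EtCoh.Ab U} (φ : EtCoh.const U ℤ ⟶ G) (a : G ⟶ G') :
    evTop G' (φ ≫ a) = a.hom.app (op (EtCoh.top U)) (evTop G φ) :=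
  ConcreteCategory.congr_hom ((EtCore.constAdj U).homEquiv_naturality_right φ a) (ULift.up 1)

theorem evTop_bijective {U : Scheme.{u}} (G : EtCoh.Ab U) : Function.Bijective (evTop G) := by
  have h1 : ∀ M : AddCommGrpCat.{u + 1}, Function.Bijective
      (fun (t : AddCommGrpCat.of (ULift.{u + 1} ℤ) ⟶ M) => t.hom (ULift.up 1)) := fun M => by
    constructor
    · intro s t h
      ext ⟨n⟩
      have hn : (ULift.up n : ULift.{u + 1} ℤ) = n • ULift.up 1 := ULift.ext _ _ (by simp)
      rw [hn, map_zsmul, map_zsmul]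
      exact congrArg (n • ·) h
    · intro g
      exact ⟨AddCommGrpCat.ofHom ((zmultiplesHom M g).comp
        (AddEquiv.ulift : ULift.{u + 1} ℤ ≃+ ℤ).toAddMonoidHom), one_zsmul g⟩
  exact (h1 _).comp ((EtCore.constAdj U).homEquiv _ _).bijective

/-- Sections on `W` of a morphism out of `freeOn W`. -/
def freeSec (W : X.Etale) (G : EtCoh.Ab X) (φ : freeOn W ⟶ G) : EtCoh.sect G W :=
  G.obj.map (topIso W).inv.op
    (evTop ((EtShriek.restrAlong W.hom).obj G) (((EtShriek.extZeroAdj W.hom).homEquiv _ _) φ))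

theorem freeSec_comp (W : X.Etale) {G G' : EtCoh.Ab X} (φ : freeOn W ⟶ G) (a : G ⟶ G') :
    freeSec W G' (φ ≫ a) = a.hom.app (op W) (freeSec W G φ) := by
  refine (congrArg (fun t => G'.obj.map (topIso W).inv.op
    (evTop ((EtShriek.restrAlong W.hom).obj G') t))
      ((EtShriek.extZeroAdj W.hom).homEquiv_naturality_right φ a)).trans ?_
  refine (congrArg (fun t => G'.obj.map (topIso W).inv.op t)
    (evTop_comp ((EtShriek.extZeroAdj W.hom).homEquiv _ _ φ) ((EtShriek.restrAlong W.hom).map a))).trans ?_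
  exact (NatTrans.naturality_apply a.hom (topIso W).inv.op _).symm

theorem freeSec_bijective (W : X.Etale) (G : EtCoh.Ab X) : Function.Bijective (freeSec W G) :=
  (G.obj.mapIso (topIso W).op).symm.addCommGroupIsoToAddEquiv.bijective.comp
    ((evTop_bijective ((EtShriek.restrAlong W.hom).obj G)).comp
      ((EtShriek.extZeroAdj W.hom).homEquiv _ _).bijective)

theorem IsFlasque.surjective_sections {S : ShortComplex (EtCoh.Ab X)} (hS : S.ShortExact)
    (h₁ : IsFlasque S.X₁) (W : X.Etale) : Function.Surjective (S.g.hom.app (op W)) := by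
  intro s
  obtain ⟨φ, rfl⟩ := (freeSec_bijective W S.X₃).2 s
  have := h₁ W 1 one_pos
  obtain ⟨y, hy⟩ := Abelian.Ext.covariant_sequence_exact₃ (freeOn W) hS (Abelian.Ext.mk₀ φ)
    (rfl : 0 + 1 = 1) (Subsingleton.elim _ _)
  obtain ⟨ψ, rfl⟩ := (Abelian.Ext.mk₀_bijective _ _).2 y
  rw [Abelian.Ext.mk₀_comp_mk₀] at hy
  exact ⟨freeSec W S.X₂ ψ, by rw [← freeSec_comp, (Abelian.Ext.mk₀_bijective _ _).1 hy]⟩

/-- Flasque sheaves are acyclic for direct images. -/
theorem IsFlasque.isZero_Rpush {Y : Scheme.{u}} (f : X ⟶ Y) (F : EtCoh.Ab X) (hF : IsFlasque F)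
    (q : ℕ) (hq : 0 < q) : IsZero ((EtCoh.Rpush f q).obj F) := by
  obtain ⟨k, rfl⟩ : ∃ k, q = k + 1 := ⟨q - 1, by omega⟩
  refine isZero_rightDerived_of_class (EtCoh.push f) IsFlasque (fun G hG => ?_) k F hF
  let S : ShortComplex (EtCoh.Ab X) :=
    ShortComplex.mk (Injective.ι G) (cokernel.π _) (cokernel.condition _)
  have : Epi S.g := coequalizer.π_epi
  have hS : S.ShortExact := { exact := ShortComplex.exact_cokernel _ }
  have : Injective S.X₂ := inferInstanceAs (Injective (Injective.under G))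
  refine ⟨S, hS, rfl, this, hG.quotient hS (isFlasque_of_injective _), ?_⟩
  have : Epi ((sheafToPresheaf Y.smallEtaleTopology AddCommGrpCat.{u + 1}).map
      ((EtCoh.push f).map S.g)) := by
    have : ∀ V, Epi (((sheafToPresheaf Y.smallEtaleTopology AddCommGrpCat.{u + 1}).map
        ((EtCoh.push f).map S.g)).app V) := fun V =>
      (AddCommGrpCat.epi_iff_surjective _).2 (IsFlasque.surjective_sections hS hG _)
    exact NatTrans.epi_of_epi_app _
  exact (sheafToPresheaf Y.smallEtaleTopology AddCommGrpCat.{u + 1}).epi_of_epi_map this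

/-- Objects corepresenting the same functor are isomorphic. -/
theorem nonempty_iso_of_corep {C : Type u₁} [Category.{v} C] {A B : C} (S : C → Type w)
    (m : ∀ {G G' : C}, (G ⟶ G') → S G → S G')
    (a : ∀ G, (A ⟶ G) → S G) (b : ∀ G, (B ⟶ G) → S G)
    (ha : ∀ G, Function.Bijective (a G)) (hb : ∀ G, Function.Bijective (b G))
    (na : ∀ {G G'} (φ : A ⟶ G) (g : G ⟶ G'), a G' (φ ≫ g) = m g (a G φ))
    (nb : ∀ {G G'} (φ : B ⟶ G) (g : G ⟶ G'), b G' (φ ≫ g) = m g (b G φ)) :
    Nonempty (A ≅ B) := by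
  obtain ⟨f, hf⟩ := (ha B).2 (b B (𝟙 B))
  obtain ⟨g, hg⟩ := (hb A).2 (a A (𝟙 A))
  refine ⟨⟨f, g, (ha A).1 ?_, (hb B).1 ?_⟩⟩
  · rw [na, hf, ← nb, Category.id_comp, hg]
  · rw [nb, hg, ← na, Category.id_comp, hf]

/-- Inverse image of the free sheaf. -/
theorem nonempty_pull_freeOn_iso {Y : Scheme.{u}} (f : X ⟶ Y) (W : Y.Etale) :
    Nonempty ((EtCoh.pull f).obj (freeOn W) ≅ freeOn ((EtCoh.bc f).obj W)) := by
  refine nonempty_iso_of_corep (fun G : EtCoh.Ab X => EtCoh.sect G ((EtCoh.bc f).obj W))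
    (fun a s => a.hom.app (op ((EtCoh.bc f).obj W)) s)
    (fun G φ => freeSec W ((EtCoh.push f).obj G) ((EtCoh.pullPushAdj f).homEquiv _ _ φ))
    (fun G => freeSec ((EtCoh.bc f).obj W) G)
    (fun G => (freeSec_bijective W _).comp ((EtCoh.pullPushAdj f).homEquiv _ _).bijective)
    (fun G => freeSec_bijective _ G) (fun φ g => ?_) (fun φ g => freeSec_comp _ φ g)
  exact (congrArg (freeSec W _) ((EtCoh.pullPushAdj f).homEquiv_naturality_right φ g)).trans
    (freeSec_comp W _ ((EtCoh.push f).map g))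

/-- Direct images of flasque sheaves are flasque. -/
theorem IsFlasque.push {Y : Scheme.{u}} (f : X ⟶ Y) (F : EtCoh.Ab X) (hF : IsFlasque F) :
    IsFlasque ((EtCoh.push f).obj F) := fun W q hq => by
  obtain ⟨e⟩ := nonempty_pull_freeOn_iso f W
  have := hF ((EtCoh.bc f).obj W) q hq
  have h : Subsingleton (Abelian.Ext ((EtCoh.pull f).obj (freeOn W)) F q) :=
    subsingleton_of_forall_eq 0 fun x => by
      have h0 : (Abelian.Ext.mk₀ e.inv).comp x (zero_add q) = 0 := Subsingleton.elim _ _
      calc x = (Abelian.Ext.mk₀ e.hom).comp ((Abelian.Ext.mk₀ e.inv).comp x (zero_add q))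
            (zero_add q) := by simp
        _ = 0 := by rw [h0, Abelian.Ext.comp_zero]
  exact (AdjExt.toExt_bijective (EtCoh.pullPushAdj f) q (freeOn W) F
    (fun n hn => hF.isZero_Rpush f F n hn)).injective.subsingleton

end Groth.Agent.EtaleSite.Flasque
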