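import Groth.Agent.EtaleSite.SplitInt
import Groth.Agent.EtaleSite.Points
import Mathlib.AlgebraicGeometry.Morphisms.Finite
import Mathlib.AlgebraicGeometry.Morphisms.Integral
import Mathlib.AlgebraicGeometry.LimitsOver
import Mathlib.AlgebraicGeometry.Fiber

/-!
# Splitting étale schemes over finite and integral schemes by étale neighbourhoods of the base
-/

set_option linter.style.haveILetI false

universe u

open CategoryTheory CategoryTheory.Limits AlgebraicGeometry TensorProduct

namespace Groth.Agent.EtaleSite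

set_option backward.isDefEq.respectTransparency.types false in
theorem etale_sigmaDesc {ι : Type u} {U : ι → Scheme.{u}} {X : Scheme.{u}} (g : ∀ i, U i ⟶ X)
    [∀ i, Etale (g i)] : Etale (Sigma.desc g) :=
  IsZariskiLocalAtSource.sigmaDesc (P := @Etale) fun i => inferInstance

/-- Every scheme has affine open neighbourhoods of field valued points. -/
theorem exists_affine_factor {U : Scheme.{u}} {L : Type u} [Field L]
    (u₀ : Spec (CommRingCat.of L) ⟶ U) :
    ∃ (R : CommRingCat.{u}) (j : Spec R ⟶ U) (_ : IsOpenImmersion j)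
      (u₁ : Spec (CommRingCat.of L) ⟶ Spec R), u₁ ≫ j = u₀ := by
  obtain ⟨R, j, hj, hmem, -⟩ := Scheme.exists_affine_mem_range_and_range_subset
    (x := u₀ (default : Spec (CommRingCat.of L))) (U := ⊤) (by trivial)
  refine ⟨R, j, hj, IsOpenImmersion.lift j u₀ ?_, IsOpenImmersion.lift_fac j u₀ _⟩
  rintro _ ⟨a, rfl⟩
  rwa [Subsingleton.elim a default]

section Affine

variable {A B : CommRingCat.{u}} (ψ : A ⟶ B) {K L : Type u} [Field K] [IsSepClosed K] [Field L]
  [IsAlgClosed L] (η : Spec (CommRingCat.of K) ⟶ Spec A)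
  (σ : Spec (CommRingCat.of L) ⟶ Spec (CommRingCat.of K))

set_option backward.isDefEq.respectTransparency.types false in
/-- Affine version, finite case. -/
theorem split_affine_finite (hψ : ψ.hom.Finite) {U : Scheme.{u}} [IsAffine U] (g : U ⟶ Spec B)
    [Etale g] (φ : ∀ ξ : Spec (CommRingCat.of L) ⟶ Spec B, ξ ≫ Spec.map ψ = σ ≫ η →
      (Spec (CommRingCat.of L) ⟶ U))
    (hφ : ∀ ξ hξ, φ ξ hξ ≫ g = ξ) :
    ∃ (V : (Spec A).Etale) (y : Spec (CommRingCat.of K) ⟶ V.left) (hy : y ≫ V.hom = η)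
      (h : pullback V.hom (Spec.map ψ) ⟶ U), h ≫ g = pullback.snd _ _ ∧
      ∀ ξ (hξ : ξ ≫ Spec.map ψ = σ ≫ η),
        pullback.lift (σ ≫ y) ξ (by rw [Category.assoc, hy, hξ]) ≫ h = φ ξ hξ := by
  obtain ⟨a, rfl⟩ := Spec.map_surjective η
  obtain ⟨s, rfl⟩ := Spec.map_surjective σ
  obtain ⟨c, hc⟩ := Spec.map_surjective (U.isoSpec.inv ≫ g)
  letI : Algebra A B := ψ.hom.toAlgebra
  haveI : Module.Finite A B := hψ
  letI : Algebra A K := a.hom.toAlgebra
  letI : Algebra K L := s.hom.toAlgebra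
  letI : Algebra A L := (a ≫ s).hom.toAlgebra
  haveI : IsScalarTower A K L := .of_algebraMap_eq fun _ => rfl
  letI : Algebra B Γ(U, ⊤) := c.hom.toAlgebra
  haveI : Algebra.Etale B Γ(U, ⊤) := by
    have : Etale (Spec.map c) := by rw [hc]; infer_instance
    exact RingHom.etale_algebraMap.1 ((HasRingHomProperty.Spec_iff (P := @Etale)).1 this)
  have hτ : ∀ τ : B →ₐ[A] L,
      Spec.map (CommRingCat.ofHom τ.toRingHom) ≫ Spec.map ψ = Spec.map s ≫ Spec.map a := fun τ => by
    rw [← Spec.map_comp, ← Spec.map_comp]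
    congr 1
    exact CommRingCat.hom_ext (RingHom.ext τ.commutes)
  choose w hw using fun τ => Spec.map_surjective (φ _ (hτ τ) ≫ U.isoSpec.hom)
  have hwb : ∀ (τ : B →ₐ[A] L) (b : B), (w τ).hom (algebraMap B Γ(U, ⊤) b) = τ b := fun τ b => by
    have : c ≫ w τ = CommRingCat.ofHom τ.toRingHom := by
      apply Spec.map_injective
      rw [Spec.map_comp, hw, hc, Category.assoc, Iso.hom_inv_id_assoc, hφ]
    exact RingHom.congr_fun (congrArg CommRingCat.Hom.hom this) b
  obtain ⟨T, _, _, hT, π, h, hh, hπ⟩ :=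
    exists_etale_split (K := K) (L := L) (fun τ => (w τ).hom) hwb
  haveI : Etale (Spec.map (CommRingCat.ofHom (algebraMap A T))) :=
    (HasRingHomProperty.Spec_iff (P := @Etale)).2 (RingHom.etale_algebraMap.2 hT)
  refine ⟨Scheme.Etale.mk (Spec.map (CommRingCat.ofHom (algebraMap A T))),
    Spec.map (CommRingCat.ofHom π.toRingHom), ?_,
    (pullbackSpecIso A T B).hom ≫ Spec.map (CommRingCat.ofHom h) ≫ U.isoSpec.inv, ?_, ?_⟩
  · show Spec.map _ ≫ Spec.map _ = _
    rw [← Spec.map_comp]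
    congr 1
    exact CommRingCat.hom_ext (RingHom.ext π.commutes)
  · rw [Category.assoc, Category.assoc, ← hc, ← Spec.map_comp]
    have : c ≫ CommRingCat.ofHom h =
        CommRingCat.ofHom (Algebra.TensorProduct.includeRight (R := A) (A := T)).toRingHom :=
      CommRingCat.hom_ext hh
    rw [this]
    exact pullbackSpecIso_hom_snd A T B
  · intro ξ hξ
    obtain ⟨b, rfl⟩ := Spec.map_surjective ξ
    have hb : ψ ≫ b = a ≫ s := Spec.map_injective (by rw [Spec.map_comp, Spec.map_comp]; exact hξ)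
    let τ : B →ₐ[A] L := ⟨b.hom, fun r => RingHom.congr_fun (congrArg CommRingCat.Hom.hom hb) r⟩
    have e : pullback.lift (Spec.map s ≫ Spec.map (CommRingCat.ofHom π.toRingHom)) (Spec.map b)
          (by
            rw [Category.assoc, ← Spec.map_comp, ← Spec.map_comp, ← Spec.map_comp]
            refine (congrArg Spec.map ?_).trans rfl
            refine Eq.trans ?_ hb.symm
            refine congrArg (· ≫ s) ?_
            exact CommRingCat.hom_ext (RingHom.ext π.commutes)) ≫
        (pullbackSpecIso A T B).hom = Spec.map (CommRingCat.ofHom (tensorPoint π τ).toRingHom) := by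
      rw [← cancel_mono (pullbackSpecIso A T B).inv, Category.assoc, Iso.hom_inv_id,
        Category.comp_id]
      apply pullback.hom_ext
      · rw [pullback.lift_fst, Category.assoc, pullbackSpecIso_inv_fst, ← Spec.map_comp,
          ← Spec.map_comp]
        congr 1
        refine CommRingCat.hom_ext (RingHom.ext fun x => ?_)
        show algebraMap K L (π x) = tensorPoint π τ (x ⊗ₜ[A] 1)
        simp [tensorPoint]
      · rw [pullback.lift_snd, Category.assoc, pullbackSpecIso_inv_snd, ← Spec.map_comp]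
        congr 1
        refine CommRingCat.hom_ext (RingHom.ext fun x => ?_)
        show b.hom x = tensorPoint π τ ((1 : T) ⊗ₜ[A] x)
        simp [tensorPoint, τ]
    refine (Category.assoc _ _ _).symm.trans ?_
    refine (congrArg (· ≫ Spec.map (CommRingCat.ofHom h) ≫ U.isoSpec.inv) e).trans ?_
    have : CommRingCat.ofHom h ≫ CommRingCat.ofHom (tensorPoint π τ).toRingHom = w τ :=
      CommRingCat.hom_ext (RingHom.ext fun x => hπ τ x)
    rw [← Category.assoc, ← Spec.map_comp, this, hw, Category.assoc, Iso.hom_inv_id,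
      Category.comp_id]
    rfl

set_option backward.isDefEq.respectTransparency.types false in
/-- Affine version, integral case. -/
theorem split_affine_integral (hψ : ψ.hom.IsIntegral) {U : Scheme.{u}} [IsAffine U] (g : U ⟶ Spec B)
    [Etale g] (φ : ∀ ξ : Spec (CommRingCat.of L) ⟶ Spec B, ξ ≫ Spec.map ψ = σ ≫ η →
      (Spec (CommRingCat.of L) ⟶ U))
    (hφ : ∀ ξ hξ, φ ξ hξ ≫ g = ξ)
    (S : Set (Spec (CommRingCat.of L) ⟶ Spec B)) (hS : S.Subsingleton) :
    ∃ (V : (Spec A).Etale) (y : Spec (CommRingCat.of K) ⟶ V.left) (hy : y ≫ V.hom = η)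
      (h : pullback V.hom (Spec.map ψ) ⟶ U), h ≫ g = pullback.snd _ _ ∧
      ∀ ξ (hξ : ξ ≫ Spec.map ψ = σ ≫ η), ξ ∈ S →
        pullback.lift (σ ≫ y) ξ (by rw [Category.assoc, hy, hξ]) ≫ h = φ ξ hξ := by
  obtain ⟨a, rfl⟩ := Spec.map_surjective η
  obtain ⟨s, rfl⟩ := Spec.map_surjective σ
  obtain ⟨c, hc⟩ := Spec.map_surjective (U.isoSpec.inv ≫ g)
  letI : Algebra A B := ψ.hom.toAlgebra
  haveI : Algebra.IsIntegral A B := ⟨hψ⟩
  letI : Algebra A K := a.hom.toAlgebra
  letI : Algebra K L := s.hom.toAlgebra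
  letI : Algebra A L := (a ≫ s).hom.toAlgebra
  haveI : IsScalarTower A K L := .of_algebraMap_eq fun _ => rfl
  letI : Algebra B Γ(U, ⊤) := c.hom.toAlgebra
  haveI : Algebra.Etale B Γ(U, ⊤) := by
    have : Etale (Spec.map c) := by rw [hc]; infer_instance
    exact RingHom.etale_algebraMap.1 ((HasRingHomProperty.Spec_iff (P := @Etale)).1 this)
  have hτ : ∀ τ : B →ₐ[A] L,
      Spec.map (CommRingCat.ofHom τ.toRingHom) ≫ Spec.map ψ = Spec.map s ≫ Spec.map a := fun τ => by
    rw [← Spec.map_comp, ← Spec.map_comp]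
    congr 1
    exact CommRingCat.hom_ext (RingHom.ext τ.commutes)
  choose w hw using fun τ => Spec.map_surjective (φ _ (hτ τ) ≫ U.isoSpec.hom)
  have hwb : ∀ (τ : B →ₐ[A] L) (b : B), (w τ).hom (algebraMap B Γ(U, ⊤) b) = τ b := fun τ b => by
    have : c ≫ w τ = CommRingCat.ofHom τ.toRingHom := by
      apply Spec.map_injective
      rw [Spec.map_comp, hw, hc, Category.assoc, Iso.hom_inv_id_assoc, hφ]
    exact RingHom.congr_fun (congrArg CommRingCat.Hom.hom this) b
  obtain ⟨T, _, _, hT, π, h, hh, hπ⟩ :=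
    exists_etale_split_integral (K := K) (L := L) (fun τ => (w τ).hom) hwb
      {τ | Spec.map (CommRingCat.ofHom τ.toRingHom) ∈ S}
      (fun τ₁ h₁ τ₂ h₂ => AlgHom.ext fun x =>
        RingHom.congr_fun (congrArg CommRingCat.Hom.hom (Spec.map_injective (hS h₁ h₂))) x)
  haveI : Etale (Spec.map (CommRingCat.ofHom (algebraMap A T))) :=
    (HasRingHomProperty.Spec_iff (P := @Etale)).2 (RingHom.etale_algebraMap.2 hT)
  refine ⟨Scheme.Etale.mk (Spec.map (CommRingCat.ofHom (algebraMap A T))),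
    Spec.map (CommRingCat.ofHom π.toRingHom), ?_,
    (pullbackSpecIso A T B).hom ≫ Spec.map (CommRingCat.ofHom h) ≫ U.isoSpec.inv, ?_, ?_⟩
  · show Spec.map _ ≫ Spec.map _ = _
    rw [← Spec.map_comp]
    congr 1
    exact CommRingCat.hom_ext (RingHom.ext π.commutes)
  · rw [Category.assoc, Category.assoc, ← hc, ← Spec.map_comp]
    have : c ≫ CommRingCat.ofHom h =
        CommRingCat.ofHom (Algebra.TensorProduct.includeRight (R := A) (A := T)).toRingHom :=
      CommRingCat.hom_ext hh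
    rw [this]
    exact pullbackSpecIso_hom_snd A T B
  · intro ξ hξ hmem
    obtain ⟨b, rfl⟩ := Spec.map_surjective ξ
    have hb : ψ ≫ b = a ≫ s := Spec.map_injective (by rw [Spec.map_comp, Spec.map_comp]; exact hξ)
    let τ : B →ₐ[A] L := ⟨b.hom, fun r => RingHom.congr_fun (congrArg CommRingCat.Hom.hom hb) r⟩
    have e : pullback.lift (Spec.map s ≫ Spec.map (CommRingCat.ofHom π.toRingHom)) (Spec.map b)
          (by
            rw [Category.assoc, ← Spec.map_comp, ← Spec.map_comp, ← Spec.map_comp]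
            refine (congrArg Spec.map ?_).trans rfl
            refine Eq.trans ?_ hb.symm
            refine congrArg (· ≫ s) ?_
            exact CommRingCat.hom_ext (RingHom.ext π.commutes)) ≫
        (pullbackSpecIso A T B).hom = Spec.map (CommRingCat.ofHom (tensorPoint π τ).toRingHom) := by
      rw [← cancel_mono (pullbackSpecIso A T B).inv, Category.assoc, Iso.hom_inv_id,
        Category.comp_id]
      apply pullback.hom_ext
      · rw [pullback.lift_fst, Category.assoc, pullbackSpecIso_inv_fst, ← Spec.map_comp,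
          ← Spec.map_comp]
        congr 1
        refine CommRingCat.hom_ext (RingHom.ext fun x => ?_)
        show algebraMap K L (π x) = tensorPoint π τ (x ⊗ₜ[A] 1)
        simp [tensorPoint]
      · rw [pullback.lift_snd, Category.assoc, pullbackSpecIso_inv_snd, ← Spec.map_comp]
        congr 1
        refine CommRingCat.hom_ext (RingHom.ext fun x => ?_)
        show b.hom x = tensorPoint π τ ((1 : T) ⊗ₜ[A] x)
        simp [tensorPoint, τ]
    refine (Category.assoc _ _ _).symm.trans ?_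
    refine (congrArg (· ≫ Spec.map (CommRingCat.ofHom h) ≫ U.isoSpec.inv) e).trans ?_
    have : CommRingCat.ofHom h ≫ CommRingCat.ofHom (tensorPoint π τ).toRingHom = w τ :=
      CommRingCat.hom_ext (RingHom.ext fun x => hπ τ hmem x)
    rw [← Category.assoc, ← Spec.map_comp, this, hw, Category.assoc, Iso.hom_inv_id,
      Category.comp_id]
    rfl

end Affine

section General

variable {X Y : Scheme.{u}} (f : X ⟶ Y) {K : Type u} [Field K] [IsSepClosed K] {L : Type u}
  [Field L] [IsAlgClosed L] (η : Spec (CommRingCat.of K) ⟶ Y)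
  (σ : Spec (CommRingCat.of L) ⟶ Spec (CommRingCat.of K))

omit [IsSepClosed K] in
set_option backward.isDefEq.respectTransparency.types false in
/-- An affine chart of an affine morphism around a point of the base. -/
theorem exists_affine_chart [IsAffineHom f] :
    ∃ (A B : CommRingCat.{u}) (ψ : A ⟶ B) (j : Spec A ⟶ Y) (_ : IsOpenImmersion j)
      (e : Spec B ⟶ X) (η₀ : Spec (CommRingCat.of K) ⟶ Spec A),
      η₀ ≫ j = η ∧ IsPullback e (Spec.map ψ) f j := by
  obtain ⟨A, j, hj, η₀, hη⟩ := exists_affine_factor η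
  have : IsAffine (pullback f j) := isAffine_of_isAffineHom (pullback.snd f j)
  obtain ⟨ψ, hψ⟩ := Spec.map_surjective ((pullback f j).isoSpec.inv ≫ pullback.snd f j)
  refine ⟨A, Γ(pullback f j, ⊤), ψ, j, hj, (pullback f j).isoSpec.inv ≫ pullback.fst f j, η₀, hη, ?_⟩
  exact (IsPullback.of_hasPullback f j).of_iso (pullback f j).isoSpec (Iso.refl _) (Iso.refl _)
    (Iso.refl _) (by simp) (by simp [hψ]) (by simp) (by simp)

set_option backward.isDefEq.respectTransparency.types false in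
/-- Prescribed points of an étale scheme over a finite `Y`-scheme are realized over an étale
neighbourhood of the geometric point. -/
theorem split_finite [IsFinite f] {U : Scheme.{u}} (g : U ⟶ X) [Etale g]
    (φ : ∀ ξ : Spec (CommRingCat.of L) ⟶ X, ξ ≫ f = σ ≫ η → (Spec (CommRingCat.of L) ⟶ U))
    (hφ : ∀ ξ hξ, φ ξ hξ ≫ g = ξ) :
    ∃ (V : Y.Etale) (y : Spec (CommRingCat.of K) ⟶ V.left) (hy : y ≫ V.hom = η)
      (h : pullback V.hom f ⟶ U), h ≫ g = pullback.snd _ _ ∧
      ∀ ξ (hξ : ξ ≫ f = σ ≫ η),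
        pullback.lift (σ ≫ y) ξ (by rw [Category.assoc, hy, hξ]) ≫ h = φ ξ hξ := by
  classical
  obtain ⟨A, B, ψ, j, hj, e, η₀, rfl, hB⟩ := exists_affine_chart f η
  have hψ : ψ.hom.Finite := (IsFinite.SpecMap_iff ψ).1 (MorphismProperty.of_isPullback hB inferInstance)
  -- the points of the affine chart
  let P := {ξ : Spec (CommRingCat.of L) ⟶ Spec B // ξ ≫ Spec.map ψ = σ ≫ η₀}
  have hfin : Finite P := by
    obtain ⟨a, ha⟩ := Spec.map_surjective (σ ≫ η₀)
    letI : Algebra A B := ψ.hom.toAlgebra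
    haveI : Module.Finite A B := hψ
    letI : Algebra A L := a.hom.toAlgebra
    haveI := finite_algHom (A := A) (B := B) L
    let Φ : (B →ₐ[A] L) → P := fun τ => ⟨Spec.map (CommRingCat.ofHom τ.toRingHom), by
      rw [← Spec.map_comp, ← ha]
      congr 1
      exact CommRingCat.hom_ext (RingHom.ext τ.commutes)⟩
    refine Finite.of_surjective Φ fun ⟨ξ, hξ⟩ => ?_
    obtain ⟨b, rfl⟩ := Spec.map_surjective ξ
    have hb : ψ ≫ b = a := Spec.map_injective (by rw [Spec.map_comp]; exact hξ.trans ha.symm)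
    exact ⟨⟨b.hom, fun r => RingHom.congr_fun (congrArg CommRingCat.Hom.hom hb) r⟩, rfl⟩
  have hP : ∀ p : P, (p.1 ≫ e) ≫ f = σ ≫ η₀ ≫ j := fun p => by
    rw [Category.assoc, hB.w, ← Category.assoc, p.2, Category.assoc]
  let u₀ : P → (Spec (CommRingCat.of L) ⟶ pullback g e) := fun p =>
    pullback.lift (φ _ (hP p)) p.1 (hφ _ (hP p))
  choose R jR hjR u₁ hu₁ using fun p => exists_affine_factor (u₀ p)
  let g' : (∐ fun p => Spec (R p)) ⟶ Spec B := Sigma.desc fun p => jR p ≫ pullback.snd g e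
  have : Etale g' := etale_sigmaDesc _
  obtain ⟨V, y, hy, h, hh, hhξ⟩ := split_affine_finite ψ η₀ σ hψ g'
    (fun ξ hξ => u₁ ⟨ξ, hξ⟩ ≫ Sigma.ι (fun p => Spec (R p)) (⟨ξ, hξ⟩ : P))
    (fun ξ hξ => by
      simp only [g', Category.assoc, Sigma.ι_desc]
      rw [← Category.assoc, hu₁]
      exact pullback.lift_snd _ _ _)
  let V' : Y.Etale := Scheme.Etale.mk (V.hom ≫ j)
  let k : pullback (V.hom ≫ j) f ⟶ Spec B := hB.lift (pullback.snd _ _) (pullback.fst (V.hom ≫ j) f ≫ V.hom)
    (by rw [Category.assoc]; exact pullback.condition.symm)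
  let m : pullback (V.hom ≫ j) f ⟶ pullback V.hom (Spec.map ψ) :=
    pullback.lift (pullback.fst (V.hom ≫ j) f) k (hB.lift_snd _ _ _).symm
  have hm : m ≫ h ≫ g' = k := by rw [hh]; exact pullback.lift_snd _ _ _
  refine ⟨V', y, ?_, m ≫ h ≫ Sigma.desc fun p => jR p ≫ pullback.fst g e, ?_, ?_⟩
  · exact (Category.assoc _ _ _).symm.trans (congrArg (· ≫ j) hy)
  · have : (Sigma.desc fun p => jR p ≫ pullback.fst g e) ≫ g = g' ≫ e := by
      refine Sigma.hom_ext _ _ fun p => ?_
      simp [g', pullback.condition]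
    show (m ≫ h ≫ Sigma.desc fun p => jR p ≫ pullback.fst g e) ≫ g = pullback.snd (V.hom ≫ j) f
    rw [Category.assoc, Category.assoc, this, ← Category.assoc h, ← Category.assoc m, hm]
    exact hB.lift_fst _ _ _
  · intro ξ hξ
    let ξ₀ := hB.lift ξ (σ ≫ η₀) (by rw [hξ, Category.assoc])
    have hξ₀ : ξ₀ ≫ Spec.map ψ = σ ≫ η₀ := hB.lift_snd _ _ _
    have h1 : ξ₀ ≫ e = ξ := hB.lift_fst _ _ _
    have e1 : pullback.lift (σ ≫ y) ξ (by
        rw [Category.assoc, hξ]
        exact congrArg (σ ≫ ·) ((Category.assoc _ _ _).symm.trans (congrArg (· ≫ j) hy))) ≫ m =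
        pullback.lift (σ ≫ y) ξ₀ (by rw [Category.assoc, hy, hξ₀]) := by
      apply pullback.hom_ext
      · simp only [m, Category.assoc]
        exact ((congrArg (_ ≫ ·) (pullback.lift_fst _ _ _)).trans (pullback.lift_fst _ _ _)).trans
          (pullback.lift_fst _ _ _).symm
      · simp only [m, Category.assoc]
        refine ((congrArg (_ ≫ ·) (pullback.lift_snd _ _ _)).trans ?_).trans
          (pullback.lift_snd _ _ _).symm
        refine hB.hom_ext ?_ ?_
        · refine (Category.assoc _ _ _).trans ?_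
          refine (congrArg (_ ≫ ·) (hB.lift_fst _ _ _)).trans ?_
          exact (pullback.lift_snd _ _ _).trans h1.symm
        · refine (Category.assoc _ _ _).trans ?_
          refine (congrArg (_ ≫ ·) (hB.lift_snd _ _ _)).trans ?_
          refine (Category.assoc _ _ _).symm.trans ?_
          refine (congrArg (· ≫ _) (pullback.lift_fst _ _ _)).trans ?_
          rw [hξ₀, Category.assoc, hy]
    refine (Category.assoc _ _ _).symm.trans ((congrArg (· ≫ h ≫ _) e1).trans ?_)
    rw [← Category.assoc, hhξ ξ₀ hξ₀]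
    simp only [Category.assoc, Sigma.ι_desc]
    rw [← Category.assoc, hu₁]
    simp only [u₀, pullback.lift_fst]
    congr 1

omit [IsAlgClosed L] in
set_option backward.isDefEq.respectTransparency.types false in
/-- Pieces of an étale scheme covering a compact set. -/
theorem exists_finite_affine_pieces {U : Scheme.{u}} (g : U ⟶ X) [Etale g] (F : Set X)
    (hF : IsCompact F) (hcov : F ⊆ Set.range g) :
    ∃ (ι : Type u) (_ : Finite ι) (R : ι → CommRingCat.{u}) (k : ∀ i, Spec (R i) ⟶ U),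
      (∀ i, IsOpenImmersion (k i)) ∧ ∀ x ∈ F, ∃ i, x ∈ Set.range (k i ≫ g) := by
  classical
  have h : ∀ x : F, ∃ (R : CommRingCat.{u}) (k : Spec R ⟶ U) (_ : IsOpenImmersion k),
      (x : X) ∈ Set.range (k ≫ g) := fun x => by
    obtain ⟨z, hz⟩ := hcov x.2
    obtain ⟨R, k, hk, ⟨w, rfl⟩, -⟩ := Scheme.exists_affine_mem_range_and_range_subset
      (x := z) (U := ⊤) (by trivial)
    exact ⟨R, k, hk, w, by rw [← hz, Scheme.Hom.comp_apply]⟩
  choose R k hk hx using h
  obtain ⟨t, ht⟩ := hF.elim_finite_subcover (fun x : F => Set.range (k x ≫ g))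
    (fun x => (k x ≫ g).isOpenMap.isOpen_range)
    fun x hxF => Set.mem_iUnion.2 ⟨⟨x, hxF⟩, hx ⟨x, hxF⟩⟩
  refine ⟨t, inferInstance, fun i => R i.1, fun i => k i.1, fun i => hk i.1, fun x hxF => ?_⟩
  obtain ⟨i, hi, hxi⟩ := Set.mem_iUnion₂.1 (ht hxF)
  exact ⟨⟨i, hi⟩, hxi⟩

set_option backward.isDefEq.respectTransparency.types false in
/-- An étale scheme over an integral `Y`-scheme covering the fibre of a geometric point receives
the base change of an étale neighbourhood of that point, realizing a prescribed point. -/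
theorem split_integral_point [IsIntegralHom f] {U : Scheme.{u}} (g : U ⟶ X) [Etale g]
    (hU : ∀ x : X, f x = η default → x ∈ Set.range g)
    (S : Set (Spec (CommRingCat.of L) ⟶ U)) (hS : S.Subsingleton)
    (hSη : ∀ x ∈ S, (x ≫ g) ≫ f = σ ≫ η) :
    ∃ (V : Y.Etale) (y : Spec (CommRingCat.of K) ⟶ V.left) (hy : y ≫ V.hom = η)
      (h : pullback V.hom f ⟶ U), h ≫ g = pullback.snd _ _ ∧
        ∀ x, (hx : x ∈ S) → pullback.lift (σ ≫ y) (x ≫ g)
          (by rw [Category.assoc, hy, hSη x hx]) ≫ h = x := by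
  classical
  obtain ⟨A, B, ψ, j, hj, e, η₀, rfl, hB⟩ := exists_affine_chart f η
  have hψ : ψ.hom.IsIntegral :=
    (IsIntegralHom.SpecMap_iff).1 (MorphismProperty.of_isPullback hB inferInstance)
  let a₀ : Spec A := η₀ (default : Spec (CommRingCat.of K))
  let F : Set (Spec B) := Spec.map ψ ⁻¹' {a₀}
  have hF : F ⊆ Set.range (pullback.snd g e) := fun x hx => by
    rw [Scheme.Pullback.range_snd]
    refine hU (e x) ?_
    rw [← Scheme.Hom.comp_apply, hB.w, Scheme.Hom.comp_apply, hx, Scheme.Hom.comp_apply]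
  obtain ⟨ι, _, R, k, hk, hcov⟩ := exists_finite_affine_pieces (pullback.snd g e) F
    ((Spec.map ψ).isCompact_preimage_singleton a₀) hF
  let ξ₀ : S → (Spec (CommRingCat.of L) ⟶ Spec B) := fun x =>
    hB.lift (x.1 ≫ g) (σ ≫ η₀) (by rw [hSη x.1 x.2, Category.assoc])
  have hξ₀ : ∀ x, ξ₀ x ≫ Spec.map ψ = σ ≫ η₀ := fun x => hB.lift_snd _ _ _
  have he₀ : ∀ x, ξ₀ x ≫ e = x.1 ≫ g := fun x => hB.lift_fst _ _ _
  choose R₁ j₁ hj₁ u₁ hu₁ using fun x : S =>
    exists_affine_factor (pullback.lift x.1 (ξ₀ x) (he₀ x).symm : _ ⟶ pullback g e)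
  haveI : Finite S := hS.finite.to_subtype
  let Q : ι ⊕ S → CommRingCat.{u} := Sum.elim R R₁
  let q : ∀ i, Spec (Q i) ⟶ pullback g e
    | .inl i => k i
    | .inr x => j₁ x
  have hq : ∀ i, IsOpenImmersion (q i)
    | .inl i => hk i
    | .inr x => hj₁ x
  let g' : (∐ fun i => Spec (Q i)) ⟶ Spec B := Sigma.desc fun i => q i ≫ pullback.snd g e
  have : Etale g' := etale_sigmaDesc _
  let ιl : ∀ i : ι, Spec (R i) ⟶ ∐ fun i => Spec (Q i) :=
    fun i => Sigma.ι (fun i => Spec (Q i)) (.inl i)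
  let ιr : ∀ x : S, Spec (R₁ x) ⟶ ∐ fun i => Spec (Q i) :=
    fun x => Sigma.ι (fun i => Spec (Q i)) (.inr x)
  have hιl : ∀ i, ιl i ≫ g' = k i ≫ pullback.snd g e := fun i => Sigma.ι_desc _ _
  have hιr : ∀ x, ιr x ≫ g' = j₁ x ≫ pullback.snd g e := fun x => Sigma.ι_desc _ _
  have hlift : ∀ ξ : Spec (CommRingCat.of L) ⟶ Spec B, ξ ≫ Spec.map ψ = σ ≫ η₀ →
      ∃ u, u ≫ g' = ξ ∧ ∀ x : S, ξ = ξ₀ x → u = u₁ x ≫ ιr x := by
    intro ξ hξ
    by_cases hx : ∃ x : S, ξ = ξ₀ x
    · obtain ⟨x, rfl⟩ := hx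
      refine ⟨u₁ x ≫ ιr x, ?_, fun x' _ => ?_⟩
      · rw [Category.assoc, hιr, ← Category.assoc, hu₁]
        exact pullback.lift_snd _ _ _
      · obtain rfl : x = x' := Subtype.ext (hS x.2 x'.2)
        rfl
    · have hp : ξ (default : Spec (CommRingCat.of L)) ∈ F := by
        show Spec.map ψ _ = a₀
        rw [← Scheme.Hom.comp_apply, hξ, Scheme.Hom.comp_apply]
        exact congrArg η₀ (Subsingleton.elim _ _)
      obtain ⟨i, w, hw⟩ := hcov _ hp
      haveI := hk i
      obtain ⟨l, hl, -⟩ := Scheme.exists_fac_of_etale_of_isSepClosed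
        (k i ≫ pullback.snd g e) ξ w hw
      refine ⟨l ≫ ιl i, ?_, fun x h => absurd ⟨x, h⟩ hx⟩
      rw [Category.assoc, hιl]
      exact hl
  choose φ hφ hφ₀ using hlift
  obtain ⟨V, y, hy, h, hh, hhξ⟩ := split_affine_integral ψ η₀ σ hψ g' φ hφ
    (Set.range ξ₀) (by
      rintro _ ⟨x, rfl⟩ _ ⟨x', rfl⟩
      rw [Subtype.ext (hS x.2 x'.2) (a2 := x')])
  let V' : Y.Etale := Scheme.Etale.mk (V.hom ≫ j)
  let l : pullback (V.hom ≫ j) f ⟶ Spec B := hB.lift (pullback.snd _ _) (pullback.fst (V.hom ≫ j) f ≫ V.hom)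
    (by rw [Category.assoc]; exact pullback.condition.symm)
  let m : pullback (V.hom ≫ j) f ⟶ pullback V.hom (Spec.map ψ) :=
    pullback.lift (pullback.fst (V.hom ≫ j) f) l (hB.lift_snd _ _ _).symm
  have hm : m ≫ h ≫ g' = l := by
    rw [hh]; exact pullback.lift_snd _ _ _
  refine ⟨V', y, (Category.assoc _ _ _).symm.trans (congrArg (· ≫ j) hy),
    m ≫ h ≫ Sigma.desc fun i => q i ≫ pullback.fst g e, ?_, ?_⟩
  · have : (Sigma.desc fun i => q i ≫ pullback.fst g e) ≫ g = g' ≫ e := by
      refine Sigma.hom_ext _ _ fun p => ?_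
      simp [g', pullback.condition]
    show (m ≫ h ≫ Sigma.desc fun i => q i ≫ pullback.fst g e) ≫ g = pullback.snd (V.hom ≫ j) f
    rw [Category.assoc, Category.assoc, this, ← Category.assoc h, ← Category.assoc m, hm]
    exact hB.lift_fst _ _ _
  · intro x hx
    have e1 : pullback.lift (σ ≫ y) (x ≫ g) (by
        rw [Category.assoc, hSη x hx]
        exact congrArg (σ ≫ ·) ((Category.assoc _ _ _).symm.trans (congrArg (· ≫ j) hy))) ≫ m =
        pullback.lift (σ ≫ y) (ξ₀ ⟨x, hx⟩) (by rw [Category.assoc, hy, hξ₀]) := by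
      apply pullback.hom_ext
      · simp only [m, Category.assoc]
        exact ((congrArg (_ ≫ ·) (pullback.lift_fst _ _ _)).trans (pullback.lift_fst _ _ _)).trans
          (pullback.lift_fst _ _ _).symm
      · simp only [m, Category.assoc]
        refine ((congrArg (_ ≫ ·) (pullback.lift_snd _ _ _)).trans ?_).trans
          (pullback.lift_snd _ _ _).symm
        refine hB.hom_ext ?_ ?_
        · refine (Category.assoc _ _ _).trans ?_
          refine (congrArg (_ ≫ ·) (hB.lift_fst _ _ _)).trans ?_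
          exact (pullback.lift_snd _ _ _).trans (he₀ ⟨x, hx⟩).symm
        · refine (Category.assoc _ _ _).trans ?_
          refine (congrArg (_ ≫ ·) (hB.lift_snd _ _ _)).trans ?_
          refine (Category.assoc _ _ _).symm.trans ?_
          refine (congrArg (· ≫ _) (pullback.lift_fst _ _ _)).trans ?_
          rw [hξ₀, Category.assoc, hy]
    refine (Category.assoc _ _ _).symm.trans ((congrArg (· ≫ h ≫ _) e1).trans ?_)
    have hd : ιr ⟨x, hx⟩ ≫ (Sigma.desc fun i => q i ≫ pullback.fst g e) =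
        j₁ ⟨x, hx⟩ ≫ pullback.fst g e := Sigma.ι_desc _ _
    rw [← Category.assoc, hhξ _ (hξ₀ ⟨x, hx⟩) ⟨_, rfl⟩, hφ₀ _ _ ⟨x, hx⟩ rfl, Category.assoc,
      hd, ← Category.assoc, hu₁]
    exact pullback.lift_fst _ _ _

omit L σ in
/-- An étale scheme over an integral `Y`-scheme covering the fibre of a geometric point receives
the base change of an étale neighbourhood of that point. -/
theorem split_integral [IsIntegralHom f] {U : Scheme.{u}} (g : U ⟶ X) [Etale g]
    (hU : ∀ x : X, f x = η default → x ∈ Set.range g) :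
    ∃ (V : Y.Etale) (y : Spec (CommRingCat.of K) ⟶ V.left) (_ : y ≫ V.hom = η)
      (h : pullback V.hom f ⟶ U), h ≫ g = pullback.snd _ _ := by
  obtain ⟨V, y, hy, h, hh, -⟩ := split_integral_point f η
    (Spec.map (CommRingCat.ofHom (algebraMap K (AlgebraicClosure K)))) g hU ∅
    Set.subsingleton_empty (fun _ hx => hx.elim)
  exact ⟨V, y, hy, h, hh⟩

end General

end Groth.Agent.EtaleSite
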