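import Groth.Agent.EtaleSite.Clopen
import Groth.Agent.EtaleSite.SplitScheme
import Groth.Agent.EtaleSite.Pull
import Groth.Prelude.Def_EtBase

/-!
# Direct image along integral morphisms is exact
-/

set_option linter.style.haveILetI false

universe u

open CategoryTheory CategoryTheory.Limits AlgebraicGeometry Opposite

namespace Groth.Agent.EtaleSite

variable {X Y : Scheme.{u}} (f : X ⟶ Y)

/-- An étale scheme over an integral `Y`-scheme covering a fibre receives the base change of an
étale neighbourhood of the point. -/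
theorem exists_nbhd_factor [IsIntegralHom f] {U : Scheme.{u}} (g : U ⟶ X) [Etale g] (y : Y)
    (hU : ∀ x : X, f x = y → x ∈ Set.range g) :
    ∃ V : Y.Etale, (∃ v : V.left, V.hom v = y) ∧
      ∃ h : pullback V.hom f ⟶ U, h ≫ g = pullback.snd _ _ := by
  obtain ⟨V, z, hz, h, hh⟩ := split_integral f (geomPointAt Y y) g fun x hx =>
    hU x (hx.trans (geomPointAt_apply Y y _))
  refine ⟨V, ⟨z default, ?_⟩, h, hh⟩
  rw [← Scheme.Hom.comp_apply, hz, geomPointAt_apply]

set_option backward.isDefEq.respectTransparency.types false in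
/-- Coverings of a pullback along an integral morphism are dominated, near each point of the base,
by a disjoint decomposition of the pullback of an étale neighbourhood. -/
theorem exists_nbhd_pieces [IsIntegralHom f] (V : Y.Etale) {ι : Type u} (Z : ι → X.Etale)
    (g : ∀ i, Z i ⟶ (EtCoh.bc f).obj V)
    (hg : ∀ x : ((EtCoh.bc f).obj V).left, ∃ i z, (g i).left z = x) (v : V.left) :
    ∃ (V' : Y.Etale) (e : V' ⟶ V), (∃ v' : V'.left, e.left v' = v) ∧
      ∃ W : ι → ((EtCoh.bc f).obj V').left.Opens,
        (∀ a b, a ≠ b → Disjoint (W a) (W b)) ∧ (∀ x, ∃ a, x ∈ W a) ∧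
        ∀ a, ∃ k : piece ((EtCoh.bc f).obj V') (W a) ⟶ Z a,
          k ≫ g a = pieceHom _ (W a) ≫ (EtCoh.bc f).map e := by
  have : ∀ i, Etale (g i).left := fun i => by
    haveI : Etale ((EtCoh.bc f).obj V).hom := ((EtCoh.bc f).obj V).prop
    haveI : Etale ((g i).left ≫ ((EtCoh.bc f).obj V).hom) := by
      rw [MorphismProperty.Over.w (g i)]; exact (Z i).prop
    exact Etale.of_comp (g i).left ((EtCoh.bc f).obj V).hom
  let g' : ∀ i, (Z i).left ⟶ pullback V.hom f := fun i => (g i).left
  have : ∀ i, Etale (g' i) := this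
  let G : (∐ fun i => (Z i).left) ⟶ pullback V.hom f := Sigma.desc g'
  have : Etale G := etale_sigmaDesc _
  obtain ⟨V'', ⟨w, hw⟩, h, hh⟩ := exists_nbhd_factor (pullback.fst V.hom f) G v fun x _ => by
    obtain ⟨i, z, hz⟩ := hg x
    exact ⟨Sigma.ι (fun i => (Z i).left) i z, by
      rw [← Scheme.Hom.comp_apply]
      exact (congrArg (fun q : (Z i).left ⟶ pullback V.hom f => q z) (Sigma.ι_desc _ i)).trans hz⟩
  let V' : Y.Etale := Scheme.Etale.mk (V''.hom ≫ V.hom)
  let e : V' ⟶ V := MorphismProperty.Over.homMk V''.hom rfl trivial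
  let m : ((EtCoh.bc f).obj V').left ⟶ pullback V''.hom (pullback.fst V.hom f) :=
    pullback.lift (pullback.fst V'.hom f) ((EtCoh.bc f).map e).left
      (EtCoh.isPullback_bc_map f e).w.symm
  have hm : m ≫ h ≫ G = ((EtCoh.bc f).map e).left := by
    rw [hh]; exact pullback.lift_snd _ _ _
  obtain ⟨W, hd, hc, hk⟩ := exists_pieces (m ≫ h)
  refine ⟨V', e, ⟨w, hw⟩, W, hd, hc, fun a => ?_⟩
  obtain ⟨k, hk⟩ := hk a
  have hkg : k ≫ (g a).left = (W a).ι ≫ ((EtCoh.bc f).map e).left := by
    refine ((congrArg (k ≫ ·) (Sigma.ι_desc g' a)).symm.trans ?_).trans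
      (congrArg ((W a).ι ≫ ·) hm)
    exact (Category.assoc _ _ _).symm.trans ((congrArg (· ≫ G) hk).trans
      ((Category.assoc _ _ _).trans (congrArg ((W a).ι ≫ ·) (Category.assoc _ _ _))))
  refine ⟨MorphismProperty.Over.homMk k ?_ trivial, MorphismProperty.Over.Hom.ext hkg⟩
  show k ≫ (Z a).hom = (W a).ι ≫ ((EtCoh.bc f).obj V').hom
  rw [← MorphismProperty.Over.w (g a), ← MorphismProperty.Over.w ((EtCoh.bc f).map e)]
  exact (Category.assoc _ _ _).symm.trans ((congrArg (· ≫ _) hkg).trans (Category.assoc _ _ _))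

set_option backward.isDefEq.respectTransparency.types false in
/-- Direct image along an integral morphism preserves epimorphisms. -/
theorem epi_push_map [IsIntegralHom f] {F G : EtCoh.Ab X} (a : F ⟶ G) [Epi a] :
    Epi ((EtCoh.push f).map a) := by
  have ha : Sheaf.IsLocallySurjective a :=
    isLocallySurjective_of_stalk a fun Ω _ _ ξ => (epi_iff_stalk a).1 inferInstance Ω ξ
  suffices Sheaf.IsLocallySurjective ((EtCoh.push f).map a) from inferInstance
  constructor
  intro V t
  refine mem_topology_of_forall_exists _ fun v => ?_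
  have hcov := Presheaf.imageSieve_mem X.smallEtaleTopology a.hom
    (U := op ((EtCoh.bc f).obj V)) t
  choose Z g z hs hz using exists_of_mem_topology hcov
  obtain ⟨V', e, ⟨v', hv'⟩, W, hd, hc, hk⟩ :=
    exists_nbhd_pieces f V Z g (fun x => ⟨x, z x, hz x⟩) v
  choose k hk using hk
  choose s hs using hs
  obtain ⟨r, hr⟩ := exists_glue_disjoint F W hd hc fun x => F.obj.map (k x).op (s x)
  refine ⟨V', e, v', ⟨r, ?_⟩, hv'⟩
  refine eq_of_pieces G W hc _ _ fun x => ?_
  show G.obj.map _ (a.hom.app _ r) = G.obj.map _ (G.obj.map ((EtCoh.bc f).map e).op t)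
  rw [← NatTrans.naturality_apply, hr, NatTrans.naturality_apply, hs, ← ConcreteCategory.comp_apply,
    ← Functor.map_comp, ← ConcreteCategory.comp_apply, ← Functor.map_comp, ← op_comp, ← op_comp, hk]

instance preservesEpimorphisms_push [IsIntegralHom f] : (EtCoh.push f).PreservesEpimorphisms :=
  ⟨fun a _ => epi_push_map f a⟩

/-- Direct image along an integral morphism is right exact. -/
instance preservesFiniteColimits_push [IsIntegralHom f] : PreservesFiniteColimits (EtCoh.push f) :=
  have : PreservesFiniteLimits (EtCoh.push f) :=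
    have : PreservesLimitsOfSize.{0, 0} (EtCoh.push f) :=
      (EtCoh.pullPushAdj f).rightAdjoint_preservesLimits
    PreservesLimitsOfSize.preservesFiniteLimits _
  ((((EtCoh.push f).exact_tfae.out 0 3 rfl rfl).1 fun S hS =>
    have h := (EtCoh.push f).preservesFiniteLimits_iff_forall_exact_map_and_mono.1 inferInstance S hS
    have := hS.epi_g
    { exact := h.1, mono_f := h.2, epi_g := epi_push_map f S.g }) :
      PreservesFiniteLimits (EtCoh.push f) ∧ PreservesFiniteColimits (EtCoh.push f)).2

end Groth.Agent.EtaleSite
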