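import Groth.Agent.EtaleSite.Stalk
import Mathlib.Algebra.Category.Grp.Limits
import Mathlib.CategoryTheory.Sites.EpiMono

/-!
# Gluing sections along decompositions into disjoint open pieces
-/

universe u

open CategoryTheory CategoryTheory.Limits AlgebraicGeometry Opposite

namespace Groth.Agent.EtaleSite

variable {X : Scheme.{u}}

/-- Sections over an empty scheme form a trivial group. -/
theorem sect_subsingleton_of_isEmpty (F : EtCoh.Ab X) (U : X.Etale) [IsEmpty U.left] :
    Subsingleton (F.obj.obj (op U)) := by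
  refine ⟨fun s t => F.property.isSeparated _ (⊥ : Sieve U) ?_ s t fun V g hg => hg.elim⟩
  exact mem_topology_of_forall_exists _ fun u => isEmptyElim u

/-- The presheaf of sets underlying an abelian sheaf is a sheaf. -/
theorem isSheaf_forget (F : EtCoh.Ab X) :
    Presieve.IsSheaf X.smallEtaleTopology (F.obj ⋙ forget AddCommGrpCat.{u + 1}) :=
  (isSheaf_iff_isSheaf_of_type _ _).1 (Presheaf.isSheaf_comp_of_isSheaf _ _ _ F.property)

/-- The open piece of an étale `X`-scheme. -/
abbrev piece (U : X.Etale) (W : U.left.Opens) : X.Etale := Scheme.Etale.mk (W.ι ≫ U.hom)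

/-- The inclusion of an open piece. -/
abbrev pieceHom (U : X.Etale) (W : U.left.Opens) : piece U W ⟶ U :=
  MorphismProperty.Over.homMk W.ι rfl trivial

/-- Sections glue along a decomposition into disjoint open pieces. -/
theorem exists_glue_disjoint (F : EtCoh.Ab X) {U : X.Etale} {μ : Type*} (W : μ → U.left.Opens)
    (hd : ∀ a b, a ≠ b → Disjoint (W a) (W b)) (hc : ∀ x : U.left, ∃ a, x ∈ W a)
    (s : ∀ a, F.obj.obj (op (piece U (W a)))) :
    ∃ t : F.obj.obj (op U), ∀ a, F.obj.map (pieceHom U (W a)).op t = s a := by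
  let P := F.obj ⋙ forget AddCommGrpCat.{u + 1}
  have hP : (Presieve.ofArrows (fun a => piece U (W a)) fun a => pieceHom U (W a)).IsSheafFor P := by
    rw [Presieve.isSheafFor_iff_generate]
    refine isSheaf_forget F _ (mem_topology_of_forall_exists _ fun u => ?_)
    obtain ⟨a, ha⟩ := hc u
    exact ⟨piece U (W a), pieceHom U (W a), (⟨u, ha⟩ : W a), Sieve.le_generate _ _ _ (Presieve.ofArrows.mk a), rfl⟩
  rw [Presieve.isSheafFor_arrows_iff] at hP
  obtain ⟨t, ht, -⟩ := hP s fun a b Z ga gb h => by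
    by_cases hab : a = b
    · subst hab
      have : ga = gb := by
        apply MorphismProperty.Over.Hom.ext
        refine (cancel_mono (W a).ι).1 ?_
        exact congrArg (fun k => k.left) h
      rw [this]
    · have : IsEmpty Z.left := ⟨fun z => by
        have e : (W a).ι (ga.left z) = (W b).ι (gb.left z) :=
          congrArg (fun k => k.left z) h
        have h2 := (gb.left z).2
        exact ((hd a b hab).le_bot (show (W a).ι (ga.left z) ∈ W a ⊓ W b from ⟨(ga.left z).2, e ▸ h2⟩) : False)⟩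
      exact (sect_subsingleton_of_isEmpty F Z).elim _ _
  exact ⟨t, ht⟩

/-- Sections are determined by their restrictions to open pieces covering the scheme. -/
theorem eq_of_pieces (F : EtCoh.Ab X) {U : X.Etale} {μ : Type*} (W : μ → U.left.Opens)
    (hc : ∀ x : U.left, ∃ a, x ∈ W a) (s t : F.obj.obj (op U))
    (h : ∀ a, F.obj.map (pieceHom U (W a)).op s = F.obj.map (pieceHom U (W a)).op t) : s = t := by
  have hS : Presheaf.equalizerSieve (F := F.obj) s t ∈ X.smallEtaleTopology U := by
    refine mem_topology_of_forall_exists _ fun u => ?_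
    obtain ⟨a, ha⟩ := hc u
    exact ⟨piece U (W a), pieceHom U (W a), (⟨u, ha⟩ : W a), h a, rfl⟩
  exact F.property.isSeparated _ _ hS s t fun V g hg => hg

/-- A covering sieve of the small étale site reaches every point. -/
theorem exists_of_mem_topology {U : X.Etale} {S : Sieve U} (hS : S ∈ X.smallEtaleTopology U)
    (u : U.left) : ∃ (V : X.Etale) (g : V ⟶ U) (v : V.left), S g ∧ g.left v = u := by
  rw [show X.smallEtaleTopology =
      (X.smallPretopology (P := EtCoh.etaleMP) (Q := EtCoh.etaleMP)).toGrothendieck from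
    Scheme.smallGrothendieckTopology_eq_toGrothendieck_smallPretopology X le_rfl] at hS
  obtain ⟨V, g, v, hg, -, hv⟩ := (Scheme.mem_toGrothendieck_smallPretopology U S).1 hS u
  exact ⟨V, g, v, hg, hv⟩

/-- A morphism into a disjoint union cuts the source into disjoint open pieces. -/
theorem exists_pieces {ι : Type u} {U : ι → Scheme.{u}} {P : Scheme.{u}} (h : P ⟶ ∐ U) :
    ∃ W : ι → P.Opens, (∀ a b, a ≠ b → Disjoint (W a) (W b)) ∧ (∀ x : P, ∃ a, x ∈ W a) ∧
      ∀ a, ∃ k : (W a : Scheme.{u}) ⟶ U a, k ≫ Sigma.ι U a = (W a).ι ≫ h := by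
  refine ⟨fun a => h ⁻¹ᵁ (Sigma.ι U a).opensRange, fun a b hab => ?_, fun x => ?_, fun a => ?_⟩
  · exact disjoint_iff.2 <| le_bot_iff.1 fun x hx =>
      (disjoint_opensRange_sigmaι U a b hab).le_bot (show h x ∈ _ ⊓ _ from ⟨hx.1, hx.2⟩)
  · exact ⟨(sigmaOpenCover U).idx (h x), (sigmaOpenCover U).covers (h x)⟩
  · refine ⟨IsOpenImmersion.lift (Sigma.ι U a) ((h ⁻¹ᵁ (Sigma.ι U a).opensRange).ι ≫ h) ?_,
      IsOpenImmersion.lift_fac _ _ _⟩
    rintro _ ⟨z, rfl⟩
    exact z.2

end Groth.Agent.EtaleSite
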