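import Groth.Agent.EtaleSite.Points
import Groth.Agent.EtaleSite.Clopen
import Groth.Agent.S0658
import Mathlib.AlgebraicGeometry.Morphisms.Separated
import Mathlib.CategoryTheory.CofilteredSystem
import Mathlib.Topology.Sober

/-!
# The points of the small étale site are the geometric points

A point `p` of `S_et` determines in every `(U, x)`, `x ∈ p(U)`, a point of `U` (the generic point of
the complement of the opens to which `x` does not lift). A compatible system of geometric points
over these points exists by compactness, and it identifies `p` with a geometric point.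
-/

set_option linter.style.haveILetI false

universe u

open CategoryTheory CategoryTheory.Limits AlgebraicGeometry Opposite

namespace Groth.Agent.EtaleSite.PointClassify

variable {S : Scheme.{u}} (p : GrothendieckTopology.Point.{u} S.smallEtaleTopology)

/-- `x` comes from the open `W`. -/
def LiftsTo (U : S.Etale) (x : p.fiber.obj U) (W : U.left.Opens) : Prop :=
  ∃ w : p.fiber.obj (piece U W), p.fiber.map (pieceHom U W) w = x

variable {p}

theorem exists_map_eq_of_sieve {U : S.Etale} (x : p.fiber.obj U) (R : Sieve U)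
    (h : ∀ u : U.left, ∃ (V : S.Etale) (g : V ⟶ U) (v : V.left), R g ∧ g.left v = u) :
    ∃ (V : S.Etale) (g : V ⟶ U) (_ : R g) (y : p.fiber.obj V), p.fiber.map g y = x :=
  p.jointly_surjective R (mem_topology_of_forall_exists R h) x

theorem map_map {U V W : S.Etale} (f : U ⟶ V) (g : V ⟶ W) (x : p.fiber.obj U) :
    p.fiber.map g (p.fiber.map f x) = p.fiber.map (f ≫ g) x :=
  ((ConcreteCategory.congr_hom (p.fiber.map_comp f g) x)).symm

/-- A morphism whose image lies in an open factors through it. -/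
noncomputable def toPiece {U V : S.Etale} (g : V ⟶ U) (W : U.left.Opens)
    (h : ∀ v, g.left v ∈ W) : V ⟶ piece U W :=
  MorphismProperty.Over.homMk
    (IsOpenImmersion.lift (X := (W : Scheme.{u})) (Z := U.left) W.ι g.left (by
      rintro _ ⟨v, rfl⟩
      rw [Scheme.Opens.range_ι]
      exact h v))
    ((Category.assoc _ _ _).symm.trans ((congrArg (· ≫ U.hom)
      (IsOpenImmersion.lift_fac (X := (W : Scheme.{u})) (Z := U.left) W.ι g.left _)).trans
        (MorphismProperty.Over.w g))) trivial

theorem toPiece_pieceHom {U V : S.Etale} (g : V ⟶ U) (W : U.left.Opens) (h : ∀ v, g.left v ∈ W) :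
    toPiece g W h ≫ pieceHom U W = g :=
  MorphismProperty.Over.Hom.ext
    (IsOpenImmersion.lift_fac (X := (W : Scheme.{u})) (Z := U.left) W.ι g.left _)

theorem liftsTo_of_map {U V : S.Etale} (g : V ⟶ U) (y : p.fiber.obj V) (W : U.left.Opens)
    (h : ∀ v, g.left v ∈ W) : LiftsTo p U (p.fiber.map g y) W :=
  ⟨p.fiber.map (toPiece g W h) y, by rw [map_map, toPiece_pieceHom]⟩

theorem liftsTo_sSup {U : S.Etale} {x : p.fiber.obj U} (s : Set U.left.Opens)
    (h : LiftsTo p U x (sSup s)) : ∃ W ∈ s, LiftsTo p U x W := by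
  obtain ⟨w, rfl⟩ := h
  let R : Sieve (piece U (sSup s)) :=
    { arrows := fun V g => ∃ W ∈ s, ∀ v, (g ≫ pieceHom U (sSup s)).left v ∈ W
      downward_closed := by
        rintro V V' g ⟨W, hW, hg⟩ k
        exact ⟨W, hW, fun v => hg (k.left v)⟩ }
  obtain ⟨V, g, ⟨W, hW, hg⟩, y, rfl⟩ := exists_map_eq_of_sieve w R fun u => by
    obtain ⟨W, hW, hu⟩ := TopologicalSpace.Opens.mem_sSup.1 u.2
    refine ⟨piece (piece U (sSup s)) ((sSup s).ι ⁻¹ᵁ W), pieceHom _ _,
      (⟨u, hu⟩ : ((sSup s).ι ⁻¹ᵁ W : TopologicalSpace.Opens _)), ⟨W, hW, fun v => v.2⟩, rfl⟩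
  exact ⟨W, hW, by rw [map_map]; exact liftsTo_of_map _ y W hg⟩

theorem liftsTo_inf {U : S.Etale} {x : p.fiber.obj U} {A B : U.left.Opens}
    (hA : LiftsTo p U x A) (hB : LiftsTo p U x B) : LiftsTo p U x (A ⊓ B) := by
  obtain ⟨a, ha⟩ := hA
  obtain ⟨b, hb⟩ := hB
  let eA : (p.fiber.elementsMk (piece U A) (a)) ⟶ p.fiber.elementsMk U x := CategoryOfElements.homMk _ _ (pieceHom U A) ha
  let eB : (p.fiber.elementsMk (piece U B) (b)) ⟶ p.fiber.elementsMk U x := CategoryOfElements.homMk _ _ (pieceHom U B) hb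
  obtain ⟨M, k₁, k₂, hk⟩ := IsCofiltered.cospan eA eB
  have hm : p.fiber.map (k₁ ≫ eA).1 M.2 = x := (k₁ ≫ eA).2
  rw [← hm]
  refine liftsTo_of_map _ _ _ fun v => ⟨(k₁.1.left v).2, ?_⟩
  have := congrArg (fun r : M ⟶ (p.fiber.elementsMk (U) (x)) => r.1.left v) hk
  show (k₁ ≫ eA).1.left v ∈ B
  rw [show (k₁ ≫ eA).1.left v = (k₂ ≫ eB).1.left v from this]
  exact (k₂.1.left v).2

/-- The point of `U` under an element of the fibre. -/
theorem exists_pt (U : S.Etale) (x : p.fiber.obj U) :
    ∃ π : U.left, ∀ W : U.left.Opens, π ∈ W ↔ LiftsTo p U x W := by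
  let N : U.left.Opens := sSup {W | ¬ LiftsTo p U x W}
  have hN : ¬ LiftsTo p U x N := fun h => by
    obtain ⟨W, hW, hW'⟩ := liftsTo_sSup _ h
    exact hW hW'
  have htop : LiftsTo p U x ⊤ := by
    have := liftsTo_of_map (𝟙 U) x ⊤ fun _ => trivial
    rwa [show p.fiber.map (𝟙 U) x = x from ConcreteCategory.congr_hom (p.fiber.map_id U) x] at this
  have hmeet : ∀ W : U.left.Opens, ((N : Set U.left)ᶜ ∩ W).Nonempty ↔ LiftsTo p U x W := fun W => by
    constructor
    · rintro ⟨z, hzN, hzW⟩
      by_contra hc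
      exact hzN (TopologicalSpace.Opens.mem_sSup.2 ⟨W, hc, hzW⟩)
    · intro hW
      by_contra hne
      obtain ⟨w, hw⟩ := hW
      refine hN (hw ▸ liftsTo_of_map (pieceHom U W) w N fun v => ?_)
      by_contra hc
      exact hne ⟨_, hc, v.2⟩
  have hirr : IsIrreducible (N : Set U.left)ᶜ := by
    refine ⟨?_, fun A B hA hB hzA hzB => ?_⟩
    · obtain ⟨z, hz, -⟩ := (hmeet ⊤).2 htop
      exact ⟨z, hz⟩
    · exact (hmeet (⟨A, hA⟩ ⊓ ⟨B, hB⟩)).2
        (liftsTo_inf ((hmeet ⟨A, hA⟩).1 hzA) ((hmeet ⟨B, hB⟩).1 hzB))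
  have hgen := hirr.isGenericPoint_genericPoint N.isOpen.isClosed_compl
  refine ⟨hirr.genericPoint, fun W => ?_⟩
  refine (hgen.mem_open_set_iff W.isOpen).trans ?_
  exact hmeet W

variable (p) in
/-- The point of `U` under an element of the fibre. -/
noncomputable def pt (U : S.Etale) (x : p.fiber.obj U) : U.left := (exists_pt U x).choose

theorem mem_iff_liftsTo {U : S.Etale} (x : p.fiber.obj U) (W : U.left.Opens) :
    pt p U x ∈ W ↔ LiftsTo p U x W :=
  (exists_pt U x).choose_spec W

theorem pt_map {U V : S.Etale} (g : V ⟶ U) (y : p.fiber.obj V) :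
    pt p U (p.fiber.map g y) = g.left (pt p V y) := by
  refine (inseparable_iff_forall_isOpen.2 fun O hO => ?_).eq
  have h : pt p U (p.fiber.map g y) ∈ (⟨O, hO⟩ : U.left.Opens) ↔
      pt p V y ∈ g.left ⁻¹ᵁ ⟨O, hO⟩ := by
    rw [mem_iff_liftsTo, mem_iff_liftsTo]
    constructor
    · rintro ⟨w, hw⟩
      let e₁ : (p.fiber.elementsMk (V) (y)) ⟶ p.fiber.elementsMk U (p.fiber.map g y) := CategoryOfElements.homMk _ _ g rfl
      let e₂ : (p.fiber.elementsMk (piece U ⟨O, hO⟩) w) ⟶ p.fiber.elementsMk U (p.fiber.map g y) :=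
        CategoryOfElements.homMk _ _ (pieceHom U ⟨O, hO⟩) hw
      obtain ⟨M, k₁, k₂, hk⟩ := IsCofiltered.cospan e₁ e₂
      have hm : p.fiber.map k₁.1 M.2 = y := k₁.2
      rw [← hm]
      refine liftsTo_of_map _ _ _ fun v => ?_
      show g.left (k₁.1.left v) ∈ (⟨O, hO⟩ : U.left.Opens)
      have := congrArg (fun r : M ⟶ (p.fiber.elementsMk (U) (p.fiber.map g y)) => r.1.left v) hk
      rw [show g.left (k₁.1.left v) = (k₂ ≫ e₂).1.left v from this]
      exact (k₂.1.left v).2
    · rintro ⟨w, hw⟩
      rw [← hw, map_map]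
      exact liftsTo_of_map _ w _ fun v => v.2
  exact h

/-- Elements lift along étale morphisms whose image contains their point. -/
theorem exists_map_eq {U V : S.Etale} (g : V ⟶ U) (x : p.fiber.obj U) (h : ∃ v, g.left v = pt p U x) :
    ∃ y, p.fiber.map g y = x := by
  haveI : Etale U.hom := U.prop
  haveI : Etale g.left := by
    haveI : Etale (g.left ≫ U.hom) := by rw [MorphismProperty.Over.w g]; exact V.prop
    exact Etale.of_comp g.left U.hom
  let O : U.left.Opens := ⟨Set.range g.left, g.left.isOpenMap.isOpen_range⟩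
  obtain ⟨w, hw⟩ := (mem_iff_liftsTo x O).1 (show pt p U x ∈ O from h)
  let g' : V ⟶ piece U O := toPiece g O fun v => ⟨v, rfl⟩
  obtain ⟨Y, k, ⟨Z, a, b, hb, rfl⟩, y, hy⟩ := exists_map_eq_of_sieve w (Sieve.generate (Presieve.singleton g'))
    fun u => by
      obtain ⟨v, hv⟩ := u.2
      refine ⟨V, g', v, Sieve.le_generate _ _ _ ⟨⟩, Subtype.ext ?_⟩
      exact (congrArg (fun r : V ⟶ U => r.left v) (toPiece_pieceHom g O fun v => ⟨v, rfl⟩)).trans hv
  obtain ⟨⟩ := hb
  refine ⟨p.fiber.map a y, ?_⟩
  rw [← hw, ← hy, map_map, map_map, Category.assoc, toPiece_pieceHom]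

/-- The map to the final object. -/
noncomputable def toTop (U : S.Etale) : U ⟶ EtCoh.top S :=
  MorphismProperty.Over.homMk U.hom (Category.comp_id _) trivial

theorem hom_top_ext {U : S.Etale} (a b : U ⟶ EtCoh.top S) : a = b :=
  MorphismProperty.Over.Hom.ext (((Category.comp_id a.left).symm.trans (MorphismProperty.Over.w a)).trans
    ((Category.comp_id b.left).symm.trans (MorphismProperty.Over.w b)).symm)

theorem subsingleton_top : Subsingleton (p.fiber.obj (EtCoh.top S)) := ⟨fun a b => by
  let A := p.fiber.elementsMk (EtCoh.top S) a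
  let B := p.fiber.elementsMk (EtCoh.top S) b
  exact (IsCofiltered.minToLeft A B).2.symm.trans ((congrArg
    (fun k => p.fiber.map k (IsCofiltered.min A B).2)
    (hom_top_ext (IsCofiltered.minToLeft A B).1 (IsCofiltered.minToRight A B).1)).trans
      (IsCofiltered.minToRight A B).2)⟩

theorem exists_top : Nonempty (p.fiber.obj (EtCoh.top S)) := by
  haveI : Nonempty p.fiber.Elements := IsCofiltered.nonempty
  obtain ⟨⟨U, x⟩⟩ := ‹Nonempty p.fiber.Elements›
  exact ⟨p.fiber.map (toTop U) x⟩

variable (p) in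
/-- The point of the base. -/
noncomputable def basePt : S :=
  pt p (EtCoh.top S) exists_top.some

theorem hom_pt (U : S.Etale) (x : p.fiber.obj U) : U.hom (pt p U x) = basePt p := by
  have h : p.fiber.map (toTop U) x = exists_top.some := subsingleton_top.elim _ _
  rw [basePt, ← h, pt_map]
  rfl

/-- Lifts of a geometric point into an affine étale neighbourhood are finite in number. -/
theorem exists_finite_nbhd {K : Type u} [Field K] [IsSepClosed K]
    (ξ : Spec (CommRingCat.of K) ⟶ S) (U : S.Etale) (u : U.left) (hu : U.hom u = ξ default) :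
    ∃ W : U.left.Opens, u ∈ W ∧ IsAffine (W : Scheme.{u}) ∧
      {φ : (Scheme.pointSmallEtale ξ).fiber.obj (piece U W) | True}.Finite := by
  haveI : Etale U.hom := U.prop
  obtain ⟨A, hA, huA, -⟩ := exists_isAffineOpen_mem_and_subset
    (TopologicalSpace.Opens.mem_top (ξ default))
  obtain ⟨W, hW, huW, hWA⟩ := exists_isAffineOpen_mem_and_subset
    (X := U.left) (x := u) (U := U.hom ⁻¹ᵁ A) (show U.hom u ∈ A from hu ▸ huA)
  haveI : IsAffine (W : Scheme.{u}) := hW
  haveI : IsAffine (A : Scheme.{u}) := hA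
  refine ⟨W, huW, hW, ?_⟩
  have hξ : Set.range ξ ⊆ Set.range A.ι := by
    rintro _ ⟨o, rfl⟩
    rw [Scheme.Opens.range_ι, Subsingleton.elim (α := Spec (CommRingCat.of K)) o default]
    exact huA
  let g : (W : Scheme.{u}) ⟶ (A : Scheme.{u}) := IsOpenImmersion.lift A.ι (W.ι ≫ U.hom) (by
    rintro _ ⟨o, rfl⟩
    rw [Scheme.Opens.range_ι]
    exact hWA o.2)
  let ξ' : Spec (CommRingCat.of K) ⟶ (A : Scheme.{u}) := IsOpenImmersion.lift A.ι ξ hξ
  have hgA : g ≫ A.ι = W.ι ≫ U.hom := IsOpenImmersion.lift_fac _ _ _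
  haveI : Etale g := by
    haveI : Etale (g ≫ A.ι) := hgA ▸ inferInstance
    exact Etale.of_comp g A.ι
  haveI : IsAffine (pullback g ξ' : Scheme.{u}) := inferInstance
  haveI : DiscreteTopology (pullback g ξ' : Scheme.{u}) :=
    discreteTopology_iff_isOpen_singleton.2 fun z => by
      obtain ⟨_, _, _, _, _, j, _, -, hj⟩ := Groth.Agent.S0658.exists_piece (pullback.snd g ξ') z
      exact hj ▸ j.isOpenEmbedding.isOpen_range
  haveI : Finite (pullback g ξ' : Scheme.{u}) := finite_of_compact_of_discrete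
  let sec : ∀ φ : (Scheme.pointSmallEtale ξ).fiber.obj (piece U W),
      Spec (CommRingCat.of K) ⟶ pullback g ξ' := fun φ =>
    pullback.lift φ.left (𝟙 _) ((cancel_mono A.ι).1 (by
      rw [Category.assoc, Category.id_comp, hgA, IsOpenImmersion.lift_fac]
      exact Over.w φ))
  refine Set.Finite.of_finite_image
    (f := fun φ => sec φ (default : Spec (CommRingCat.of K))) (Set.toFinite _) ?_
  intro φ₁ _ φ₂ _ he
  have : sec φ₁ = sec φ₂ := section_ext (pullback.snd g ξ') _ _ (pullback.lift_snd _ _ _)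
    (pullback.lift_snd _ _ _) default he
  exact Over.OverMorphism.ext ((pullback.lift_fst _ _ _).symm.trans
    ((congrArg (· ≫ pullback.fst g ξ') this).trans (pullback.lift_fst _ _ _)))

variable (p) in
/-- The geometric point over the base point. -/
noncomputable abbrev basePoint :
    Spec (CommRingCat.of (SeparableClosure (S.residueField (basePt p)))) ⟶ S :=
  geomPointAt S (basePt p)

variable (p) in
/-- The geometric points over the points of the elements. -/
noncomputable def candidates : p.fiber.Elements ⥤ Type u where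
  obj e := {φ : (Scheme.pointSmallEtale (basePoint p)).fiber.obj e.1 //
    φ.left (default : Spec (CommRingCat.of (SeparableClosure (S.residueField (basePt p))))) =
      pt p e.1 e.2}
  map {e e'} h := TypeCat.ofHom fun φ => ⟨(Scheme.pointSmallEtale (basePoint p)).fiber.map h.1 φ.1, by
    show h.1.left (φ.1.left (default : Spec (CommRingCat.of (SeparableClosure (S.residueField (basePt p)))))) = _
    rw [φ.2, ← pt_map]
    exact congrArg (pt p e'.1) h.2⟩
  map_id e := by ext φ; exact Over.OverMorphism.ext (Category.comp_id _)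
  map_comp f g := by ext φ; exact Over.OverMorphism.ext (Category.assoc _ _ _).symm

instance nonempty_candidates (e : p.fiber.Elements) : Nonempty ((candidates p).obj e) := by
  obtain ⟨φ, hφ⟩ := exists_fiber_point (basePoint p) e.1 (pt p e.1 e.2)
    ((hom_pt e.1 e.2).trans (geomPointAt_apply S _ _).symm)
  exact ⟨⟨φ, hφ⟩⟩

instance finite_candidates (e : p.fiber.Elements) : Finite ((candidates p).obj e) := by
  obtain ⟨W, hu, -, hfin⟩ := exists_finite_nbhd (basePoint p) e.1 (pt p e.1 e.2)
    ((hom_pt e.1 e.2).trans (geomPointAt_apply S _ _).symm)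
  haveI : Finite ((Scheme.pointSmallEtale (basePoint p)).fiber.obj (piece e.1 W)) :=
    Set.finite_univ_iff.1 hfin
  let P := {ψ : (Scheme.pointSmallEtale (basePoint p)).fiber.obj (piece e.1 W) //
    ((Scheme.pointSmallEtale (basePoint p)).fiber.map (pieceHom e.1 W) ψ).left (default : Spec (CommRingCat.of (SeparableClosure (S.residueField (basePt p))))) = pt p e.1 e.2}
  refine Finite.of_surjective (fun ψ : P => (⟨_, ψ.2⟩ : (candidates p).obj e)) fun φ => ?_
  have hr : Set.range φ.1.left ⊆ Set.range W.ι := by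
    rintro _ ⟨o, rfl⟩
    erw [Scheme.Opens.range_ι]
    rw [Subsingleton.elim (α := Spec (CommRingCat.of _)) o default, φ.2]
    exact hu
  let ψ : (Scheme.pointSmallEtale (basePoint p)).fiber.obj (piece e.1 W) :=
    (Over.homMk (IsOpenImmersion.lift (X := (W : Scheme.{u})) (Z := e.1.left) W.ι φ.1.left hr)
      ((Category.assoc _ _ _).symm.trans ((congrArg (· ≫ e.1.hom)
        (IsOpenImmersion.lift_fac (X := (W : Scheme.{u})) (Z := e.1.left) W.ι φ.1.left hr)).trans
          (Over.w φ.1))) :
      Over.mk (basePoint p) ⟶ (Scheme.Etale.forget S).obj (piece e.1 W))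
  have hψ : (Scheme.pointSmallEtale (basePoint p)).fiber.map (pieceHom e.1 W) ψ = φ.1 :=
    Over.OverMorphism.ext (IsOpenImmersion.lift_fac (X := (W : Scheme.{u})) (Z := e.1.left) W.ι φ.1.left hr)
  exact ⟨⟨ψ, by rw [hψ]; exact φ.2⟩, Subtype.ext hψ⟩

/-- The points of `S_et` are the geometric points. -/
theorem exists_geometric_point :
    ∃ (Ω : Type u) (_ : Field Ω) (_ : IsSepClosed Ω) (ξ : Spec (CommRingCat.of Ω) ⟶ S),
      Nonempty (p.fiber ≅ (Scheme.pointSmallEtale ξ).fiber) := by
  refine ⟨_, inferInstance, inferInstance, basePoint p, ?_⟩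
  obtain ⟨c, hc⟩ := nonempty_sections_of_finite_cofiltered_system (candidates p)
  let P := Scheme.pointSmallEtale (basePoint p)
  let θ : ∀ U, p.fiber.obj U → P.fiber.obj U := fun U x => (c ⟨U, x⟩).1
  have hθ : ∀ {U V : S.Etale} (g : V ⟶ U) (y : p.fiber.obj V),
      P.fiber.map g (θ V y) = θ U (p.fiber.map g y) := fun {U V} g y =>
    congrArg Subtype.val (hc (j := p.fiber.elementsMk V y) (j' := p.fiber.elementsMk U (p.fiber.map g y))
      (CategoryOfElements.homMk _ _ g rfl))
  have hθpt : ∀ U x, (θ U x).left (default : Spec (CommRingCat.of (SeparableClosure (S.residueField (basePt p))))) = pt p U x := fun U x => (c ⟨U, x⟩).2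
  have hinj : ∀ U, Function.Injective (θ U) := fun U x₁ x₂ h => by
    let M := IsCofiltered.min (p.fiber.elementsMk (U) (x₁)) (p.fiber.elementsMk U x₂)
    let g₁ := IsCofiltered.minToLeft (p.fiber.elementsMk (U) (x₁)) (p.fiber.elementsMk U x₂)
    let g₂ := IsCofiltered.minToRight (p.fiber.elementsMk (U) (x₁)) (p.fiber.elementsMk U x₂)
    haveI : Etale U.hom := U.prop
    let d := pullback.diagonal U.hom
    let k : M.1.left ⟶ pullback U.hom U.hom := pullback.lift g₁.1.left g₂.1.left
      ((MorphismProperty.Over.w g₁.1).trans (MorphismProperty.Over.w g₂.1).symm)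
    let O : M.1.left.Opens := k ⁻¹ᵁ d.opensRange
    have hlift : (θ M.1 M.2).left ≫ k = (θ U x₁).left ≫ d := by
      refine pullback.hom_ext ?_ ?_
      · refine (Category.assoc _ _ _).trans ((congrArg (_ ≫ ·) (pullback.lift_fst _ _ _)).trans ?_)
        refine Eq.trans ?_ (((Category.assoc _ _ _).trans ((congrArg (_ ≫ ·)
          (pullback.diagonal_fst U.hom)).trans (Category.comp_id _)))).symm
        exact congrArg (fun r => r.left) ((hθ g₁.1 M.2).trans (congrArg (θ U) g₁.2))
      · refine (Category.assoc _ _ _).trans ((congrArg (_ ≫ ·) (pullback.lift_snd _ _ _)).trans ?_)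
        refine Eq.trans ?_ (((Category.assoc _ _ _).trans ((congrArg (_ ≫ ·)
          (pullback.diagonal_snd U.hom)).trans (Category.comp_id _)))).symm
        exact congrArg (fun r => r.left) ((hθ g₂.1 M.2).trans ((congrArg (θ U) g₂.2).trans h.symm))
    have hO : pt p M.1 M.2 ∈ O := by
      show k (pt p M.1 M.2) ∈ d.opensRange
      rw [← hθpt]
      exact ⟨_, (congrArg (fun r : Spec (CommRingCat.of _) ⟶ pullback U.hom U.hom => r default) hlift).symm⟩
    obtain ⟨y, hy⟩ := (mem_iff_liftsTo M.2 O).1 hO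
    have heq : pieceHom M.1 O ≫ g₁.1 = pieceHom M.1 O ≫ g₂.1 := by
      apply MorphismProperty.Over.Hom.ext
      let l : (O : Scheme.{u}) ⟶ U.left := IsOpenImmersion.lift d (O.ι ≫ k) (by
        rintro _ ⟨z, rfl⟩
        exact z.2)
      have hl : l ≫ d = O.ι ≫ k := IsOpenImmersion.lift_fac _ _ _
      have e1 : O.ι ≫ g₁.1.left = l := by
        refine ((congrArg (O.ι ≫ ·) (pullback.lift_fst _ _ _)).symm.trans
          ((Category.assoc _ _ _).symm.trans ((congrArg (· ≫ pullback.fst _ _) hl).symm.trans ?_)))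
        exact (Category.assoc _ _ _).trans ((congrArg (l ≫ ·) (pullback.diagonal_fst U.hom)).trans
          (Category.comp_id _))
      have e2 : O.ι ≫ g₂.1.left = l := by
        refine ((congrArg (O.ι ≫ ·) (pullback.lift_snd _ _ _)).symm.trans
          ((Category.assoc _ _ _).symm.trans ((congrArg (· ≫ pullback.snd _ _) hl).symm.trans ?_)))
        exact (Category.assoc _ _ _).trans ((congrArg (l ≫ ·) (pullback.diagonal_snd U.hom)).trans
          (Category.comp_id _))
      exact e1.trans e2.symm
    have h1 : p.fiber.map g₁.1 M.2 = x₁ := g₁.2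
    have h2 : p.fiber.map g₂.1 M.2 = x₂ := g₂.2
    exact h1.symm.trans ((congrArg (p.fiber.map g₁.1) hy).symm.trans ((map_map _ _ _).trans
      ((congrArg (fun r => p.fiber.map r y) heq).trans ((map_map _ _ _).symm.trans
        ((congrArg (p.fiber.map g₂.1) hy).trans h2)))))
  have hsurj : ∀ U, Function.Surjective (θ U) := by
    intro U₀ t₀
    obtain ⟨W₀, hW₀, haff, hfin⟩ := exists_finite_nbhd (basePoint p) U₀
      (t₀.left (default : Spec (CommRingCat.of _)))
      (congrArg (fun k : Spec (CommRingCat.of _) ⟶ S => k default) (Over.w t₀))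
    -- work in the affine neighbourhood
    let U := piece U₀ W₀
    haveI : IsAffine U.left := haff
    haveI : Etale U.hom := U.prop
    haveI : IsSeparated U.hom :=
      haveI : IsSeparated (terminal.from U.left) := inferInstance
      haveI : IsSeparated (U.hom ≫ terminal.from S) := by
        rw [show U.hom ≫ terminal.from S = terminal.from U.left from terminal.hom_ext _ _]
        infer_instance
      IsSeparated.of_comp U.hom (terminal.from S)
    have hrt : Set.range t₀.left ⊆ Set.range W₀.ι := by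
      rintro _ ⟨o, rfl⟩
      erw [Scheme.Opens.range_ι]
      rw [Subsingleton.elim (α := Spec (CommRingCat.of _)) o default]
      exact hW₀
    let t : P.fiber.obj U :=
      (Over.homMk (IsOpenImmersion.lift (X := (W₀ : Scheme.{u})) (Z := U₀.left) W₀.ι t₀.left hrt)
        ((Category.assoc _ _ _).symm.trans ((congrArg (· ≫ U₀.hom)
          (IsOpenImmersion.lift_fac (X := (W₀ : Scheme.{u})) (Z := U₀.left) W₀.ι t₀.left hrt)).trans
            (Over.w t₀))) :
        Over.mk (basePoint p) ⟶ (Scheme.Etale.forget S).obj U)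
    have ht : P.fiber.map (pieceHom U₀ W₀) t = t₀ :=
      Over.OverMorphism.ext (IsOpenImmersion.lift_fac (X := (W₀ : Scheme.{u})) (Z := U₀.left) W₀.ι t₀.left hrt)
    suffices t ∈ Set.range (θ U) by
      obtain ⟨x, hx⟩ := this
      exact ⟨p.fiber.map (pieceHom U₀ W₀) x, by rw [← hθ, hx, ht]⟩
    by_contra hnot
    haveI : Finite (P.fiber.obj U) := Set.finite_univ_iff.1 hfin
    haveI : Finite (p.fiber.obj U) := Finite.of_injective _ (hinj U)
    -- an element dominating all elements of the fibre
    classical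
    haveI := Fintype.ofFinite (p.fiber.obj U)
    obtain ⟨M, hM⟩ := IsCofiltered.inf_objs_exists
      ((Finset.univ : Finset (p.fiber.obj U)).image fun x => (p.fiber.elementsMk (U) (x)))
    have g : ∀ x : p.fiber.obj U, M ⟶ (p.fiber.elementsMk (U) (x)) := fun x =>
      (hM (Finset.mem_image_of_mem _ (Finset.mem_univ x))).some
    haveI : Etale M.1.hom := M.1.prop
    let q : pullback M.1.hom U.hom ⟶ M.1.left := pullback.fst _ _
    let Γ : ∀ x, M.1.left ⟶ pullback M.1.hom U.hom := fun x =>
      pullback.lift (𝟙 _) (g x).1.left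
        ((Category.id_comp _).trans (MorphismProperty.Over.w (g x).1).symm)
    have hΓq : ∀ x, Γ x ≫ q = 𝟙 _ := fun x => pullback.lift_fst _ _ _
    haveI : ∀ x, IsClosedImmersion (Γ x) := fun x =>
      haveI : IsClosedImmersion (Γ x ≫ q) := by rw [hΓq]; infer_instance
      IsClosedImmersion.of_comp (Γ x) q
    let O : (pullback M.1.hom U.hom).Opens := ⟨(⋃ x, Set.range (Γ x))ᶜ,
      (isClosed_iUnion_of_finite fun x => (Γ x).isClosedEmbedding.isClosed_range).isOpen_compl⟩
    haveI : Etale q := MorphismProperty.pullback_fst M.1.hom U.hom ‹_›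
    let Q : S.Etale := Scheme.Etale.mk (q ≫ M.1.hom)
    let V := piece Q O
    let toM : V ⟶ M.1 := MorphismProperty.Over.homMk (O.ι ≫ q) (Category.assoc _ _ _) trivial
    let toU : V ⟶ U := MorphismProperty.Over.homMk (O.ι ≫ pullback.snd _ _)
      ((Category.assoc _ _ _).trans (congrArg (O.ι ≫ ·) pullback.condition.symm)) trivial
    let z : Spec (CommRingCat.of _) ⟶ pullback M.1.hom U.hom :=
      pullback.lift (θ M.1 M.2).left t.left ((Over.w (θ M.1 M.2)).trans (Over.w t).symm)
    have hzO : z (default : Spec (CommRingCat.of (SeparableClosure (S.residueField (basePt p))))) ∈ O := by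
      rintro ⟨_, ⟨x, rfl⟩, hx⟩
      haveI := isOpenImmersion_of_section q (Γ x) (hΓq x)
      have hr : Set.range z ⊆ Set.range (Γ x) := by
        rintro _ ⟨o, rfl⟩
        rwa [Subsingleton.elim (α := Spec (CommRingCat.of _)) o default]
      have hl := IsOpenImmersion.lift_fac (Γ x) z hr
      have hθl : IsOpenImmersion.lift (Γ x) z hr = (θ M.1 M.2).left := by
        refine ((Category.comp_id _).symm.trans ((congrArg (_ ≫ ·) (hΓq x).symm).trans
          ((Category.assoc _ _ _).symm.trans ?_)))
        exact (congrArg (· ≫ q) hl).trans (pullback.lift_fst _ _ _)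
      refine hnot ⟨x, Over.OverMorphism.ext ?_⟩
      have e : θ U x = P.fiber.map (g x).1 (θ M.1 M.2) :=
        ((hθ (g x).1 M.2).trans (congrArg (θ U) (g x).2)).symm
      rw [e]
      refine Eq.trans ?_ (pullback.lift_snd (θ M.1 M.2).left t.left
        ((Over.w (θ M.1 M.2)).trans (Over.w t).symm))
      show (θ M.1 M.2).left ≫ (g x).1.left = z ≫ pullback.snd _ _
      rw [← hl, Category.assoc, pullback.lift_snd, hθl]; rfl
    obtain ⟨y, hy⟩ := exists_map_eq toM M.2 ⟨⟨z (default : Spec (CommRingCat.of (SeparableClosure (S.residueField (basePt p))))), hzO⟩, by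
      rw [← hθpt]
      exact congrArg (fun r : Spec (CommRingCat.of _) ⟶ M.1.left => r default)
        (pullback.lift_fst _ _ _)⟩
    -- the second coordinate of `θ y` is new
    let x := p.fiber.map toU y
    have h1 : (θ V y).left ≫ O.ι ≫ q = (θ M.1 M.2).left :=
      congrArg (fun r => r.left) ((hθ toM y).trans (congrArg (θ M.1) hy))
    have h2 : (θ V y).left ≫ O.ι ≫ pullback.snd _ _ = (θ U x).left :=
      congrArg (fun r => r.left) (hθ toU y)
    have h3 : (θ V y).left ≫ O.ι = (θ M.1 M.2).left ≫ Γ x := by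
      refine pullback.hom_ext ?_ ?_
      · exact ((Category.assoc _ _ _).trans h1).trans
          ((Category.assoc _ _ _).trans ((congrArg (_ ≫ ·) (hΓq x)).trans (Category.comp_id _))).symm
      · refine ((Category.assoc _ _ _).trans h2).trans ?_
        refine Eq.trans ?_ ((Category.assoc _ _ _).trans
          (congrArg (_ ≫ ·) (pullback.lift_snd _ _ _))).symm
        exact (congrArg (fun r => r.left) ((hθ (g x).1 M.2).trans (congrArg (θ U) (g x).2))).symm
    exact ((θ V y).left (default : Spec (CommRingCat.of (SeparableClosure (S.residueField (basePt p)))))).2 (Set.mem_iUnion.2 ⟨x, (θ M.1 M.2).left (default : Spec (CommRingCat.of (SeparableClosure (S.residueField (basePt p))))),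
      (congrArg (fun r : Spec (CommRingCat.of _) ⟶ pullback M.1.hom U.hom => r default) h3).symm⟩)
  exact ⟨NatIso.ofComponents (fun U => (Equiv.ofBijective (θ U) ⟨hinj U, hsurj U⟩).toIso)
    fun {U V} g => by ext x; exact (hθ g x).symm⟩

end Groth.Agent.EtaleSite.PointClassify
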