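import Groth.Agent.EtaleSite.EtaleLocalRing
import Groth.Agent.Hens.StrictAtPrime

/-!
# The étale local ring is the strict henselization of the Zariski local ring
-/

set_option autoImplicit false

universe u

open CategoryTheory CategoryTheory.Limits AlgebraicGeometry Opposite IsLocalRing

noncomputable section

set_option maxHeartbeats 1000000

namespace Groth.Agent.EtaleSite.EtaleLocalRing

variable {X : Scheme.{u}} {Ω : Type u} [Field Ω] [IsSepClosed Ω]
  (ξ : Spec (CommRingCat.of Ω) ⟶ X)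

/-- A morphism `Spec B ⟶ X` which is étale as a neighbourhood. -/
abbrev specNbhd {B : CommRingCat.{u}} (h : Spec B ⟶ X) [Etale h] : X.Etale :=
  MorphismProperty.Over.mk ⊤ h ‹Etale h›

/-- Its point over `ξ` given by an `Ω`-valued point of `B`. -/
abbrev specPt {B : CommRingCat.{u}} (h : Spec B ⟶ X) [Etale h] (e : B ⟶ CommRingCat.of Ω)
    (he : Spec.map e ≫ h = ξ) : (Scheme.pointSmallEtale ξ).fiber.obj (specNbhd h) :=
  (Over.homMk (Spec.map e) he : Over.mk ξ ⟶ (Scheme.Etale.forget X).obj (specNbhd h))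

/-- The germ at an affine neighbourhood. -/
def specGerm {B : CommRingCat.{u}} (h : Spec B ⟶ X) [Etale h] (e : B ⟶ CommRingCat.of Ω)
    (he : Spec.map e ≫ h = ξ) : B ⟶ EtBase.etaleLocalRing ξ :=
  (Scheme.ΓSpecIso B).inv ≫ germ ξ (specNbhd h) (specPt ξ h e he)

lemma specGerm_ev {B : CommRingCat.{u}} (h : Spec B ⟶ X) [Etale h] (e : B ⟶ CommRingCat.of Ω)
    (he : Spec.map e ≫ h = ξ) : specGerm ξ h e he ≫ ev ξ = e := by
  refine ((Category.assoc _ _ _).trans
    (congrArg ((Scheme.ΓSpecIso B).inv ≫ ·) (germ_ev ξ (specNbhd h) (specPt ξ h e he)))).trans ?_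
  change (Scheme.ΓSpecIso B).inv ≫ evalPt (Spec.map e) = e
  rw [evalPt_SpecMap, Iso.inv_hom_id_assoc]

lemma specGerm_comp {A B : CommRingCat.{u}} (hA : Spec A ⟶ X) [Etale hA] (hB : Spec B ⟶ X) [Etale hB]
    (β : A ⟶ B) (hβ : Spec.map β ≫ hA = hB) (eA : A ⟶ CommRingCat.of Ω) (heA : Spec.map eA ≫ hA = ξ)
    (eB : B ⟶ CommRingCat.of Ω) (heB : Spec.map eB ≫ hB = ξ) (hc : β ≫ eB = eA) :
    β ≫ specGerm ξ hB eB heB = specGerm ξ hA eA heA := by
  let g : specNbhd hB ⟶ specNbhd hA := MorphismProperty.Over.homMk (Spec.map β) hβ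
  have hy : (Scheme.pointSmallEtale ξ).fiber.map g (specPt ξ hB eB heB) = specPt ξ hA eA heA :=
    Over.OverMorphism.ext (by
      show Spec.map eB ≫ Spec.map β = Spec.map eA
      rw [← Spec.map_comp, hc])
  rw [specGerm, specGerm, ← hy, ← germ_res ξ g (specPt ξ hB eB heB)]
  change β ≫ (Scheme.ΓSpecIso B).inv ≫ _ = (Scheme.ΓSpecIso A).inv ≫ (Spec.map β).appTop ≫ _
  rw [Scheme.ΓSpecIso_inv_naturality_assoc]

/-- Every neighbourhood has an affine refinement over a given affine open. -/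
lemma exists_affine_refinement {W : X.Opens} (hW : IsAffineOpen W) (hξ : ξ default ∈ W)
    (U : X.Etale) (x : (Scheme.pointSmallEtale ξ).fiber.obj U) :
    ∃ (C : CommRingCat.{u}) (φ : Γ(X, W) ⟶ C) (_ : Etale (Spec.map φ)) (e : C ⟶ CommRingCat.of Ω)
      (he : Spec.map e ≫ Spec.map φ ≫ hW.fromSpec = ξ) (g : specNbhd (Spec.map φ ≫ hW.fromSpec) ⟶ U),
      (Scheme.pointSmallEtale ξ).fiber.map g (specPt ξ _ e he) = x := by
  have : Etale U.hom := U.prop
  have hx : ptOf ξ x ≫ U.hom = ξ := Over.w (show Over.mk ξ ⟶ (Scheme.Etale.forget X).obj U from x)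
  have hmem : ptOf ξ x default ∈ U.hom ⁻¹ᵁ W := by
    show U.hom (ptOf ξ x default) ∈ W
    rw [← Scheme.Hom.comp_apply, hx]; exact hξ
  obtain ⟨O, hO, hxO, hOW⟩ := exists_isAffineOpen_mem_and_subset hmem
  have hrange : Set.range (hO.fromSpec ≫ U.hom) ⊆ Set.range hW.fromSpec := by
    rintro _ ⟨y, rfl⟩
    rw [hW.range_fromSpec, Scheme.Hom.comp_apply]
    exact hOW (hO.range_fromSpec.le ⟨y, rfl⟩)
  let m := IsOpenImmersion.lift hW.fromSpec (hO.fromSpec ≫ U.hom) hrange
  have hm : Spec.map (Spec.preimage m) ≫ hW.fromSpec = hO.fromSpec ≫ U.hom := by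
    rw [Spec.map_preimage]; exact IsOpenImmersion.lift_fac _ _ _
  have : Etale (Spec.map (Spec.preimage m) ≫ hW.fromSpec) := by rw [hm]; infer_instance
  have hφ : Etale (Spec.map (Spec.preimage m)) := Etale.of_comp _ hW.fromSpec
  have hr : Set.range (ptOf ξ x) ⊆ Set.range hO.fromSpec := by
    rintro _ ⟨y, rfl⟩
    rw [Subsingleton.elim y default, hO.range_fromSpec]; exact hxO
  let l := IsOpenImmersion.lift hO.fromSpec (ptOf ξ x) hr
  have hl : Spec.map (Spec.preimage l) ≫ hO.fromSpec = ptOf ξ x := by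
    rw [Spec.map_preimage]; exact IsOpenImmersion.lift_fac _ _ _
  refine ⟨_, Spec.preimage m, hφ, Spec.preimage l, ?_, MorphismProperty.Over.homMk hO.fromSpec hm.symm, ?_⟩
  · rw [hm, ← Category.assoc, hl, hx]
  · exact Over.OverMorphism.ext hl

/-- The étale local ring at `ξ` is a strict henselization of the local ring at the image of `ξ`. -/
theorem exists_isStrictHenselization :
    ∃ (_ : IsLocalRing (EtBase.etaleLocalRing ξ))
      (_ : Algebra (X.presheaf.stalk (ξ default)) (EtBase.etaleLocalRing ξ))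
      (_ : IsLocalHom (algebraMap (X.presheaf.stalk (ξ default)) (EtBase.etaleLocalRing ξ))),
      Hensel.IsStrictHenselization (X.presheaf.stalk (ξ default)) (EtBase.etaleLocalRing ξ) := by
  haveI hloc := isLocalRing ξ
  obtain ⟨hhens, hsep⟩ := isStrictlyHenselian ξ
  haveI := hhens
  haveI := hsep
  let ψ : ResidueField (EtBase.etaleLocalRing ξ) →+* Ω :=
    Ideal.Quotient.lift _ (ev ξ).hom fun r hr => (ker_ev ξ r).1 hr
  have hψ : ∀ r, ψ (residue _ r) = ev ξ r := fun r => rfl
  obtain ⟨_, ⟨W, hW, rfl⟩, hξW, -⟩ :=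
    X.isBasis_affineOpens.exists_subset_of_mem_open (Set.mem_univ (ξ default)) isOpen_univ
  have hr : Set.range ξ ⊆ Set.range hW.fromSpec := by
    rintro _ ⟨y, rfl⟩
    rw [Subsingleton.elim y default, hW.range_fromSpec]; exact hξW
  let e₀ := Spec.preimage (IsOpenImmersion.lift hW.fromSpec ξ hr)
  have he₀ : Spec.map e₀ ≫ hW.fromSpec = ξ := by
    rw [Spec.map_preimage]; exact IsOpenImmersion.lift_fac _ _ _
  let ρ := specGerm ξ hW.fromSpec e₀ he₀
  let R : Type u := Γ(X, W)
  let L : Type u := X.presheaf.stalk (ξ default)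
  letI : Algebra R (EtBase.etaleLocalRing ξ) := ρ.hom.toAlgebra
  letI : Algebra R L := TopCat.Presheaf.algebra_section_stalk X.presheaf (⟨ξ default, hξW⟩ : W)
  let p := (hW.primeIdealOf ⟨ξ default, hξW⟩).asIdeal
  haveI hLp : IsLocalization.AtPrime L p := hW.isLocalization_stalk ⟨ξ default, hξW⟩
  -- membership in the prime is vanishing at `ξ`
  have hprime : ∀ r : R, r ∈ p ↔ e₀ r = 0 := by
    have h : hW.primeIdealOf ⟨ξ default, hξW⟩ = Spec.map e₀ default := hW.fromSpec.isOpenEmbedding.injective <| by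
      rw [hW.fromSpec_primeIdealOf, ← Scheme.Hom.comp_apply, he₀]
    intro r
    rw [show p = (Spec.map e₀ default).asIdeal from congrArg PrimeSpectrum.asIdeal h]
    change e₀ r ∈ (default : Spec (CommRingCat.of Ω)).asIdeal ↔ _
    rw [show (default : Spec (CommRingCat.of Ω)).asIdeal = ⊥ from
      (Ideal.eq_bot_or_top _).resolve_right (default : Spec (CommRingCat.of Ω)).isPrime.ne_top,
      Ideal.mem_bot]
  have hunit : ∀ r : p.primeCompl, IsUnit (algebraMap R (EtBase.etaleLocalRing ξ) r) := fun r => by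
    refine isUnit_of_ev_ne_zero ξ _ ?_
    change (ρ ≫ ev ξ) r.1 ≠ 0
    rw [specGerm_ev]
    exact fun h => r.2 ((hprime _).2 h)
  letI algL : Algebra L (EtBase.etaleLocalRing ξ) := (IsLocalization.lift (S := L) hunit).toAlgebra
  haveI : IsScalarTower R L (EtBase.etaleLocalRing ξ) :=
    .of_algebraMap_eq fun r => (IsLocalization.lift_eq hunit r).symm
  haveI hlocal : IsLocalHom (algebraMap L (EtBase.etaleLocalRing ξ)) := by
    refine ⟨fun z hz => ?_⟩
    obtain ⟨r, s, rfl⟩ := IsLocalization.exists_mk'_eq p.primeCompl z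
    rw [IsLocalization.AtPrime.isUnit_mk'_iff]
    intro hr'
    have h := (hz.mul (hunit s)).map (ev ξ).hom
    rw [IsScalarTower.algebraMap_apply R L (EtBase.etaleLocalRing ξ) s, ← map_mul,
      IsLocalization.mk'_spec, ← IsScalarTower.algebraMap_apply] at h
    refine h.ne_zero ?_
    change (ρ ≫ ev ξ) r = 0
    rw [specGerm_ev]
    exact (hprime r).1 hr'
  refine ⟨hloc, algL, hlocal, Hens.isStrictHenselization_of_stages R L (EtBase.etaleLocalRing ξ) p ?_ ?_⟩
  · intro z
    obtain ⟨U, x, s, rfl⟩ :=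
      (Scheme.pointSmallEtale ξ).toPresheafFiber_jointly_surjective (P := EtBase.OO X) z
    obtain ⟨C, φ, hφ, e, he, g, hg⟩ := exists_affine_refinement ξ hW hξW U x
    letI : Algebra R C := φ.hom.toAlgebra
    have hC : Algebra.Etale R C :=
      RingHom.etale_algebraMap.1 ((HasRingHomProperty.Spec_iff (P := @Etale)).1 hφ)
    let θ : C →ₐ[R] EtBase.etaleLocalRing ξ :=
      { toRingHom := (specGerm ξ _ e he).hom
        commutes' := fun r => by
          change (φ ≫ specGerm ξ _ e he) r = ρ r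
          rw [specGerm_comp ξ hW.fromSpec _ φ rfl e₀ he₀ e he (Spec.map_injective
            ((cancel_mono hW.fromSpec).1 (by rw [Spec.map_comp, Category.assoc, he, he₀])))] }
    refine ⟨C, inferInstance, _, hC, θ, (Scheme.ΓSpecIso C).hom (g.left.appTop s), ?_⟩
    refine Eq.trans (congrArg (germ ξ _ (specPt ξ _ e he))
      (Iso.hom_inv_id_apply (Scheme.ΓSpecIso C) _)) ?_
    rw [← hg]
    exact ConcreteCategory.congr_hom (germ_res ξ g _) s
  · intro B _ _ _ θ b hb
    let φB : Γ(X, W) ⟶ CommRingCat.of B := CommRingCat.ofHom (algebraMap R B)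
    haveI : Etale (Spec.map φB) :=
      (HasRingHomProperty.Spec_iff (P := @Etale)).2 (RingHom.etale_algebraMap.2 inferInstance)
    let eB : CommRingCat.of B ⟶ CommRingCat.of Ω := CommRingCat.ofHom ((ev ξ).hom.comp θ.toRingHom)
    have heB : Spec.map eB ≫ Spec.map φB ≫ hW.fromSpec = ξ := by
      rw [← Category.assoc, ← Spec.map_comp]
      refine Eq.trans ?_ he₀
      congr 2
      ext r
      change ev ξ (θ (algebraMap R B r)) = e₀ r
      rw [θ.commutes]
      change (ρ ≫ ev ξ) r = _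
      rw [specGerm_ev]
    let θ₀ : B →ₐ[R] EtBase.etaleLocalRing ξ :=
      { toRingHom := (specGerm ξ _ eB heB).hom
        commutes' := fun r => by
          change (φB ≫ specGerm ξ _ eB heB) r = ρ r
          rw [specGerm_comp ξ hW.fromSpec _ φB rfl e₀ he₀ eB heB (Spec.map_injective
            ((cancel_mono hW.fromSpec).1 (by rw [Spec.map_comp, Category.assoc, heB, he₀])))] }
    have hθ : θ₀ = θ := Hens.eq_of_point_eq (residue _) fun x => ψ.injective (by
      rw [hψ, hψ]
      change (specGerm ξ _ eB heB ≫ ev ξ) x = _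
      rw [specGerm_ev]; rfl)
    have hb' : germ ξ _ (specPt ξ _ eB heB) ((Scheme.ΓSpecIso (CommRingCat.of B)).inv b) =
        germ ξ _ (specPt ξ _ eB heB) 0 := by
      rw [map_zero]
      refine Eq.trans ?_ hb
      rw [← hθ]; rfl
    obtain ⟨V, g, y, hy, hgb⟩ :=
      ((Scheme.pointSmallEtale ξ).toPresheafFiber_eq_iff' (P := EtBase.OO X) _ _ _ _).1 hb'
    obtain ⟨C, φ, hφ, e, he, k, hk⟩ := exists_affine_refinement ξ hW hξW V y
    letI : Algebra R C := φ.hom.toAlgebra
    have hC : Algebra.Etale R C :=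
      RingHom.etale_algebraMap.1 ((HasRingHomProperty.Spec_iff (P := @Etale)).1 hφ)
    let β₀ := Spec.preimage (k.left ≫ g.left : Spec C ⟶ Spec (CommRingCat.of B))
    have hβ₀ : Spec.map β₀ = k.left ≫ g.left := Spec.map_preimage _
    have hkg : k.left ≫ g.left ≫ Spec.map φB ≫ hW.fromSpec = Spec.map φ ≫ hW.fromSpec := by
      have h1 : g.left ≫ Spec.map φB ≫ hW.fromSpec = V.hom := MorphismProperty.Over.w g
      rw [h1]; exact MorphismProperty.Over.w k
    have hφβ : φB ≫ β₀ = φ := Spec.map_injective ((cancel_mono hW.fromSpec).1 (by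
      rw [Spec.map_comp, Category.assoc, hβ₀]; exact (Category.assoc _ _ _).trans hkg))
    let β : B →ₐ[R] C := { toRingHom := β₀.hom, commutes' := fun r => congrArg (fun m => m.hom r) hφβ }
    let η : C →ₐ[R] EtBase.etaleLocalRing ξ :=
      { toRingHom := (specGerm ξ _ e he).hom
        commutes' := fun r => by
          change (φ ≫ specGerm ξ _ e he) r = ρ r
          rw [specGerm_comp ξ hW.fromSpec _ φ rfl e₀ he₀ e he (Spec.map_injective
            ((cancel_mono hW.fromSpec).1 (by rw [Spec.map_comp, Category.assoc, he, he₀])))] }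
    refine ⟨C, inferInstance, _, hC, β, η, ?_, ?_⟩
    · refine Eq.trans (AlgHom.ext fun x => ?_) hθ
      change (β₀ ≫ specGerm ξ _ e he) x = specGerm ξ _ eB heB x
      rw [specGerm_comp ξ _ _ β₀ (by rw [hβ₀]; exact (Category.assoc _ _ _).trans hkg) eB heB e he
        (Spec.map_injective ?_)]
      rw [Spec.map_comp, hβ₀]
      have h1 : Spec.map e ≫ k.left = ptOf ξ y := congrArg (fun z => ptOf ξ z) hk
      have h2 : ptOf ξ y ≫ g.left = Spec.map eB := congrArg (fun z => ptOf ξ z) hy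
      exact (Category.assoc _ _ _).symm.trans ((congrArg (· ≫ g.left) h1).trans h2)
    · change β₀ b = 0
      have h := congrArg k.left.appTop hgb
      change (g.left.appTop ≫ k.left.appTop) _ = (g.left.appTop ≫ k.left.appTop) _ at h
      rw [← Scheme.Hom.comp_appTop, ← hβ₀, map_zero] at h
      have h' : (Scheme.ΓSpecIso C).inv (β₀ b) = 0 :=
        (ConcreteCategory.congr_hom (Scheme.ΓSpecIso_inv_naturality β₀) b).trans h
      exact (Scheme.ΓSpecIso C).commRingCatIsoToRingEquiv.symm.injective (h'.trans (map_zero _).symm)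

end Groth.Agent.EtaleSite.EtaleLocalRing
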