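import Groth.Agent.EtaleSite.Points
import Groth.Agent.Hens.Lifting
import Mathlib.CategoryTheory.Abelian.Projective.Dimension
import Mathlib.CategoryTheory.Adjunction.FullyFaithful

/-!
# Étale sites of strictly henselian local schemes
-/

universe u

open CategoryTheory CategoryTheory.Limits AlgebraicGeometry Opposite

namespace Groth.Agent.EtaleSite

variable (R : Type u) [CommRing R] [HenselianLocalRing R]

/-- The closed point as a morphism from the spectrum of the residue field. -/
noncomputable abbrev closedPt : Spec (CommRingCat.of (IsLocalRing.ResidueField R)) ⟶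
    Spec (CommRingCat.of R) :=
  Spec.map (CommRingCat.ofHom (IsLocalRing.residue R))

set_option backward.isDefEq.respectTransparency.types false in
/-- An étale scheme over a henselian local ring with a rational point in the closed fibre has a
section through it. -/
theorem exists_section {V : Scheme.{u}} (g : V ⟶ Spec (CommRingCat.of R)) [Etale g]
    (φ : Spec (CommRingCat.of (IsLocalRing.ResidueField R)) ⟶ V) (hφ : φ ≫ g = closedPt R) :
    ∃ s : Spec (CommRingCat.of R) ⟶ V, s ≫ g = 𝟙 _ ∧ closedPt R ≫ s = φ := by
  obtain ⟨A, j, hj, hmem, -⟩ := Scheme.exists_affine_mem_range_and_range_subset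
    (x := φ (default : Spec (CommRingCat.of (IsLocalRing.ResidueField R)))) (U := ⊤) (by trivial)
  have hr : Set.range φ ⊆ Set.range j := by
    rintro _ ⟨a, rfl⟩
    rwa [Subsingleton.elim a default]
  obtain ⟨φ', hφ'⟩ : ∃ φ', φ' ≫ j = φ := ⟨_, IsOpenImmersion.lift_fac j φ hr⟩
  obtain ⟨ψ, hψ⟩ := Spec.map_surjective (j ≫ g)
  obtain ⟨τ, hτ⟩ := Spec.map_surjective φ'
  algebraize [ψ.hom]
  have : Algebra.Etale R A := by
    have : Etale (Spec.map ψ) := by rw [hψ]; infer_instance
    exact RingHom.etale_algebraMap.1 ((HasRingHomProperty.Spec_iff (P := @Etale)).1 this)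
  have e : ψ ≫ τ = CommRingCat.ofHom (IsLocalRing.residue R) := by
    apply Spec.map_injective
    rw [Spec.map_comp, hψ, hτ, ← Category.assoc, hφ', hφ]
  let τ' : A →ₐ[R] IsLocalRing.ResidueField R :=
    ⟨τ.hom, fun r => RingHom.congr_fun (congrArg CommRingCat.Hom.hom e) r⟩
  obtain ⟨θ, hθ, -⟩ := Hens.existsUnique_algHom τ'
  refine ⟨Spec.map (CommRingCat.ofHom θ.toRingHom) ≫ j, ?_, ?_⟩
  · rw [Category.assoc, ← hψ, ← Spec.map_comp]
    have : ψ ≫ CommRingCat.ofHom θ.toRingHom = 𝟙 (CommRingCat.of R) := by
      ext r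
      exact θ.commutes r
    rw [this, Spec.map_id]
  · rw [← Category.assoc, ← Spec.map_comp, ← hφ', ← hτ]
    congr 2
    ext a
    exact hθ a

variable [IsSepClosed (IsLocalRing.ResidueField R)]

/-- The unique closed point of `top`. -/
noncomputable def topPoint :
    (Scheme.pointSmallEtale (closedPt R)).fiber.obj (EtCoh.top (Spec (CommRingCat.of R))) :=
  Over.homMk (closedPt R) (Category.comp_id _)

/-- Every neighbourhood of the closed point is dominated by `top`. -/
theorem exists_from_top (V : (Spec (CommRingCat.of R)).Etale)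
    (y : (Scheme.pointSmallEtale (closedPt R)).fiber.obj V) :
    ∃ s : EtCoh.top (Spec (CommRingCat.of R)) ⟶ V,
      (Scheme.pointSmallEtale (closedPt R)).fiber.map s (topPoint R) = y := by
  obtain ⟨s, hs, hs'⟩ := exists_section R V.hom y.left (Over.w y)
  exact ⟨MorphismProperty.Over.homMk s hs, Over.OverMorphism.ext hs'⟩

theorem bijective_germ_top (F : EtCoh.Ab (Spec (CommRingCat.of R))) :
    Function.Bijective (germ (closedPt R) F (EtCoh.top (Spec (CommRingCat.of R))) (topPoint R)) := by
  constructor
  · intro a b h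
    obtain ⟨V, g, y, hy, hab⟩ := (germ_eq_iff _ F _ _ a b).1 h
    obtain ⟨s, hs⟩ := exists_from_top R V y
    have e : s ≫ g = 𝟙 _ := (EtCore.topIsTerminal _).hom_ext _ _
    have := congrArg (F.obj.map s.op) hab
    rw [← ConcreteCategory.comp_apply, ← ConcreteCategory.comp_apply, ← Functor.map_comp,
      ← op_comp, e, op_id, CategoryTheory.Functor.map_id] at this
    exact this
  · intro p
    obtain ⟨V, y, t, rfl⟩ := exists_germ_eq _ F p
    obtain ⟨s, rfl⟩ := exists_from_top R V y
    exact ⟨F.obj.map s.op t, germ_res _ F s _ t⟩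

/-- On a strictly henselian local scheme global sections are the stalk at the closed point. -/
noncomputable def gsecIsoStalk :
    EtCore.gsec (Spec (CommRingCat.of R)) ≅ EtCoh.stalk (closedPt R) :=
  NatIso.ofComponents
    (fun F =>
      haveI : IsIso (germ (closedPt R) F (EtCoh.top (Spec (CommRingCat.of R))) (topPoint R)) :=
        (ConcreteCategory.isIso_iff_bijective _).2 (bijective_germ_top R F)
      asIso (germ (closedPt R) F (EtCoh.top (Spec (CommRingCat.of R))) (topPoint R)))
    fun {F G} a => by
      ext s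
      exact (germ_naturality _ a _ _ s).symm

instance projective_ulift_int : Projective (AddCommGrpCat.of (ULift.{u + 1} ℤ)) where
  factors {E B} f e _ := by
    obtain ⟨x, hx⟩ := (AddCommGrpCat.epi_iff_surjective e).1 inferInstance (f ⟨1⟩)
    refine ⟨AddCommGrpCat.ofHom ((zmultiplesHom E x).comp AddEquiv.ulift.toAddMonoidHom), ?_⟩
    ext ⟨n⟩
    change e (n • x) = f ⟨n⟩
    rw [map_zsmul, hx, ← map_zsmul]
    exact congrArg f (ULift.ext _ _ (by simp))

/-- The constant sheaf `ℤ` on a strictly henselian local scheme is projective. -/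
theorem projective_const_int :
    Projective (EtCoh.const (Spec (CommRingCat.of R)) ℤ) := by
  have : PreservesFiniteColimits (EtCore.gsec (Spec (CommRingCat.of R))) :=
    preservesFiniteColimits_of_natIso (gsecIsoStalk R).symm
  exact (EtCore.constAdj _).map_projective _ inferInstance

theorem subsingleton_H (F : EtCoh.Ab (Spec (CommRingCat.of R))) (p : ℕ) (hp : 1 ≤ p) :
    Subsingleton (EtCoh.H (Spec (CommRingCat.of R)) F p) := by
  obtain ⟨q, rfl⟩ := Nat.exists_eq_add_of_le hp
  rw [Nat.add_comm]
  have := projective_const_int R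
  exact subsingleton_of_forall_eq 0 Abelian.Ext.eq_zero_of_projective

end Groth.Agent.EtaleSite
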