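import Mathlib.Algebra.Homology.DerivedCategory.Ext.Map
import Mathlib.Algebra.Homology.DerivedCategory.Ext.EnoughInjectives
import Mathlib.Algebra.Homology.DerivedCategory.Ext.ExactSequences

/-!
# Fully faithful exact functors preserving injectives are bijective on Ext
-/

universe w w'

open CategoryTheory CategoryTheory.Limits

namespace Groth.Agent.EtaleSite

theorem bijective_mapExt {C D : Type*} [Category C] [Abelian C] [Category D] [Abelian D]
    [HasExt.{w} C] [HasExt.{w'} D] [EnoughInjectives C]
    (F : C ⥤ D) [F.Additive] [PreservesFiniteLimits F] [PreservesFiniteColimits F]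
    (hF : F.FullyFaithful) (hinj : ∀ I : C, Injective I → Injective (F.obj I)) (A : C) :
    ∀ (n : ℕ) (M : C), Function.Bijective (F.mapExtAddHom A M n) := by
  intro n
  induction n with
  | zero =>
    intro M
    rw [Functor.mapExtAddHom_coe, Abelian.Ext.mapExactFunctor₀]
    exact (Equiv.bijective _).comp (hF.homEquiv.bijective.comp (Equiv.bijective _))
  | succ n ih =>
    intro M
    let S : ShortComplex C :=
      ShortComplex.mk (Injective.ι M) (cokernel.π (Injective.ι M)) (cokernel.condition _)
    have hS : S.ShortExact := { exact := ShortComplex.exact_cokernel _ }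
    have hI : Injective S.X₂ := inferInstanceAs (Injective (Injective.under M))
    have hI' : Injective (S.map F).X₂ := hinj _ hI
    constructor
    · refine (injective_iff_map_eq_zero _).2 fun x hx => ?_
      obtain ⟨x', rfl⟩ := Abelian.Ext.covariant_sequence_exact₁ A hS x
        (Abelian.Ext.eq_zero_of_injective _) rfl
      rw [Functor.mapExtAddHom_apply, Abelian.Ext.mapExactFunctor_comp,
        Abelian.Ext.mapExactFunctor_extClass] at hx
      obtain ⟨z, hz⟩ := Abelian.Ext.covariant_sequence_exact₃ (F.obj A) (hS.map_of_exact F) _ rfl hx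
      obtain ⟨z', rfl⟩ := (ih S.X₂).2 z
      have : x' = z'.comp (Abelian.Ext.mk₀ S.g) (add_zero n) := by
        refine (ih S.X₃).1 ?_
        rw [Functor.mapExtAddHom_apply, Functor.mapExtAddHom_apply,
          Abelian.Ext.mapExactFunctor_comp, Abelian.Ext.mapExactFunctor_mk₀]
        exact hz.symm
      rw [this, Abelian.Ext.comp_assoc_of_second_deg_zero, hS.comp_extClass,
        Abelian.Ext.comp_zero]
    · intro y
      obtain ⟨y', rfl⟩ := Abelian.Ext.covariant_sequence_exact₁ (F.obj A) (hS.map_of_exact F) y
        (Abelian.Ext.eq_zero_of_injective _) rfl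
      obtain ⟨x', rfl⟩ := (ih S.X₃).2 y'
      refine ⟨x'.comp hS.extClass rfl, ?_⟩
      rw [Functor.mapExtAddHom_apply, Abelian.Ext.mapExactFunctor_comp,
        Abelian.Ext.mapExactFunctor_extClass]
      rfl

end Groth.Agent.EtaleSite
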