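import Groth.Agent.EtaleSite.SplitAlg
import Mathlib.RingTheory.Smooth.NoetherianDescent

/-!
# Splitting étale covers of integral algebras
-/

set_option linter.style.haveILetI false

universe u

open TensorProduct

namespace Groth.Agent.EtaleSite

variable {A : Type u} [CommRing A] {B : Type u} [CommRing B] [Algebra A B]

/-- A finite algebra has only finitely many points in a field. -/
theorem finite_algHom [Module.Finite A B] (L : Type u) [Field L] [Algebra A L] :
    Finite (B →ₐ[A] L) := by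
  haveI : IsArtinianRing (L ⊗[A] B) := IsArtinianRing.of_finite L _
  let P : (B →ₐ[A] L) → (L ⊗[A] B →ₐ[L] L) := fun τ =>
    Algebra.TensorProduct.lift (Algebra.ofId L L) τ fun _ _ => .all _ _
  refine Finite.of_injective (β := PrimeSpectrum (L ⊗[A] B))
    (fun τ => ⟨RingHom.ker (P τ).toRingHom, RingHom.ker_isPrime _⟩) fun τ₁ τ₂ h => ?_
  have hk : RingHom.ker (P τ₁).toRingHom = RingHom.ker (P τ₂).toRingHom :=
    congrArg PrimeSpectrum.asIdeal h
  refine AlgHom.ext fun b => ?_
  have hm : (1 : L) ⊗ₜ[A] b - τ₁ b ⊗ₜ[A] (1 : B) ∈ RingHom.ker (P τ₁).toRingHom := by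
    simp [RingHom.mem_ker, P]
  rw [hk] at hm
  have h0 : P τ₂ ((1 : L) ⊗ₜ[A] b - τ₁ b ⊗ₜ[A] (1 : B)) = 0 := hm
  simp [P] at h0
  exact (sub_eq_zero.1 h0).symm

/-- Points in an algebraically closed field extend along injective integral ring maps. -/
theorem exists_point_extend {R S : Type u} [CommRing R] [CommRing S] [Algebra R S]
    [Algebra.IsIntegral R S] (hinj : Function.Injective (algebraMap R S)) {L : Type u} [Field L]
    [IsAlgClosed L] [Algebra R L] : Nonempty (S →ₐ[R] L) := by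
  let P := RingHom.ker (algebraMap R L)
  haveI : P.IsPrime := RingHom.ker_isPrime _
  obtain ⟨Q, -, hQ, hQP⟩ := Ideal.exists_ideal_over_prime_of_isIntegral P (⊥ : Ideal S)
    (fun x hx => by
      have hx0 : x = 0 := hinj (by simpa using (hx : algebraMap R S x ∈ (⊥ : Ideal S)))
      simp [hx0])
  haveI := hQ
  haveI : Q.LiesOver P := ⟨hQP.symm⟩
  letI : Algebra (R ⧸ P) L := (RingHom.kerLift (algebraMap R L)).toAlgebra
  haveI : IsScalarTower R (R ⧸ P) L := .of_algebraMap_eq fun _ => rfl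
  haveI : FaithfulSMul (R ⧸ P) L :=
    (faithfulSMul_iff_algebraMap_injective _ _).2 (RingHom.kerLift_injective (algebraMap R L))
  haveI : Algebra.IsIntegral (R ⧸ P) (S ⧸ Q) := Algebra.IsIntegral.tower_top (R := R)
  exact ⟨((IsAlgClosed.lift : (S ⧸ Q) →ₐ[R ⧸ P] L).restrictScalars R).comp
    (Ideal.Quotient.mkₐ R Q)⟩

variable {K : Type u} [Field K] [Algebra A K] {L : Type u} [Field L] [IsAlgClosed L] [Algebra A L]
  [Algebra K L] [IsScalarTower A K L]

/-- An étale algebra over an integral algebra covering all points over `K` splits over an étale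
neighbourhood of `K`, realizing a prescribed point. -/
theorem exists_etale_split_integral [IsSepClosed K] [Algebra.IsIntegral A B] {C : Type u}
    [CommRing C] [Algebra B C] [Algebra.Etale B C]
    (ψ : (B →ₐ[A] L) → (C →+* L)) (hψ : ∀ τ b, ψ τ (algebraMap B C b) = τ b)
    (S : Set (B →ₐ[A] L)) (hS : S.Subsingleton) :
    ∃ (T : Type u) (_ : CommRing T) (_ : Algebra A T), Algebra.Etale A T ∧
      ∃ (π : T →ₐ[A] K) (h : C →+* T ⊗[A] B),
        h.comp (algebraMap B C) = Algebra.TensorProduct.includeRight.toRingHom ∧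
        ∀ τ ∈ S, ∀ c, tensorPoint π τ (h c) = ψ τ c := by
  classical
  obtain ⟨B₀, C₀, _, _, hfg, hC₀, ⟨e⟩⟩ := Algebra.Etale.exists_subalgebra_fg (R := A) (A := B) (B := C)
  haveI : Algebra.FiniteType A B₀ := (Subalgebra.fg_iff_finiteType B₀).1 hfg
  haveI : Algebra.IsIntegral A B₀ :=
    ⟨fun x => (isIntegral_algHom_iff B₀.val Subtype.val_injective).1
      (Algebra.IsIntegral.isIntegral _)⟩
  haveI : Module.Finite A B₀ := Algebra.IsIntegral.finite
  have hext : ∀ τ₀ : B₀ →ₐ[A] L, ∃ τ : B →ₐ[A] L, ∀ x : B₀, τ x = τ₀ x := fun τ₀ => by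
    letI : Algebra B₀ L := τ₀.toRingHom.toAlgebra
    haveI : IsScalarTower A B₀ L := .of_algebraMap_eq fun a => (τ₀.commutes a).symm
    haveI : Algebra.IsIntegral B₀ B := Algebra.IsIntegral.tower_top (R := A)
    obtain ⟨f⟩ := exists_point_extend (R := B₀) (S := B) (L := L) Subtype.val_injective
    exact ⟨f.restrictScalars A, fun x => f.commutes x⟩
  choose ext hext using fun τ₀ : B₀ →ₐ[A] L =>
    show ∃ τ : B →ₐ[A] L, (∀ x : B₀, τ x = τ₀ x) ∧ ∀ τ' ∈ S, τ'.comp B₀.val = τ₀ → τ = τ' from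
      if h : ∃ τ' ∈ S, τ'.comp B₀.val = τ₀ then
        ⟨h.choose, fun x => AlgHom.congr_fun h.choose_spec.2 x,
          fun τ' hτ' _ => hS h.choose_spec.1 hτ'⟩
      else ⟨_, (hext τ₀).choose_spec, fun τ' hτ' e => absurd ⟨τ', hτ', e⟩ h⟩
  obtain ⟨hext, hextS⟩ := forall_and.1 hext
  let φ₀ : (B₀ →ₐ[A] L) → (C₀ →+* L) := fun τ₀ =>
    (ψ (ext τ₀)).comp (e.symm.toAlgHom.toRingHom.comp Algebra.TensorProduct.includeRight.toRingHom)
  have hφ₀ : ∀ τ₀ x, φ₀ τ₀ (algebraMap B₀ C₀ x) = τ₀ x := fun τ₀ x => by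
    rw [← hext τ₀ x, ← hψ]
    refine congrArg (ψ (ext τ₀)) ?_
    refine Eq.trans (congrArg e.symm ?_) (e.symm.commutes (x : B))
    exact ((Algebra.TensorProduct.includeRight (R := B₀) (A := B) (B := C₀)).commutes x)
  obtain ⟨T, _, _, hT, π, h₀, hh₀, hπ⟩ := exists_etale_split (K := K) φ₀ hφ₀
  letI : Algebra B₀ (T ⊗[A] B) :=
    ((Algebra.TensorProduct.includeRight (R := A) (A := T) (B := B)).toRingHom.comp
      (algebraMap B₀ B)).toAlgebra
  let f : B →ₐ[B₀] T ⊗[A] B :=
    { toRingHom := Algebra.TensorProduct.includeRight.toRingHom, commutes' := fun _ => rfl }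
  let g : C₀ →ₐ[B₀] T ⊗[A] B :=
    { toRingHom := (Algebra.TensorProduct.map (AlgHom.id A T) B₀.val).toRingHom.comp h₀
      commutes' := fun x => by
        show Algebra.TensorProduct.map (AlgHom.id A T) B₀.val (h₀ (algebraMap B₀ C₀ x)) = _
        rw [← RingHom.comp_apply h₀, hh₀]
        simp
        rfl }
  refine ⟨T, _, _, hT, π, (Algebra.TensorProduct.lift f g fun _ _ => .all _ _).toRingHom.comp
    e.toAlgHom.toRingHom, ?_, fun τ hτ c => ?_⟩
  rotate_left
  · obtain ⟨z, rfl⟩ := e.symm.surjective c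
    show tensorPoint π τ (Algebra.TensorProduct.lift f g (fun _ _ => Commute.all _ _)
      (e (e.symm z))) = _
    rw [AlgEquiv.apply_symm_apply]
    induction z using TensorProduct.induction_on with
    | zero => simp
    | add x y hx hy => simp [map_add, hx, hy]
    | tmul b c₀ =>
      rw [Algebra.TensorProduct.lift_tmul, map_mul]
      have e1 : tensorPoint π τ (f b) = ψ τ (e.symm (b ⊗ₜ[B₀] (1 : C₀))) := by
        refine Eq.trans ?_ ((congrArg (ψ τ) (e.symm.commutes b)).trans (hψ τ b)).symm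
        show tensorPoint π τ ((1 : T) ⊗ₜ[A] b) = τ b
        simp [tensorPoint]
      have e2 : tensorPoint π τ (g c₀) = ψ τ (e.symm ((1 : B) ⊗ₜ[B₀] c₀)) := by
        have h3 : ∀ y : T ⊗[A] B₀, tensorPoint π τ (Algebra.TensorProduct.map (AlgHom.id A T)
            B₀.val y) = tensorPoint π (τ.comp B₀.val) y := fun y => by
          induction y using TensorProduct.induction_on with
          | zero => simp
          | add x y hx hy => simp [map_add, hx, hy]
          | tmul t x => simp [tensorPoint]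
        refine (h3 (h₀ c₀)).trans ((hπ (τ.comp B₀.val) c₀).trans ?_)
        show ψ (ext (τ.comp B₀.val)) (e.symm ((1 : B) ⊗ₜ[B₀] c₀)) = _
        rw [hextS (τ.comp B₀.val) τ hτ rfl]
      rw [e1, e2, ← map_mul, ← map_mul, Algebra.TensorProduct.tmul_mul_tmul, one_mul, mul_one]
  ext b
  show Algebra.TensorProduct.lift f g (fun _ _ => Commute.all _ _) (e (algebraMap B C b)) =
    (1 : T) ⊗ₜ[A] b
  rw [e.commutes]
  simp [f]

end Groth.Agent.EtaleSite
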