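import Groth.Agent.EtaleSite.PushIntegral
import Groth.Agent.EtaleSite.Points

/-!
# The comparison map between stalks of a direct image and stalks
-/

set_option linter.style.haveILetI false

universe u

open CategoryTheory CategoryTheory.Limits AlgebraicGeometry Opposite

namespace Groth.Agent.EtaleSite

set_option backward.isDefEq.respectTransparency.types false in
/-- Evaluation of the skyscraper adjunction. -/
theorem skyscraper_homEquiv_π {C : Type*} [Category C] {J : GrothendieckTopology C}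
    (Φ : GrothendieckTopology.Point.{u} J) {A : Type*} [Category A] [HasProducts.{u} A]
    [HasColimitsOfSize.{u, u} A] (F : Sheaf J A) (M : A) (g : Φ.sheafFiber.obj F ⟶ M) (V : C)
    (x : Φ.fiber.obj V) :
    (Φ.skyscraperSheafAdjunction.homEquiv F M g).hom.app (op V) ≫
      Pi.π (fun _ : Φ.fiber.obj V => M) x = Φ.toPresheafFiber V x F.obj ≫ g := by
  exact (congrArg (fun a => a.app (op V) ≫ Pi.π (fun _ : Φ.fiber.obj V => M) x)
    (GrothendieckTopology.Point.skyscraperSheafAdjunction_homEquiv_apply_hom Φ g)).trans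
    (Φ.skyscraperPresheafHomEquiv_app_π g V x)

set_option backward.isDefEq.respectTransparency.types false in
/-- Evaluation of the map of fibres induced by a morphism of points. -/
theorem toPresheafFiber_sheafFiber {C : Type*} [Category C] {J : GrothendieckTopology C}
    {Φ₁ Φ₂ : GrothendieckTopology.Point.{u} J} (g : Φ₁ ⟶ Φ₂) {A : Type*} [Category A]
    [HasColimitsOfSize.{u, u} A] (F : Sheaf J A) (V : C) (x : Φ₂.fiber.obj V) :
    Φ₂.toPresheafFiber V x F.obj ≫ g.sheafFiber.app F =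
      Φ₁.toPresheafFiber V (g.hom.app V x) F.obj := by
  simp only [Functor.whiskerLeft_app, GrothendieckTopology.Point.Hom.presheafFiber_app]
  exact Φ₂.toPresheafFiber_presheafFiberDesc _ _ V x

variable {X Y : Scheme.{u}} (f : X ⟶ Y) {Ω : Type u} [Field Ω] [IsSepClosed Ω]
  (ξ : Spec (CommRingCat.of Ω) ⟶ X)

set_option backward.isDefEq.respectTransparency.types false in
/-- The inverse of `stalkPullIso` on germs: pull the section back by the unit. -/
theorem germ_stalkPullIso_inv (G : EtCoh.Ab Y) (V : Y.Etale)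
    (φ : (Scheme.pointSmallEtale (ξ ≫ f)).fiber.obj V) (s : G.obj.obj (op V)) :
    (stalkPullIso f ξ).inv.app G (germ (ξ ≫ f) G V φ s) =
      germ ξ ((EtCoh.pull f).obj G) ((EtCoh.bc f).obj V) (fiberBcEquiv f ξ V φ)
        (((EtCoh.pullPushAdj f).unit.app G).hom.app (op V) s) := by
  let Φ := Scheme.pointSmallEtale ξ
  let Φ' := Φ.comap (EtCoh.bc f) (EtCoh.coverPreserving_bc f)
  let A := AddCommGrpCat.{u + 1}
  let θ := (Φ.sheafFiberComapIso (EtCoh.bc f) (EtCoh.coverPreserving_bc f) A).hom.app G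
  have key := congrArg (fun k => k.hom.app (op V) ≫
      Pi.π (fun _ : Φ'.fiber.obj V => Φ.sheafFiber.obj ((EtCoh.pull f).obj G))
        (fiberBcEquiv f ξ V φ))
    (unit_conjugateEquiv_symm ((EtCoh.pullPushAdj f).comp Φ.skyscraperSheafAdjunction)
      Φ'.skyscraperSheafAdjunction
      (Φ.skyscraperSheafFunctorCompSheafPushforwardContinuous (EtCoh.bc f)
        (EtCoh.coverPreserving_bc f) A).hom G)
  have hθ : Φ'.toPresheafFiber V (fiberBcEquiv f ξ V φ) G.obj ≫ θ =
      ((EtCoh.pullPushAdj f).unit.app G).hom.app (op V) ≫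
        germ ξ ((EtCoh.pull f).obj G) ((EtCoh.bc f).obj V) (fiberBcEquiv f ξ V φ) := by
    have h1 : (Φ'.skyscraperSheafAdjunction.homEquiv G _ θ).hom.app (op V) ≫
        Pi.π (fun _ : Φ'.fiber.obj V => Φ.sheafFiber.obj ((EtCoh.pull f).obj G))
          (fiberBcEquiv f ξ V φ) = Φ'.toPresheafFiber V (fiberBcEquiv f ξ V φ) G.obj ≫ θ := by
      exact skyscraper_homEquiv_π Φ' G _ θ V _
    refine h1.symm.trans ?_
    rw [Adjunction.homEquiv_unit]
    refine key.symm.trans ?_
    rw [Adjunction.comp_unit_app]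
    have h2 : (Φ.skyscraperSheafAdjunction.unit.app ((EtCoh.pull f).obj G)).hom.app
          (op ((EtCoh.bc f).obj V)) ≫
        Pi.π (fun _ : Φ.fiber.obj ((EtCoh.bc f).obj V) => Φ.sheafFiber.obj ((EtCoh.pull f).obj G))
          (fiberBcEquiv f ξ V φ) =
        germ ξ ((EtCoh.pull f).obj G) ((EtCoh.bc f).obj V) (fiberBcEquiv f ξ V φ) := by
      rw [← Adjunction.homEquiv_id]
      exact (skyscraper_homEquiv_π Φ _ _ _ _ _).trans (Category.comp_id _)
    rw [← h2]
    simp only [Category.assoc]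
    rfl
  have h3 : germ (ξ ≫ f) G V φ ≫ (sheafFiberIsoOfPointIso (A := A) (pointBcIso f ξ)).hom.app G =
      Φ'.toPresheafFiber V (fiberBcEquiv f ξ V φ) G.obj :=
    toPresheafFiber_sheafFiber (pointBcIso f ξ).hom G V φ
  have h4 : (stalkPullIso f ξ).inv.app G =
      (sheafFiberIsoOfPointIso (A := A) (pointBcIso f ξ)).hom.app G ≫ θ := rfl
  have := ((reassoc_of% h3) θ).trans hθ
  rw [h4]
  exact congrArg (fun k => k s) this

/-- The comparison map `(f_*F)_{f∘ξ} ⟶ F_ξ`. -/
noncomputable def cmp (F : EtCoh.Ab X) :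
    (EtCoh.stalk (ξ ≫ f)).obj ((EtCoh.push f).obj F) ⟶ (EtCoh.stalk ξ).obj F :=
  (stalkPullIso f ξ).inv.app ((EtCoh.push f).obj F) ≫
    (EtCoh.stalk ξ).map ((EtCoh.pullPushAdj f).counit.app F)

set_option backward.isDefEq.respectTransparency.types false in
theorem cmp_germ (F : EtCoh.Ab X) (V : Y.Etale)
    (φ : (Scheme.pointSmallEtale (ξ ≫ f)).fiber.obj V) (s : ((EtCoh.push f).obj F).obj.obj (op V)) :
    cmp f ξ F (germ (ξ ≫ f) ((EtCoh.push f).obj F) V φ s) =
      germ ξ F ((EtCoh.bc f).obj V) (fiberBcEquiv f ξ V φ) s := by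
  rw [cmp, ConcreteCategory.comp_apply, germ_stalkPullIso_inv, germ_naturality]
  refine congrArg (germ ξ F _ _) ?_
  exact congrArg (fun k => k.hom.app (op V) s) ((EtCoh.pullPushAdj f).right_triangle_components F)

/-- The counit is an isomorphism as soon as all comparison maps are bijective. -/
theorem isIso_counit_of_cmp (F : EtCoh.Ab X)
    (h : ∀ (Ω : Type u) [Field Ω] [IsSepClosed Ω] (ξ : Spec (CommRingCat.of Ω) ⟶ X),
      Function.Bijective (cmp f ξ F)) : IsIso ((EtCoh.pullPushAdj f).counit.app F) := by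
  refine isIso_of_stalk _ fun Ω _ _ ξ => ?_
  have : IsIso (cmp f ξ F) := (ConcreteCategory.isIso_iff_bijective _).2 (h Ω ξ)
  exact IsIso.of_isIso_fac_left (show _ ≫ _ = cmp f ξ F from rfl)

set_option backward.isDefEq.respectTransparency.types false in
/-- A section of a direct image along a universally closed morphism vanishes near a point as soon
as it vanishes near every point above it. -/
theorem exists_nbhd_zero [UniversallyClosed f] {F : EtCoh.Ab X} {V : Y.Etale}
    (s : F.obj.obj (op ((EtCoh.bc f).obj V))) (v : V.left)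
    (h : ∀ x : ↥(pullback V.hom f), pullback.fst V.hom f x = v →
      ∃ (W : X.Etale) (g : W ⟶ (EtCoh.bc f).obj V) (w : W.left),
        g.left w = x ∧ F.obj.map g.op s = 0) :
    ∃ (V' : Y.Etale) (e : V' ⟶ V) (v' : V'.left),
      e.left v' = v ∧ F.obj.map ((EtCoh.bc f).map e).op s = 0 := by
  let P := (EtCoh.bc f).obj V
  let Z : Set P.left := {x | ∃ (W : X.Etale) (g : W ⟶ P) (w : W.left),
    g.left w = x ∧ F.obj.map g.op s = 0}
  let Z₀ : Set P.left := ⋃ (W : X.Etale) (g : W ⟶ P) (_ : F.obj.map g.op s = 0), Set.range g.left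
  have hZ : Z = Z₀ := by
    ext x; simp only [Z, Z₀, Set.mem_setOf_eq, Set.mem_iUnion, Set.mem_range]
    constructor
    · rintro ⟨W, g, w, hw, hs⟩; exact ⟨W, g, hs, w, hw⟩
    · rintro ⟨W, g, hs, w, hw⟩; exact ⟨W, g, w, hw, hs⟩
  have hopen : IsOpen Z := by
    rw [hZ]
    refine isOpen_iUnion fun W => isOpen_iUnion fun g => isOpen_iUnion fun _ => ?_
    haveI : Etale P.hom := P.prop
    haveI : Etale (g.left ≫ P.hom) := by rw [MorphismProperty.Over.w g]; exact W.prop
    haveI : Etale g.left := Etale.of_comp g.left P.hom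
    exact g.left.isOpenMap.isOpen_range
  let q : P.left ⟶ V.left := pullback.fst V.hom f
  let O : V.left.Opens := ⟨(q '' Zᶜ)ᶜ,
    ((pullback.fst V.hom f).isClosedMap _ hopen.isClosed_compl).isOpen_compl⟩
  have hv : v ∈ O := by
    rintro ⟨x, hx, hxv⟩
    exact hx (h x hxv)
  refine ⟨piece V O, pieceHom V O, (⟨v, hv⟩ : O), rfl, ?_⟩
  let P' := (EtCoh.bc f).obj (piece V O)
  let r : P' ⟶ P := (EtCoh.bc f).map (pieceHom V O)
  have hr : Set.range r.left ⊆ ((⟨Z, hopen⟩ : P.left.Opens) : Set P.left) := by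
    rintro _ ⟨z, rfl⟩
    by_contra hz
    have e := congrArg (fun k => k z) (EtCoh.isPullback_bc_map f (pieceHom V O)).w
    exact ((pullback.fst (piece V O).hom f : P'.left ⟶ O) z).2 ⟨r.left z, hz, e⟩
  let ZO : P.left.Opens := ⟨Z, hopen⟩
  let r' : P'.left ⟶ (ZO : Scheme.{u}) := IsOpenImmersion.lift ZO.ι r.left (by
    rw [Scheme.Opens.range_ι]; exact hr)
  have hr' : r' ≫ ZO.ι = r.left := IsOpenImmersion.lift_fac _ _ _
  let r'' : P' ⟶ piece P ZO := MorphismProperty.Over.homMk r' (by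
    show r' ≫ ZO.ι ≫ P.hom = _
    rw [reassoc_of% hr']
    exact MorphismProperty.Over.w r) trivial
  have hzero : F.obj.map (pieceHom P ZO).op s = 0 := by
    refine F.property.isSeparated _ (Presheaf.equalizerSieve (F := F.obj)
      (F.obj.map (pieceHom P ZO).op s) 0) ?_ _ _ fun W g hg => hg
    refine mem_topology_of_forall_exists _ fun z => ?_
    obtain ⟨W, g, w, hw, hs⟩ := z.2
    have hg : Set.range g.left ⊆ Set.range ZO.ι := by
      rw [Scheme.Opens.range_ι]
      rintro _ ⟨w', rfl⟩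
      exact ⟨W, g, w', rfl, hs⟩
    let g₁ : W.left ⟶ (ZO : Scheme.{u}) := IsOpenImmersion.lift ZO.ι g.left hg
    have hg₁ : g₁ ≫ ZO.ι = g.left := IsOpenImmersion.lift_fac _ _ _
    let g₂ : W ⟶ piece P ZO := MorphismProperty.Over.homMk g₁ (by
      show g₁ ≫ ZO.ι ≫ P.hom = _
      rw [reassoc_of% hg₁]
      exact MorphismProperty.Over.w g) trivial
    refine ⟨W, g₂, w, ?_, ZO.ι.isOpenEmbedding.injective ?_⟩
    · show F.obj.map g₂.op (F.obj.map (pieceHom P ZO).op s) = F.obj.map g₂.op 0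
      rw [map_zero, ← ConcreteCategory.comp_apply, ← Functor.map_comp, ← op_comp,
        show g₂ ≫ pieceHom P ZO = g from MorphismProperty.Over.Hom.ext hg₁]
      exact hs
    · show ZO.ι (g₁ w) = ZO.ι z
      rw [← Scheme.Hom.comp_apply, hg₁]
      exact hw
  have e : r'' ≫ pieceHom P ZO = r := MorphismProperty.Over.Hom.ext hr'
  show F.obj.map r.op s = 0
  rw [← e, op_comp, Functor.map_comp, ConcreteCategory.comp_apply, hzero, map_zero]

end Groth.Agent.EtaleSite
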