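import Groth.Prelude.Def_EtCech
import Mathlib.CategoryTheory.Limits.Shapes.ConcreteCategory
import Mathlib.CategoryTheory.Preadditive.Injective.Basic
import Mathlib.CategoryTheory.Abelian.FunctorCategory
import Mathlib.GroupTheory.FreeAbelianGroup
import Mathlib.Algebra.Category.Grp.Abelian
import Mathlib.CategoryTheory.EssentiallySmall
import Mathlib.Algebra.Homology.ShortComplex.Ab

/-!
# The Čech complex of presheaves in arbitrary universes

Coordinates on `EtCech.cechComplex`, the free presheaves on the Čech nerve with their contracting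
homotopy, and vanishing of positive Čech cohomology of injective presheaves.
-/

set_option autoImplicit false

universe w v u

open CategoryTheory CategoryTheory.Limits Opposite

noncomputable section

namespace Groth.Agent.EtaleSite.CechPre

variable {C : Type u} [Category.{v} C] {U : C} [HasFiniteProducts (Over U)] {ι : Type w}
  (Uf : ι → Over U)

/-- The iterated fibre product. -/
abbrev obj {n : ℕ} (a : Fin (n + 1) → ι) : C := (∏ᶜ (Uf ∘ a)).left

/-- The projections. -/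
abbrev π {n : ℕ} (a : Fin (n + 1) → ι) (k : Fin (n + 1)) : obj Uf a ⟶ (Uf (a k)).left :=
  (Pi.π (Uf ∘ a) k).left

lemma π_hom {n : ℕ} (a : Fin (n + 1) → ι) (k : Fin (n + 1)) :
    π Uf a k ≫ (Uf (a k)).hom = (∏ᶜ (Uf ∘ a)).hom :=
  Over.w (Pi.π (Uf ∘ a) k)

lemma hom_ext {n : ℕ} {a : Fin (n + 1) → ι} {W : C} {g g' : W ⟶ obj Uf a}
    (h : ∀ k, g ≫ π Uf a k = g' ≫ π Uf a k) : g = g' := by
  have he : g ≫ (∏ᶜ (Uf ∘ a)).hom = g' ≫ (∏ᶜ (Uf ∘ a)).hom := by
    rw [← π_hom Uf a 0, ← Category.assoc, h 0, Category.assoc]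
  let G : Over.mk (g ≫ (∏ᶜ (Uf ∘ a)).hom) ⟶ ∏ᶜ (Uf ∘ a) := Over.homMk g
  let G' : Over.mk (g ≫ (∏ᶜ (Uf ∘ a)).hom) ⟶ ∏ᶜ (Uf ∘ a) := Over.homMk g' he.symm
  have : G = G' := Pi.hom_ext _ _ fun k => Over.OverMorphism.ext (h k)
  exact congrArg CommaMorphism.left this

/-- The face maps. -/
def face {n : ℕ} (a : Fin (n + 2) → ι) (k : Fin (n + 2)) :
    obj Uf a ⟶ obj Uf (a ∘ k.succAbove) :=
  (Pi.lift fun j => Pi.π (Uf ∘ a) (k.succAbove j) :
    ∏ᶜ (Uf ∘ a) ⟶ ∏ᶜ (Uf ∘ (a ∘ k.succAbove))).left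

lemma face_π {n : ℕ} (a : Fin (n + 2) → ι) (k : Fin (n + 2)) (j : Fin (n + 1)) :
    face Uf a k ≫ π Uf (a ∘ k.succAbove) j = π Uf a (k.succAbove j) := by
  rw [face, π, ← Over.comp_left, Pi.lift_π]

/-- Sums of morphisms of groups are computed pointwise. -/
lemma hom_sum_apply {M N : AddCommGrpCat.{w}} {β : Type*} (s : Finset β) (f : β → (M ⟶ N)) (x : M) :
    (∑ b ∈ s, f b) x = ∑ b ∈ s, f b x :=
  map_sum ((AddMonoidHom.eval x).comp (AddCommGrpCat.homAddEquiv (M := M) (N := N)).toAddMonoidHom)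
    f s

section Complex

variable (P : Cᵒᵖ ⥤ AddCommGrpCat.{w})

/-- The components of a cochain. -/
abbrev comp {n : ℕ} (a : Fin (n + 1) → ι) :
    (EtCech.cechComplex Uf P).X n ⟶ P.obj (op (obj Uf a)) :=
  Pi.π (fun b : Fin (n + 1) → ι => P.obj (op (∏ᶜ (Uf ∘ b)).left)) a

lemma comp_ext {n : ℕ} {c c' : (EtCech.cechComplex Uf P).X n}
    (h : ∀ a, comp Uf P a c = comp Uf P a c') : c = c' := by
  apply (Concrete.productEquiv (fun b : Fin (n + 1) → ι => P.obj (op (∏ᶜ (Uf ∘ b)).left))).injective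
  funext a
  exact (Concrete.productEquiv_apply_apply _ c a).trans
    ((h a).trans (Concrete.productEquiv_apply_apply _ c' a).symm)

/-- Cochains from components. -/
def mk {n : ℕ} (f : ∀ a : Fin (n + 1) → ι, P.obj (op (obj Uf a))) :
    (EtCech.cechComplex Uf P).X n :=
  (Concrete.productEquiv (fun b : Fin (n + 1) → ι => P.obj (op (∏ᶜ (Uf ∘ b)).left))).symm f

lemma comp_mk {n : ℕ} (f : ∀ a : Fin (n + 1) → ι, P.obj (op (obj Uf a))) (a) :
    comp Uf P a (mk Uf P f) = f a :=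
  Concrete.productEquiv_symm_apply_π
    (fun b : Fin (n + 1) → ι => P.obj (op (∏ᶜ (Uf ∘ b)).left)) f a

lemma comp_d {n : ℕ} (a : Fin (n + 2) → ι) :
    (EtCech.cechComplex Uf P).d n (n + 1) ≫ comp Uf P a =
      ∑ k : Fin (n + 2), (-1 : ℤ) ^ (k : ℕ) •
        (comp Uf P (a ∘ k.succAbove) ≫ P.map (face Uf a k).op) := by
  simp only [EtCech.cechComplex, cechComplexFunctor, FormalCoproduct.cochainComplexFunctor,
    Functor.comp_obj, AlgebraicTopology.alternatingCofaceMapComplex,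
    AlgebraicTopology.AlternatingCofaceMapComplex.obj, CochainComplex.of_d,
    AlgebraicTopology.AlternatingCofaceMapComplex.objD, Preadditive.sum_comp,
    Preadditive.zsmul_comp]
  refine Finset.sum_congr rfl fun k _ => ?_
  congr 1
  exact Pi.lift_π _ _

lemma comp_d_apply {n : ℕ} (a : Fin (n + 2) → ι) (c : (EtCech.cechComplex Uf P).X n) :
    comp Uf P a ((EtCech.cechComplex Uf P).d n (n + 1) c) =
      ∑ k : Fin (n + 2), (-1 : ℤ) ^ (k : ℕ) •
        P.map (face Uf a k).op (comp Uf P (a ∘ k.succAbove) c) := by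
  rw [← ConcreteCategory.comp_apply, comp_d, hom_sum_apply]
  rfl

end Complex

section Nerve

variable (W : C)

/-- An element of the fibre of `∐ Uf` over `W`. -/
abbrev Pt : Type (max w v) := Σ i, W ⟶ (Uf i).left

variable {W}

/-- The base of a point. -/
abbrev base (s : Pt Uf W) : W ⟶ U := s.2 ≫ (Uf s.1).hom

/-- The choice of a point over a base. -/
def choosePt {e : W ⟶ U} (h : ∃ s : Pt Uf W, base Uf s = e) : Pt Uf W := h.choose

variable (W) in
/-- The tuples of points with the same base. -/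
abbrev Tup (n : ℕ) : Type (max w v) :=
  {t : Fin (n + 1) → Pt Uf W // ∀ k, base Uf (t k) = base Uf (t 0)}

/-- The faces of a tuple. -/
def tupFace {n : ℕ} (k : Fin (n + 2)) (t : Tup Uf W (n + 1)) : Tup Uf W n :=
  ⟨t.1 ∘ k.succAbove, fun _ => (t.2 _).trans (t.2 _).symm⟩

/-- The cone on a tuple. -/
def tupCons {n : ℕ} (t : Tup Uf W n) : Tup Uf W (n + 1) :=
  ⟨Fin.cons (choosePt Uf ⟨t.1 0, rfl⟩) t.1, by
    have h : base Uf (choosePt Uf ⟨t.1 0, rfl⟩ : Pt Uf W) = base Uf (t.1 0) :=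
      Exists.choose_spec (⟨t.1 0, rfl⟩ : ∃ s, base Uf s = base Uf (t.1 0))
    intro k
    induction k using Fin.cases with
    | zero => rfl
    | succ j => simpa only [Fin.cons_succ, Fin.cons_zero, h] using t.2 j⟩

lemma tupFace_zero_cons {n : ℕ} (t : Tup Uf W n) : tupFace Uf 0 (tupCons Uf t) = t :=
  Subtype.ext (funext fun j => by simp [tupFace, tupCons])

lemma choosePt_congr {e e' : W ⟶ U} (he : e = e') (h : ∃ s : Pt Uf W, base Uf s = e)
    (h' : ∃ s : Pt Uf W, base Uf s = e') : choosePt Uf h = choosePt Uf h' := by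
  subst he; rfl

lemma tupFace_succ_cons {n : ℕ} (k : Fin (n + 2)) (t : Tup Uf W (n + 1)) :
    tupFace Uf k.succ (tupCons Uf t) = tupCons Uf (tupFace Uf k t) := by
  refine Subtype.ext (funext fun j => ?_)
  induction j using Fin.cases with
  | zero =>
    simp only [tupFace, tupCons, Function.comp_apply, Fin.succ_succAbove_zero, Fin.cons_zero]
    exact choosePt_congr Uf (t.2 _).symm _ _
  | succ i => simp [tupFace, tupCons, Fin.removeNth]

/-- Restriction of tuples. -/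
def tupMap {W' : C} (g : W' ⟶ W) {n : ℕ} (t : Tup Uf W n) : Tup Uf W' n :=
  ⟨fun k => ⟨(t.1 k).1, g ≫ (t.1 k).2⟩, fun k => by
    simpa [base] using congrArg (g ≫ ·) (t.2 k)⟩

lemma tupMap_id {n : ℕ} (t : Tup Uf W n) : tupMap Uf (𝟙 W) t = t :=
  Subtype.ext (funext fun k => by simp [tupMap])

lemma tupMap_comp {W' W'' : C} (g : W' ⟶ W) (g' : W'' ⟶ W') {n : ℕ} (t : Tup Uf W n) :
    tupMap Uf (g' ≫ g) t = tupMap Uf g' (tupMap Uf g t) :=
  Subtype.ext (funext fun k => by simp [tupMap])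

/-- The tuple as a morphism to the iterated fibre product. -/
def toObj {n : ℕ} (t : Tup Uf W n) : W ⟶ obj Uf (fun k => (t.1 k).1) :=
  (Pi.lift fun k => Over.homMk (t.1 k).2 (t.2 k) :
    Over.mk (base Uf (t.1 0)) ⟶ ∏ᶜ (Uf ∘ fun k => (t.1 k).1)).left

lemma toObj_π {n : ℕ} (t : Tup Uf W n) (k : Fin (n + 1)) :
    toObj Uf t ≫ π Uf (fun k => (t.1 k).1) k = (t.1 k).2 := by
  rw [toObj, π, ← Over.comp_left, Pi.lift_π]
  rfl

lemma toObj_map {W' : C} (g : W' ⟶ W) {n : ℕ} (t : Tup Uf W n) :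
    toObj Uf (tupMap Uf g t) = g ≫ toObj Uf t :=
  hom_ext Uf fun k => (toObj_π Uf (tupMap Uf g t) k).trans
    ((congrArg (g ≫ ·) (toObj_π Uf t k)).symm.trans (Category.assoc g _ _).symm)

lemma toObj_face {n : ℕ} (k : Fin (n + 2)) (t : Tup Uf W (n + 1)) :
    toObj Uf (tupFace Uf k t) = toObj Uf t ≫ face Uf (fun j => (t.1 j).1) k :=
  hom_ext Uf fun j => (toObj_π Uf (tupFace Uf k t) j).trans
    ((toObj_π Uf t (k.succAbove j)).symm.trans
      ((congrArg (toObj Uf t ≫ ·) (face_π Uf (fun i => (t.1 i).1) k j)).symm.trans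
        (Category.assoc _ _ _).symm))

/-- The universal tuple. -/
def taut {n : ℕ} (a : Fin (n + 1) → ι) : Tup Uf (obj Uf a) n :=
  ⟨fun k => ⟨a k, π Uf a k⟩, fun k => (π_hom Uf a k).trans (π_hom Uf a 0).symm⟩

lemma toObj_taut {n : ℕ} (a : Fin (n + 1) → ι) : toObj Uf (taut Uf a) = 𝟙 (obj Uf a) :=
  hom_ext Uf fun k => (toObj_π Uf (taut Uf a) k).trans (Category.id_comp _).symm

lemma tupFace_taut {n : ℕ} (a : Fin (n + 2) → ι) (k : Fin (n + 2)) :
    tupFace Uf k (taut Uf a) = tupMap Uf (face Uf a k) (taut Uf (a ∘ k.succAbove)) :=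
  Subtype.ext (funext fun j => Sigma.ext rfl (heq_of_eq (face_π Uf a k j).symm))

end Nerve

section Free

variable [LocallySmall.{w} C]

/-- The presheaf of free groups on tuples. -/
def free (n : ℕ) : Cᵒᵖ ⥤ AddCommGrpCat.{w} where
  obj W := AddCommGrpCat.of (FreeAbelianGroup (Shrink.{w} (Tup Uf W.unop n)))
  map g := AddCommGrpCat.ofHom (FreeAbelianGroup.map fun x =>
    equivShrink _ (tupMap Uf g.unop ((equivShrink _).symm x)))
  map_id W := by
    ext x
    simp [tupMap_id]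
  map_comp g g' := by
    ext x
    simp [tupMap_comp]

/-- A generator. -/
abbrev gen {n : ℕ} {W : Cᵒᵖ} (t : Tup Uf W.unop n) : (free Uf n).obj W :=
  FreeAbelianGroup.of (equivShrink _ t)

lemma free_map_gen {n : ℕ} {W W' : Cᵒᵖ} (g : W ⟶ W') (t : Tup Uf W.unop n) :
    (free Uf n).map g (gen Uf t) = gen Uf (tupMap Uf g.unop t) := by
  change FreeAbelianGroup.map _ (FreeAbelianGroup.of _) = FreeAbelianGroup.of _
  rw [FreeAbelianGroup.map_of_apply, Equiv.symm_apply_apply]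

lemma free_ext {n : ℕ} {W : Cᵒᵖ} {M : AddCommGrpCat.{w}} {f f' : (free Uf n).obj W ⟶ M}
    (h : ∀ t : Tup Uf W.unop n, f (gen Uf t) = f' (gen Uf t)) : f = f' := by
  refine AddCommGrpCat.hom_ext (FreeAbelianGroup.lift_ext _ _ fun x => ?_)
  obtain ⟨t, rfl⟩ := (equivShrink _).surjective x
  exact h t

/-- Morphisms out of the free presheaf. -/
def lift {n : ℕ} (P : Cᵒᵖ ⥤ AddCommGrpCat.{w})
    (f : ∀ W : Cᵒᵖ, Tup Uf W.unop n → P.obj W)
    (hf : ∀ ⦃W W' : Cᵒᵖ⦄ (g : W ⟶ W') (t), f W' (tupMap Uf g.unop t) = P.map g (f W t)) :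
    free Uf n ⟶ P where
  app W := AddCommGrpCat.ofHom (FreeAbelianGroup.lift fun x => f W ((equivShrink _).symm x))
  naturality W W' g := free_ext Uf fun t => by
    rw [ConcreteCategory.comp_apply, ConcreteCategory.comp_apply, free_map_gen]
    change FreeAbelianGroup.lift _ (FreeAbelianGroup.of _) =
      P.map g (FreeAbelianGroup.lift _ (FreeAbelianGroup.of _))
    rw [FreeAbelianGroup.lift_apply_of, FreeAbelianGroup.lift_apply_of, Equiv.symm_apply_apply,
      Equiv.symm_apply_apply, hf]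

lemma lift_gen {n : ℕ} (P : Cᵒᵖ ⥤ AddCommGrpCat.{w})
    (f : ∀ W : Cᵒᵖ, Tup Uf W.unop n → P.obj W) (hf) (W : Cᵒᵖ) (t : Tup Uf W.unop n) :
    (lift Uf P f hf).app W (gen Uf t) = f W t := by
  change FreeAbelianGroup.lift _ (FreeAbelianGroup.of _) = f W t
  rw [FreeAbelianGroup.lift_apply_of, Equiv.symm_apply_apply]

/-- The differential. -/
def dFree (n : ℕ) : free Uf (n + 1) ⟶ free Uf n :=
  lift Uf _ (fun W t => ∑ k : Fin (n + 2), (-1 : ℤ) ^ (k : ℕ) • gen Uf (tupFace Uf k t))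
    (fun W W' g t => by
      simp only [map_sum, map_zsmul, free_map_gen]
      rfl)

lemma dFree_gen {n : ℕ} (W : Cᵒᵖ) (t : Tup Uf W.unop (n + 1)) :
    (dFree Uf n).app W (gen Uf t) =
      ∑ k : Fin (n + 2), (-1 : ℤ) ^ (k : ℕ) • gen Uf (tupFace Uf k t) :=
  lift_gen Uf _ _ _ _ _

/-- The contracting homotopy. -/
def hFree (n : ℕ) (W : Cᵒᵖ) : (free Uf n).obj W ⟶ (free Uf (n + 1)).obj W :=
  AddCommGrpCat.ofHom (FreeAbelianGroup.lift fun x => gen Uf (tupCons Uf ((equivShrink _).symm x)))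

lemma hFree_gen {n : ℕ} (W : Cᵒᵖ) (t : Tup Uf W.unop n) :
    hFree Uf n W (gen Uf t) = gen Uf (tupCons Uf t) := by
  change FreeAbelianGroup.lift _ (FreeAbelianGroup.of _) = _
  rw [FreeAbelianGroup.lift_apply_of, Equiv.symm_apply_apply]

lemma homotopy (n : ℕ) (W : Cᵒᵖ) :
    hFree Uf (n + 1) W ≫ (dFree Uf (n + 1)).app W + (dFree Uf n).app W ≫ hFree Uf n W =
      𝟙 ((free Uf (n + 1)).obj W) := by
  refine free_ext Uf fun t => ?_
  simp only [AddCommGrpCat.hom_add_apply, ConcreteCategory.comp_apply, hFree_gen, dFree_gen,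
    map_sum, map_zsmul, ConcreteCategory.id_apply]
  rw [Fin.sum_univ_succ, tupFace_zero_cons, Fin.val_zero, pow_zero, one_smul, add_assoc,
    ← Finset.sum_add_distrib]
  refine add_eq_left.2 (Finset.sum_eq_zero fun k _ => ?_)
  rw [tupFace_succ_cons, Fin.val_succ, pow_succ, ← add_smul]
  simp

/-- The morphism associated with a cochain. -/
def psi (P : Cᵒᵖ ⥤ AddCommGrpCat.{w}) {n : ℕ} (c : (EtCech.cechComplex Uf P).X n) :
    free Uf n ⟶ P :=
  lift Uf P (fun W t => P.map (toObj Uf t).op (comp Uf P (fun k => (t.1 k).1) c))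
    (fun W W' g t => by
      exact (congrArg (fun q : W'.unop ⟶ obj Uf (fun k => (t.1 k).1) =>
          P.map q.op (comp Uf P (fun k => (t.1 k).1) c)) (toObj_map Uf g.unop t)).trans
        (ConcreteCategory.congr_hom (P.map_comp (toObj Uf t).op g) _))

lemma psi_gen (P : Cᵒᵖ ⥤ AddCommGrpCat.{w}) {n : ℕ} (c : (EtCech.cechComplex Uf P).X n)
    (W : Cᵒᵖ) (t : Tup Uf W.unop n) :
    (psi Uf P c).app W (gen Uf t) = P.map (toObj Uf t).op (comp Uf P (fun k => (t.1 k).1) c) :=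
  lift_gen Uf _ _ _ _ _

lemma dFree_psi (P : Cᵒᵖ ⥤ AddCommGrpCat.{w}) {n : ℕ} (c : (EtCech.cechComplex Uf P).X n) :
    dFree Uf n ≫ psi Uf P c = psi Uf P ((EtCech.cechComplex Uf P).d n (n + 1) c) := by
  ext W : 2
  refine free_ext Uf fun t => ?_
  simp only [NatTrans.comp_app, ConcreteCategory.comp_apply, dFree_gen, map_sum, map_zsmul,
    psi_gen, comp_d_apply]
  refine Finset.sum_congr rfl fun k _ => ?_
  congr 1
  exact (congrArg (fun q : W.unop ⟶ obj Uf ((fun j => (t.1 j).1) ∘ k.succAbove) =>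
      P.map q.op (comp Uf P ((fun j => (t.1 j).1) ∘ k.succAbove) c)) (toObj_face Uf k t)).trans
    (ConcreteCategory.congr_hom
      (P.map_comp (face Uf (fun j => (t.1 j).1) k).op (toObj Uf t).op) _)

/-- The cochain associated with a morphism. -/
def cochain (P : Cᵒᵖ ⥤ AddCommGrpCat.{w}) {n : ℕ} (φ : free Uf n ⟶ P) :
    (EtCech.cechComplex Uf P).X n :=
  mk Uf P fun a => φ.app (op (obj Uf a)) (gen Uf (taut Uf a))

lemma d_cochain (P : Cᵒᵖ ⥤ AddCommGrpCat.{w}) {n : ℕ} (φ : free Uf n ⟶ P) :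
    (EtCech.cechComplex Uf P).d n (n + 1) (cochain Uf P φ) =
      cochain Uf P (dFree Uf n ≫ φ) := by
  refine comp_ext Uf P fun a => ?_
  rw [comp_d_apply, cochain, cochain, comp_mk, NatTrans.comp_app, ConcreteCategory.comp_apply,
    dFree_gen, map_sum]
  refine Finset.sum_congr rfl fun k _ => ?_
  rw [comp_mk, map_zsmul, tupFace_taut]
  congr 1
  exact (NatTrans.naturality_apply φ (face Uf a k).op _).symm.trans
    (congrArg _ (free_map_gen Uf _ _))

lemma cochain_psi (P : Cᵒᵖ ⥤ AddCommGrpCat.{w}) {n : ℕ} (c : (EtCech.cechComplex Uf P).X n) :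
    cochain Uf P (psi Uf P c) = c := by
  refine comp_ext Uf P fun a => ?_
  rw [cochain, comp_mk, psi_gen]
  exact (congrArg (fun q : obj Uf a ⟶ obj Uf a => P.map q.op (comp Uf P a c)) (toObj_taut Uf a)).trans
    (ConcreteCategory.congr_hom (P.map_id (op (obj Uf a))) _)

lemma psi_zero (P : Cᵒᵖ ⥤ AddCommGrpCat.{w}) (n : ℕ) : psi Uf P (n := n) 0 = 0 := by
  ext W : 2
  refine free_ext Uf fun t => ?_
  simp [psi_gen]

/-- Injective presheaves have no Čech cohomology in positive degrees. -/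
theorem isZero_cechH_injective (I : Cᵒᵖ ⥤ AddCommGrpCat.{w}) [Injective I] (p : ℕ) :
    IsZero (EtCech.cechH Uf I (p + 1)) := by
  refine (HomologicalComplex.exactAt_iff_isZero_homology _ _).1 ?_
  rw [HomologicalComplex.exactAt_iff' _ p (p + 1) (p + 1 + 1) (by simp) (by simp),
    ShortComplex.ab_exact_iff]
  intro (c : (EtCech.cechComplex Uf I).X (p + 1)) hc
  have h0 : dFree Uf (p + 1) ≫ psi Uf I c = 0 := by
    rw [dFree_psi, ← psi_zero Uf I (p + 1 + 1)]
    exact congrArg (psi Uf I) hc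
  have hk : kernel.ι (dFree Uf p) ≫ psi Uf I c = 0 := by
    ext W x
    have hx : (dFree Uf p).app W ((kernel.ι (dFree Uf p)).app W x) = 0 := by
      rw [← ConcreteCategory.comp_apply, ← NatTrans.comp_app, kernel.condition]
      simp
    have h := congrArg (fun q => q.hom ((kernel.ι (dFree Uf p)).app W x)) (homotopy Uf p W)
    simp only [AddCommGrpCat.hom_add, AddMonoidHom.add_apply, AddCommGrpCat.hom_comp,
      AddMonoidHom.comp_apply, AddCommGrpCat.hom_id, AddMonoidHom.id_apply] at h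
    rw [hx, map_zero, add_zero] at h
    simp only [NatTrans.comp_app, ConcreteCategory.comp_apply]
    rw [← h, ← ConcreteCategory.comp_apply, ← NatTrans.comp_app, h0]
    simp
  let ψ' : free Uf p ⟶ I :=
    Injective.factorThru (cokernel.desc (kernel.ι (dFree Uf p)) (psi Uf I c) hk)
      (Abelian.factorThruCoimage (dFree Uf p))
  have hψ : dFree Uf p ≫ ψ' = psi Uf I c := by
    conv_lhs => rw [← Abelian.coimage.fac (dFree Uf p)]
    rw [Category.assoc, Injective.comp_factorThru, cokernel.π_desc]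
  exact ⟨cochain Uf I ψ', (d_cochain Uf I ψ').trans (by rw [hψ, cochain_psi])⟩

end Free

end Groth.Agent.EtaleSite.CechPre
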