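import Groth.Prelude.Def_EtCore
import Groth.Agent.EtaleSite.Pull
import Mathlib.Algebra.Homology.DerivedCategory.Ext.Map
import Mathlib.Algebra.Homology.DerivedCategory.Ext.ExactSequences

/-!
`EtCore.Hpull` is compatible with maps of coefficients and with connecting homomorphisms.
-/

universe u

open CategoryTheory CategoryTheory.Limits AlgebraicGeometry Opposite

namespace Groth.Agent.EtaleSite.HpullSeq

variable {X Y : Scheme.{u}} (f : X ⟶ Y) [PreservesFiniteLimits (EtCoh.pull f)]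

theorem Hpull_postcomp {F G : EtCoh.Ab Y} (a : F ⟶ G) (n : ℕ) (e : EtCoh.H Y F n) :
    EtCore.Hpull f G n (e.comp (Abelian.Ext.mk₀ a) (add_zero n)) =
      (EtCore.Hpull f F n e).comp (Abelian.Ext.mk₀ ((EtCoh.pull f).map a)) (add_zero n) := by
  change (Abelian.Ext.mk₀ (EtCore.pullConst f ℤ).inv).comp
    ((e.comp (Abelian.Ext.mk₀ a) (add_zero n)).mapExactFunctor (EtCoh.pull f)) (zero_add n) = _
  rw [Abelian.Ext.mapExactFunctor_comp, Abelian.Ext.mapExactFunctor_mk₀]
  exact (Abelian.Ext.comp_assoc _ _ _ (zero_add n) (add_zero n) (by omega)).symm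

theorem Hpull_extClass {S : ShortComplex (EtCoh.Ab Y)} (hS : S.ShortExact) (n : ℕ)
    (e : EtCoh.H Y S.X₃ n) :
    EtCore.Hpull f S.X₁ (n + 1) (e.comp hS.extClass rfl) =
      (EtCore.Hpull f S.X₃ n e).comp (hS.map_of_exact (EtCoh.pull f)).extClass rfl := by
  change (Abelian.Ext.mk₀ (EtCore.pullConst f ℤ).inv).comp
    ((e.comp hS.extClass rfl).mapExactFunctor (EtCoh.pull f)) (zero_add (n + 1)) = _
  rw [Abelian.Ext.mapExactFunctor_comp, Abelian.Ext.mapExactFunctor_extClass]
  exact (Abelian.Ext.comp_assoc _ _ _ (zero_add n) rfl (by omega)).symm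

end Groth.Agent.EtaleSite.HpullSeq
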