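import Groth.Prelude.Def_EtCore
import Groth.Agent.EtaleSite.HpullSeq
import Mathlib.Algebra.Homology.DerivedCategory.Ext.EnoughInjectives
import Mathlib.CategoryTheory.Sites.CoversTop.Basic

/-!
`EtCore.Hpull` is compatible with composition of morphisms of schemes.
-/

universe u

open CategoryTheory CategoryTheory.Limits AlgebraicGeometry Opposite

namespace Groth.Agent.EtaleSite.HpullComp

variable {X Y Z : Scheme.{u}} (g : X ⟶ Y) (h : Y ⟶ Z)

/-- The element corresponding to a map out of a constant sheaf after inverse image. -/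
theorem pullConst_homEquiv (f : X ⟶ Y) (M : AddCommGrpCat.{u + 1}) {A : EtCoh.Ab X}
    (φ : (EtCoh.pull f).obj ((constantSheaf Y.smallEtaleTopology AddCommGrpCat.{u + 1}).obj M) ⟶ A) :
    (EtCore.constAdj X).homEquiv _ _ ((EtCore.pullConstIso f).inv.app M ≫ φ) =
      ((EtCore.constAdj Y).homEquiv _ _ ((EtCoh.pullPushAdj f).homEquiv _ _ φ)) ≫
        (EtCore.pushGsecIso f).hom.app A := by
  have hinv : (EtCore.pullConstIso f).inv.app M =
      (Adjunction.leftAdjointUniq (EtCore.constAdj X)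
        (((EtCore.constAdj Y).comp (EtCoh.pullPushAdj f)).ofNatIsoRight (EtCore.pushGsecIso f))).hom.app M :=
    Adjunction.leftAdjointUniq_inv_app _ _ M
  rw [hinv, Adjunction.homEquiv_naturality_right, Adjunction.homEquiv_leftAdjointUniq_hom_app]
  refine ((Adjunction.homEquiv_unit
    (((EtCore.constAdj Y).comp (EtCoh.pullPushAdj f)).ofNatIsoRight (EtCore.pushGsecIso f)) M A φ).symm.trans
    (Adjunction.homEquiv_ofNatIsoRight_apply (X := M) (Y := A)
      ((EtCore.constAdj Y).comp (EtCoh.pullPushAdj f)) (EtCore.pushGsecIso f) φ)).trans ?_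
  rw [Adjunction.comp_homEquiv]
  rfl

/-- Inverse images of constant sheaves compose. -/
theorem pullConst_comp (M : AddCommGrpCat.{u + 1}) :
    (EtCore.pullConstIso (g ≫ h)).inv.app M ≫
        (EtCore.pullComp g h).hom.app ((constantSheaf Z.smallEtaleTopology AddCommGrpCat.{u + 1}).obj M) =
      (EtCore.pullConstIso g).inv.app M ≫ (EtCoh.pull g).map ((EtCore.pullConstIso h).inv.app M) := by
  apply ((EtCore.constAdj X).homEquiv _ _).injective
  rw [pullConst_homEquiv, pullConst_homEquiv]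
  have e : (EtCoh.pullPushAdj g).homEquiv _ _ ((EtCoh.pull g).map ((EtCore.pullConstIso h).inv.app M)) =
      (EtCore.pullConstIso h).inv.app M ≫ (EtCoh.pullPushAdj g).unit.app _ := by
    rw [Adjunction.homEquiv_unit]
    exact ((EtCoh.pullPushAdj g).unit.naturality _).symm
  refine Eq.trans ?_ (congrArg (fun t => ((EtCore.constAdj Y).homEquiv _ _ t) ≫
    (EtCore.pushGsecIso g).hom.app _) e).symm
  refine Eq.trans ?_ (congrArg (· ≫ (EtCore.pushGsecIso g).hom.app _)
    (pullConst_homEquiv h M ((EtCoh.pullPushAdj g).unit.app _))).symm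
  have e2 : (EtCoh.pullPushAdj (g ≫ h)).homEquiv _ _
      ((EtCore.pullComp g h).hom.app ((constantSheaf Z.smallEtaleTopology AddCommGrpCat.{u + 1}).obj M)) =
      (EtCoh.pullPushAdj h).homEquiv _ _ ((EtCoh.pullPushAdj g).unit.app _) ≫
        (EtCoh.pushComp h g).hom.app _ := by
    refine (Adjunction.homEquiv_leftAdjointUniq_hom_app _ _ _).trans ?_
    simp [Adjunction.ofNatIsoRight, Adjunction.homEquiv_unit]
  refine (congrArg (fun t => ((EtCore.constAdj Z).homEquiv _ _ t) ≫
    (EtCore.pushGsecIso (g ≫ h)).hom.app _) e2).trans ?_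
  rw [Adjunction.homEquiv_naturality_right, Category.assoc, Category.assoc]
  congr 1
  let F := (EtCoh.pull g).obj ((EtCoh.pull h).obj
    ((constantSheaf Z.smallEtaleTopology AddCommGrpCat.{u + 1}).obj M))
  change _ = F.obj.map _ ≫ F.obj.map _
  change F.obj.map _ ≫ F.obj.map _ = _
  rw [← F.obj.map_comp, ← F.obj.map_comp]
  congr 1
  apply Quiver.Hom.unop_inj
  exact (IsTerminal.isTerminalObj (EtCoh.bc g) _ (EtCore.bcTopIsTerminal h)).hom_ext _ _

theorem Hpull_mk₀ (f : X ⟶ Y) [PreservesFiniteLimits (EtCoh.pull f)] {G : EtCoh.Ab Y}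
    (x : EtCoh.const Y ℤ ⟶ G) :
    EtCore.Hpull f G 0 (Abelian.Ext.mk₀ x) =
      Abelian.Ext.mk₀ ((EtCore.pullConst f ℤ).inv ≫ (EtCoh.pull f).map x) := by
  change (Abelian.Ext.mk₀ (EtCore.pullConst f ℤ).inv).comp
    ((Abelian.Ext.mk₀ x).mapExactFunctor (EtCoh.pull f)) (zero_add 0) = _
  rw [Abelian.Ext.mapExactFunctor_mk₀, Abelian.Ext.mk₀_comp_mk₀]

/-- `Hpull (g ≫ h)` is `Hpull g` after `Hpull h`, through `pullComp`. -/
theorem Hpull_comp [PreservesFiniteLimits (EtCoh.pull g)] [PreservesFiniteLimits (EtCoh.pull h)]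
    [PreservesFiniteLimits (EtCoh.pull (g ≫ h))] (n : ℕ) (G : EtCoh.Ab Z) (e : EtCoh.H Z G n) :
    (EtCore.Hpull (g ≫ h) G n e).comp (Abelian.Ext.mk₀ ((EtCore.pullComp g h).hom.app G)) (add_zero n) =
      EtCore.Hpull g ((EtCoh.pull h).obj G) n (EtCore.Hpull h G n e) := by
  induction n generalizing G with
  | zero =>
    obtain ⟨x, rfl⟩ := (Abelian.Ext.mk₀_bijective _ _).2 e
    rw [Hpull_mk₀, Hpull_mk₀, Hpull_mk₀, Abelian.Ext.mk₀_comp_mk₀]
    congr 1
    have hc := pullConst_comp g h (AddCommGrpCat.of (ULift.{u + 1} ℤ))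
    rw [Category.assoc, (EtCore.pullComp g h).hom.naturality, ← Category.assoc, Functor.map_comp,
      ← Category.assoc]
    exact congrArg (· ≫ (EtCoh.pull g).map ((EtCoh.pull h).map x)) hc
  | succ n ih =>
    let S : ShortComplex (EtCoh.Ab Z) :=
      ShortComplex.mk (Injective.ι G) (cokernel.π (Injective.ι G)) (cokernel.condition _)
    have hS : S.ShortExact :=
      { exact := ShortComplex.exact_of_g_is_cokernel _ (cokernelIsCokernel _) }
    have h0 : e.comp (Abelian.Ext.mk₀ S.f) (add_zero (n + 1)) = 0 :=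
      Abelian.Ext.eq_zero_of_injective _
    obtain ⟨y, rfl⟩ := Abelian.Ext.covariant_sequence_exact₁ _ hS e h0 rfl
    change (EtCore.Hpull (g ≫ h) S.X₁ (n + 1) _).comp _ _ = EtCore.Hpull g _ (n + 1) (EtCore.Hpull h S.X₁ (n + 1) _)
    rw [HpullSeq.Hpull_extClass, HpullSeq.Hpull_extClass (f := h)]
    refine Eq.trans ?_ (HpullSeq.Hpull_extClass g (hS.map_of_exact (EtCoh.pull h)) n _).symm
    refine Eq.trans ?_ (congrArg (fun t => Abelian.Ext.comp t
      ((hS.map_of_exact (EtCoh.pull h)).map_of_exact (EtCoh.pull g)).extClass (rfl : n + 1 = n + 1))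
      (ih S.X₃ y))
    have := ((hS.map_of_exact (EtCoh.pull (g ≫ h))).extClass_naturality
      ((hS.map_of_exact (EtCoh.pull h)).map_of_exact (EtCoh.pull g))
      (S.mapNatTrans (EtCore.pullComp g h).hom))
    refine (Abelian.Ext.comp_assoc _ _ _ rfl (add_zero 1) (by omega)).trans ?_
    refine Eq.trans ?_ (Abelian.Ext.comp_assoc _ _ _ (add_zero n) (zero_add 1) (by omega)).symm
    exact congrArg (fun t => Abelian.Ext.comp _ t (rfl : n + 1 = n + 1)) this

end Groth.Agent.EtaleSite.HpullComp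
namespace Groth.Agent.EtaleSite.HpullComp

variable {X Y Z : Scheme.{u}}

section Id

/-- The first projection of a pullback along an identity. -/
noncomputable def fstIdIso {A X : Scheme.{u}} (p : A ⟶ X) : pullback p (𝟙 X) ≅ A where
  hom := pullback.fst p (𝟙 X)
  inv := pullback.lift (𝟙 _) p (by simp)
  hom_inv_id := pullback.hom_ext (by rw [Category.assoc, pullback.lift_fst, Category.comp_id, Category.id_comp]) (by
    rw [Category.assoc, pullback.lift_snd, Category.id_comp, pullback.condition, Category.comp_id])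
  inv_hom_id := pullback.lift_fst _ _ _

set_option backward.isDefEq.respectTransparency.types false in
/-- Base change along the identity. -/
noncomputable def bcId (X : Scheme.{u}) : EtCoh.bc (𝟙 X) ≅ 𝟭 X.Etale :=
  NatIso.ofComponents (fun V => MorphismProperty.Over.isoMk
      (fstIdIso V.hom : ((EtCoh.bc (𝟙 X)).obj V).left ≅ V.left)
      (by
        change pullback.fst V.hom (𝟙 X) ≫ V.hom = pullback.snd V.hom (𝟙 X)
        rw [pullback.condition, Category.comp_id]))
    (fun {V W} g => MorphismProperty.Over.Hom.ext (EtCoh.isPullback_bc_map (𝟙 X) g).w)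

/-- Inverse image along the identity. -/
noncomputable def pullId (X : Scheme.{u}) : EtCoh.pull (𝟙 X) ≅ 𝟭 (EtCoh.Ab X) :=
  Adjunction.leftAdjointUniq (EtCoh.pullPushAdj (𝟙 X))
    (Adjunction.id.ofNatIsoRight
      (Functor.sheafPushforwardContinuousId' (bcId X) AddCommGrpCat.{u + 1} X.smallEtaleTopology).symm)

theorem pullConst_id (M : AddCommGrpCat.{u + 1}) :
    (EtCore.pullConstIso (𝟙 X)).inv.app M ≫
      (pullId X).hom.app ((constantSheaf X.smallEtaleTopology AddCommGrpCat.{u + 1}).obj M) = 𝟙 _ := by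
  apply ((EtCore.constAdj X).homEquiv _ _).injective
  refine (pullConst_homEquiv (𝟙 X) M _).trans ?_
  refine (congrArg (fun t => ((EtCore.constAdj X).homEquiv M _ t) ≫
    (EtCore.pushGsecIso (𝟙 X)).hom.app
      ((constantSheaf X.smallEtaleTopology AddCommGrpCat.{u + 1}).obj M))
    (Adjunction.homEquiv_leftAdjointUniq_hom_app (EtCoh.pullPushAdj (𝟙 X))
      (Adjunction.id.ofNatIsoRight (Functor.sheafPushforwardContinuousId' (bcId X)
        AddCommGrpCat.{u + 1} X.smallEtaleTopology).symm) _)).trans ?_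
  let F := (constantSheaf X.smallEtaleTopology AddCommGrpCat.{u + 1}).obj M
  rw [Adjunction.homEquiv_unit, Adjunction.homEquiv_unit, Category.assoc]
  congr 1
  change (𝟙 _ ≫ F.obj.map _) ≫ F.obj.map _ = 𝟙 _
  rw [Category.id_comp, ← F.obj.map_comp, ← F.obj.map_id]
  congr 1
  apply Quiver.Hom.unop_inj
  exact (EtCore.topIsTerminal X).hom_ext _ _

theorem Hpull_id [PreservesFiniteLimits (EtCoh.pull (𝟙 X))] (n : ℕ) (G : EtCoh.Ab X) (e : EtCoh.H X G n) :
    (EtCore.Hpull (𝟙 X) G n e).comp (Abelian.Ext.mk₀ ((pullId X).hom.app G)) (add_zero n) = e := by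
  induction n generalizing G with
  | zero =>
    obtain ⟨x, rfl⟩ := (Abelian.Ext.mk₀_bijective _ _).2 e
    rw [Hpull_mk₀, Abelian.Ext.mk₀_comp_mk₀]
    congr 1
    refine (Category.assoc _ _ _).trans ?_
    refine (congrArg ((EtCore.pullConst (𝟙 X) ℤ).inv ≫ ·) ((pullId X).hom.naturality x)).trans ?_
    refine (Category.assoc _ _ _).symm.trans ?_
    exact (congrArg (· ≫ x) (pullConst_id (AddCommGrpCat.of (ULift.{u + 1} ℤ)))).trans (Category.id_comp x)
  | succ n ih =>
    let S : ShortComplex (EtCoh.Ab X) :=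
      ShortComplex.mk (Injective.ι G) (cokernel.π (Injective.ι G)) (cokernel.condition _)
    have hS : S.ShortExact :=
      { exact := ShortComplex.exact_of_g_is_cokernel _ (cokernelIsCokernel _) }
    have h0 : e.comp (Abelian.Ext.mk₀ S.f) (add_zero (n + 1)) = 0 :=
      Abelian.Ext.eq_zero_of_injective _
    obtain ⟨y, rfl⟩ := Abelian.Ext.covariant_sequence_exact₁ _ hS e h0 rfl
    change (EtCore.Hpull (𝟙 X) S.X₁ (n + 1) _).comp _ _ = _
    rw [HpullSeq.Hpull_extClass (f := 𝟙 X)]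
    have := (hS.map_of_exact (EtCoh.pull (𝟙 X))).extClass_naturality hS
      (S.mapNatTrans (pullId X).hom)
    refine (Abelian.Ext.comp_assoc _ _ _ rfl (add_zero 1) (by omega)).trans ?_
    refine Eq.trans (congrArg (fun t => Abelian.Ext.comp (EtCore.Hpull (𝟙 X) S.X₃ n y) t
      (rfl : n + 1 = n + 1)) this) ?_
    refine (Abelian.Ext.comp_assoc _ _ _ (add_zero n) (zero_add 1) (by omega)).symm.trans ?_
    exact congrArg (fun t => Abelian.Ext.comp t hS.extClass (rfl : n + 1 = n + 1)) (ih S.X₃ y)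

end Id

theorem HF_map_bijective {n : ℕ} {F G : EtCoh.Ab X} (a : F ⟶ G) [IsIso a] :
    Function.Bijective (fun e : EtCoh.H X F n => e.comp (Abelian.Ext.mk₀ a) (add_zero n)) := by
  refine ⟨fun x y hxy => ?_, fun y => ⟨y.comp (Abelian.Ext.mk₀ (inv a)) (add_zero n), ?_⟩⟩
  · have := congrArg (fun e => Abelian.Ext.comp e (Abelian.Ext.mk₀ (inv a)) (add_zero n)) hxy
    simpa using this
  · simp

theorem Hpull_congr {f f' : X ⟶ Y} (w : f = f') [PreservesFiniteLimits (EtCoh.pull f)]
    [PreservesFiniteLimits (EtCoh.pull f')] (G : EtCoh.Ab Y) (n : ℕ) :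
    (Function.Injective (EtCore.Hpull f G n) ↔ Function.Injective (EtCore.Hpull f' G n)) ∧
      (Function.Surjective (EtCore.Hpull f G n) ↔ Function.Surjective (EtCore.Hpull f' G n)) := by
  subst w
  exact ⟨Iff.rfl, Iff.rfl⟩

/-- Bijectivity properties of `Hpull` of a composite. -/
theorem Hpull_comp_injective_iff (g : X ⟶ Y) (h : Y ⟶ Z) [PreservesFiniteLimits (EtCoh.pull g)]
    [PreservesFiniteLimits (EtCoh.pull h)] [PreservesFiniteLimits (EtCoh.pull (g ≫ h))]
    (n : ℕ) (G : EtCoh.Ab Z) :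
    (Function.Injective (EtCore.Hpull (g ≫ h) G n) ↔
      Function.Injective (fun e => EtCore.Hpull g ((EtCoh.pull h).obj G) n (EtCore.Hpull h G n e))) ∧
    (Function.Surjective (EtCore.Hpull (g ≫ h) G n) ↔
      Function.Surjective (fun e => EtCore.Hpull g ((EtCoh.pull h).obj G) n (EtCore.Hpull h G n e))) := by
  have hb := HF_map_bijective (n := n) ((EtCore.pullComp g h).hom.app G)
  have e : (fun e => EtCore.Hpull g ((EtCoh.pull h).obj G) n (EtCore.Hpull h G n e)) =
      (fun e : EtCoh.H X ((EtCoh.pull (g ≫ h)).obj G) n =>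
        e.comp (Abelian.Ext.mk₀ ((EtCore.pullComp g h).hom.app G)) (add_zero n)) ∘
      EtCore.Hpull (g ≫ h) G n := funext fun e => (Hpull_comp g h n G e).symm
  rw [e]
  exact ⟨⟨fun hi => hb.1.comp hi, fun hi => hi.of_comp⟩,
    ⟨fun hs => hb.2.comp hs, fun hs => hs.of_comp_left hb.1⟩⟩

theorem Hpull_id_bijective [PreservesFiniteLimits (EtCoh.pull (𝟙 X))] (n : ℕ) (G : EtCoh.Ab X) :
    Function.Bijective (EtCore.Hpull (𝟙 X) G n) := by
  have hb := HF_map_bijective (n := n) ((pullId X).hom.app G)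
  exact ⟨fun a b hab => by rw [← Hpull_id n G a, ← Hpull_id n G b, hab],
    fun y => ⟨y.comp (Abelian.Ext.mk₀ ((pullId X).hom.app G)) (add_zero n), hb.1 (Hpull_id n G _)⟩⟩

/-- Pullback on cohomology along an isomorphism is bijective. -/
theorem Hpull_bijective_of_isIso (φ : X ⟶ Y) [IsIso φ] [PreservesFiniteLimits (EtCoh.pull φ)]
    (n : ℕ) (G : EtCoh.Ab Y) : Function.Bijective (EtCore.Hpull φ G n) := by
  constructor
  · have h := ((Hpull_congr (IsIso.inv_hom_id φ) G n).1.2 (Hpull_id_bijective n G).1)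
    exact fun a b hab => (Hpull_comp_injective_iff (inv φ) φ n G).1.1 h
      (congrArg (EtCore.Hpull (inv φ) ((EtCoh.pull φ).obj G) n) hab)
  · intro y
    have hs : ∀ G', Function.Surjective (EtCore.Hpull φ ((EtCoh.pull (inv φ)).obj G') n) := fun G' => by
      have h := (Hpull_congr (IsIso.hom_inv_id φ) G' n).2.2 (Hpull_id_bijective n G').2
      intro z
      obtain ⟨x, hx⟩ := (Hpull_comp_injective_iff φ (inv φ) n G').2.1 h z
      exact ⟨_, hx⟩
    let a : G ≅ (EtCoh.pull (inv φ)).obj ((EtCoh.pull φ).obj G) :=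
      ((pullId Y).app G).symm ≪≫ (EtCore.pullCongr (IsIso.inv_hom_id φ).symm).app G ≪≫
        (EtCore.pullComp (inv φ) φ).app G
    obtain ⟨z, hz⟩ := hs _ (y.comp (Abelian.Ext.mk₀ ((EtCoh.pull φ).map a.hom)) (add_zero n))
    refine ⟨z.comp (Abelian.Ext.mk₀ a.inv) (add_zero n), ?_⟩
    rw [HpullSeq.Hpull_postcomp, hz, Abelian.Ext.comp_assoc_of_second_deg_zero,
      Abelian.Ext.mk₀_comp_mk₀, ← Functor.map_comp, a.hom_inv_id, CategoryTheory.Functor.map_id,
      Abelian.Ext.comp_mk₀_id]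

end Groth.Agent.EtaleSite.HpullComp
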