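import Groth.Agent.EtaleSite.AmitsurInj
import Groth.Agent.EtColim.Sections
import Groth.Agent.EtaleSite.SplitScheme
import Groth.Agent.EtaleSite.Flasque
import Groth.Agent.SiteCoh.DimShift

/-!
# Sheaves with exact Amitsur complexes are acyclic on affine schemes
-/

set_option autoImplicit false
universe u

open CategoryTheory CategoryTheory.Limits AlgebraicGeometry Opposite

set_option backward.isDefEq.respectTransparency false
set_option backward.isDefEq.respectTransparency.types false

noncomputable section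

namespace Groth.Agent.EtaleSite.Amitsur

open Groth.Agent.AdeqAmitsur

variable {X : Scheme.{u}}

theorem D_zero {C : Type*} [Category C] [HasFiniteProducts C] (U : C) (P : Cᵒᵖ ⥤ AddCommGrpCat)
    (c : P.obj (op (O U 0))) : D U P 0 c = pm P (face U 0 0) c := by
  simp [D_apply]

/-- Lifts along an epimorphism exist on one affine covering of an affine object. -/
theorem exists_lift_single {G H : EtCoh.Ab X} (g : G ⟶ H) [Epi g] (E : X.Etale) [IsAffine E.left]
    (t : H.obj.obj (op E)) :
    ∃ U : Over E, IsAffine U.left.left ∧ Surjective (str U) ∧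
      ∃ s : G.obj.obj (op U.left), (g.hom.app (op U.left)).hom s = (H.obj.map U.hom.op).hom t := by
  have hg : Sheaf.IsLocallySurjective g :=
    (Sheaf.isLocallySurjective_iff_epi' AddCommGrpCat.{u + 1} g).2 inferInstance
  obtain ⟨ι, hι, V, f, hf, hV, hcov⟩ :=
    EtColim.Sections.exists_finite_refinement (Presheaf.imageSieve_mem X.smallEtaleTopology g.hom (U := op E) t)
  choose s hs using hf
  let f' : ∀ a, (V a).left ⟶ E.left := fun a => (f a).left
  have : ∀ a, Etale (f' a) := fun a => by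
    haveI : Etale (V a).hom := (V a).prop
    haveI : Etale E.hom := E.prop
    haveI : Etale ((f a).left ≫ E.hom) := (MorphismProperty.Over.w (f a)).symm ▸ (V a).prop
    exact Etale.of_comp _ E.hom
  have hd : Etale (Sigma.desc f') := EtaleSite.etale_sigmaDesc _
  have := hd
  haveI : Etale E.hom := E.prop
  let P : X.Etale := Scheme.Etale.mk (Sigma.desc f' ≫ E.hom)
  let d : P ⟶ E := MorphismProperty.Over.homMk (Sigma.desc f') rfl trivial
  have hP : IsAffine P.left := inferInstanceAs (IsAffine (∐ fun a => (V a).left))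
  refine ⟨Over.mk d, hP, ⟨fun x => ?_⟩, ?_⟩
  · obtain ⟨a, z, hz⟩ := hcov x
    refine ⟨Sigma.ι (fun a => (V a).left) a z, ?_⟩
    refine Eq.trans ?_ hz
    change (Sigma.ι (fun a => (V a).left) a ≫ Sigma.desc f') z = _
    rw [Sigma.ι_desc]
  obtain ⟨W, hd', hc, hk⟩ := EtaleSite.exists_pieces (𝟙 (∐ fun a => (V a).left))
  choose k hk using hk
  have hkf : ∀ a, k a ≫ f' a = (W a).ι ≫ Sigma.desc f' := fun a => by
    have h := congrArg (· ≫ Sigma.desc f') (hk a)
    simpa using h
  let k' : ∀ a, piece P (W a) ⟶ V a := fun a => MorphismProperty.Over.homMk (k a) (by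
    rw [← MorphismProperty.Over.w (f a), ← Category.assoc]
    exact (congrArg (· ≫ E.hom) (hkf a)).trans (Category.assoc _ _ _)) trivial
  have hk' : ∀ a, k' a ≫ f a = pieceHom P (W a) ≫ d := fun a =>
    MorphismProperty.Over.Hom.ext (hkf a)
  obtain ⟨r, hr⟩ := EtaleSite.exists_glue_disjoint G (U := P) W hd' hc
    fun a => (G.obj.map (k' a).op).hom (s a)
  refine ⟨r, EtaleSite.eq_of_pieces H (U := P) W hc _ _ fun a => ?_⟩
  refine (NatTrans.naturality_apply g.hom (pieceHom P (W a)).op r).symm.trans ?_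
  refine (congrArg _ (hr a)).trans ?_
  refine (NatTrans.naturality_apply g.hom (k' a).op (s a)).trans ?_
  refine (congrArg _ (hs a)).trans ?_
  change _ = (H.obj.map _).hom ((H.obj.map d.op).hom t)
  rw [← ConcreteCategory.comp_apply, ← Functor.map_comp, ← ConcreteCategory.comp_apply, ← Functor.map_comp,
    ← op_comp, ← op_comp, hk']

section Short

variable (C : ShortComplex (EtCoh.Ab X)) (hC : C.ShortExact)
include hC

theorem sections_injective (W : X.Etale) : Function.Injective (C.f.hom.app (op W)).hom := by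
  have := hC.mono_f
  have : Mono ((sheafToPresheaf _ _ ⋙ (evaluation _ _).obj (op W)).map C.f) := inferInstance
  exact (AddCommGrpCat.mono_iff_injective _).1 this

theorem sections_zero (W : X.Etale) (x : C.X₁.obj.obj (op W)) :
    (C.g.hom.app (op W)).hom ((C.f.hom.app (op W)).hom x) = 0 :=
  congr(($(congrArg (fun k : C.X₁ ⟶ C.X₃ => k.hom.app (op W)) C.zero)).hom x)

theorem sections_exact (W : X.Etale) (y : C.X₂.obj.obj (op W)) (hy : (C.g.hom.app (op W)).hom y = 0) :
    ∃ x, (C.f.hom.app (op W)).hom x = y := by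
  let R : EtCoh.Ab X ⥤ AddCommGrpCat.{u + 1} := sheafToPresheaf _ _ ⋙ (evaluation _ _).obj (op W)
  have : R.Additive := {}
  have h := (R.preservesFiniteLimits_iff_forall_exact_map_and_mono.1 inferInstance C hC).1
  exact (ShortComplex.ab_exact_iff _).1 h y hy

variable [HasSheafify X.smallEtaleTopology AddCommGrpCat.{u + 1}] [Injective C.X₂] (h₁ : Cech C.X₁)
include h₁

/-- Sections of the cokernel lift on affine objects. -/
theorem sections_surjective (E : X.Etale) [IsAffine E.left] :
    Function.Surjective (C.g.hom.app (op E)).hom := by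
  intro t
  have := hC.epi_g
  obtain ⟨U, hU, hsur, s, hs⟩ := exists_lift_single C.g E t
  let φ : secPre E C.X₁.obj ⟶ secPre E C.X₂.obj := Functor.whiskerLeft _ C.f.hom
  let ψ : secPre E C.X₂.obj ⟶ secPre E C.X₃.obj := Functor.whiskerLeft _ C.g.hom
  let e : (secPre E C.X₂.obj).obj (op (O U 1)) := pm (secPre E C.X₂.obj) (π U 0) s
  let t0 : (secPre E C.X₃.obj).obj (op (O U 0)) := (C.X₃.obj.map (O U 0).hom.op).hom t
  have he : (ψ.app _).hom e = D U (secPre E C.X₃.obj) 0 t0 := by
    rw [D_zero, pm_nat]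
    refine (congrArg (pm (secPre E C.X₃.obj) (π U 0)) hs).trans ?_
    change (C.X₃.obj.map (π U 0).left.op).hom ((C.X₃.obj.map U.hom.op).hom t) =
      (C.X₃.obj.map (face U 0 0).left.op).hom ((C.X₃.obj.map (O U 0).hom.op).hom t)
    rw [← ConcreteCategory.comp_apply, ← Functor.map_comp, ← ConcreteCategory.comp_apply, ← Functor.map_comp,
      ← op_comp, ← op_comp, Over.w, Over.w]
  obtain ⟨c, hc⟩ := sections_exact C hC (O U 2).left (D U (secPre E C.X₂.obj) 1 e)
    ((D_nat U ψ 1 e).trans ((congrArg _ he).trans (D_D U _ 0 t0)))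
  obtain ⟨b, rfl⟩ := h₁ E U hsur 1 c (sections_injective C hC (O U 3).left
    ((D_nat U φ 2 c).trans ((congrArg _ hc).trans ((D_D U _ 1 e).trans (map_zero (C.f.hom.app (op (O U 3).left)).hom).symm))))
  obtain ⟨a, ha⟩ := cech_of_injective C.X₂ E U hsur 0 (e - (φ.app _).hom b)
    (by rw [map_sub, ← D_nat]; exact sub_eq_zero.2 hc.symm)
  let ι0 : Over.mk (𝟙 E) ⟶ O U 0 := Pi.lift fun i : Fin 0 => i.elim0
  let δ : U ⟶ O U 1 := Pi.lift fun _ => 𝟙 U
  refine ⟨pm (secPre E C.X₂.obj) ι0 a, ?_⟩
  refine C.X₃.property.isSeparated _ _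
    (cover_mem U hsur)
    _ _ fun Z q hq => ?_
  obtain ⟨-, r, rfl⟩ := Sieve.mem_ofArrows_iff .. |>.1 hq
  rw [op_comp, Functor.map_comp, ConcreteCategory.comp_apply, ConcreteCategory.comp_apply]
  congr 1
  refine ((NatTrans.naturality_apply C.g.hom U.hom.op _).symm.trans ?_).trans hs
  change (ψ.app (op U)).hom (pm (secPre E C.X₂.obj) (Over.homMk U.hom : U ⟶ Over.mk (𝟙 E))
    (pm (secPre E C.X₂.obj) ι0 a)) = (ψ.app (op U)).hom s
  have hfac : (Over.homMk U.hom : U ⟶ Over.mk (𝟙 E)) ≫ ι0 = δ ≫ face U 0 0 :=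
    Pi.hom_ext _ _ fun i => i.elim0
  have h0 : pm (secPre E C.X₂.obj) (face U 0 0) a = e - (φ.app _).hom b := (D_zero U _ a).symm.trans ha
  rw [← pm_comp, hfac, pm_comp, h0, map_sub]
  rw [show pm (secPre E C.X₂.obj) δ e = s by
    rw [← pm_comp, show δ ≫ π U 0 = 𝟙 U from Pi.lift_π _ _, pm_id]]
  rw [map_sub, pm_nat ψ, show (ψ.app (op (O U 1))).hom ((φ.app (op (O U 1))).hom b) = 0 from
    sections_zero C hC _ b, map_zero, sub_zero]

/-- Exactness of Amitsur complexes passes to such cokernels. -/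
theorem cech_X₃ : Cech C.X₃ := by
  intro E _ U _ hU m c hc
  let φ : secPre E C.X₁.obj ⟶ secPre E C.X₂.obj := Functor.whiskerLeft _ C.f.hom
  let ψ : secPre E C.X₂.obj ⟶ secPre E C.X₃.obj := Functor.whiskerLeft _ C.g.hom
  have := isAffine_O U (m + 1)
  obtain ⟨e, rfl⟩ := sections_surjective C hC h₁ (O U (m + 1)).left c
  obtain ⟨c', hc'⟩ := sections_exact C hC (O U (m + 2)).left (D U (secPre E C.X₂.obj) (m + 1) e)
    ((D_nat U ψ (m + 1) e).trans hc)
  obtain ⟨b, rfl⟩ := h₁ E U hU (m + 1) c' (sections_injective C hC (O U (m + 3)).left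
    ((D_nat U φ (m + 2) c').trans ((congrArg _ hc').trans ((D_D U (secPre E C.X₂.obj) (m + 1) e).trans (map_zero (C.f.hom.app (op (O U (m + 3)).left)).hom).symm))))
  let e' : (secPre E C.X₂.obj).obj (op (O U (m + 1))) := e
  obtain ⟨a, ha⟩ := cech_of_injective C.X₂ E U hU m (e' - (φ.app _).hom b)
    (by rw [map_sub, ← D_nat]; exact sub_eq_zero.2 hc'.symm)
  refine ⟨(ψ.app _).hom a, ?_⟩
  rw [← D_nat, ha, map_sub]
  exact (congrArg _ (sections_zero C hC _ b)).trans (sub_zero _)

end Short

/-- Sheaves with exact Amitsur complexes have no higher cohomology on affine schemes. -/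
theorem subsingleton_H [IsAffine X] (q : ℕ) :
    ∀ F : EtCoh.Ab X, Cech F → Subsingleton (EtCoh.H X F (q + 1)) := by
  have : IsAffine (EtCoh.top X).left := ‹IsAffine X›
  induction q with
  | zero =>
    intro F hF
    refine SiteCoh.DimShift.subsingleton_one (SiteCoh.DimShift.inj_shortExact F) fun g => ?_
    obtain ⟨s, hs⟩ := sections_surjective _ (SiteCoh.DimShift.inj_shortExact F) hF (EtCoh.top X)
      (Flasque.evTop _ g)
    obtain ⟨a, ha⟩ := (Flasque.evTop_bijective _).2 s
    refine ⟨a, (Flasque.evTop_bijective _).1 ((Flasque.evTop_comp a _).trans ?_)⟩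
    rw [ha]
    exact hs
  | succ q ih =>
    intro F hF
    exact SiteCoh.DimShift.subsingleton_succ (SiteCoh.DimShift.inj_shortExact F) q
      (ih _ (cech_X₃ _ (SiteCoh.DimShift.inj_shortExact F) hF))

end Groth.Agent.EtaleSite.Amitsur
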