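import Groth.Agent.EtaleSite.AmitsurInj
import Groth.Agent.AdeqAmitsur.Exact
import Groth.Agent.AlgSpQC.Descent
import Groth.Prelude.Def_EtGm
import Mathlib.AlgebraicGeometry.Morphisms.Flat

/-!
# The Amitsur complexes of `G_a` on the small étale site are exact

The scheme form of `AlgSpEN.AmitsurQC`.
-/

set_option autoImplicit false
universe u

open CategoryTheory CategoryTheory.Limits AlgebraicGeometry Opposite TensorProduct

set_option backward.isDefEq.respectTransparency false
set_option backward.isDefEq.respectTransparency.types false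

noncomputable section

namespace Groth.Agent.EtaleSite.Amitsur

open Groth.Agent.AdeqAmitsur

variable {X : Scheme.{u}}

/-- The functions of an object of the site. -/
abbrev gr (E : X.Etale) : Type u := Γ(E.left, ⊤)

/-- Pullback of functions along a morphism of the site. -/
abbrev gm {E E' : X.Etale} (g : E' ⟶ E) : gr E →+* gr E' := g.left.appTop.hom

theorem gm_comp {E E' E'' : X.Etale} (g : E' ⟶ E) (h : E'' ⟶ E') (a : gr E) :
    gm (h ≫ g) a = gm h (gm g a) := by
  change (h.left ≫ g.left).appTop a = _
  rw [Scheme.Hom.comp_appTop]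
  rfl

/-- Morphisms between affine objects are flat on functions. -/
theorem flat_gm {E E' : X.Etale} [IsAffine E.left] [IsAffine E'.left] (g : E' ⟶ E) :
    (gm g).Flat := by
  haveI : Etale E'.hom := E'.prop
  haveI : Etale E.hom := E.prop
  haveI : Etale (g.left ≫ E.hom) := (MorphismProperty.Over.w g).symm ▸ E'.prop
  have : Etale g.left := Etale.of_comp _ E.hom
  exact (HasRingHomProperty.iff_of_isAffine (P := @Flat)).1 inferInstance

/-- A surjective morphism of affine objects is surjective on spectra of functions. -/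
theorem exists_prime_comap {E V : X.Etale} [IsAffine E.left] [IsAffine V.left] (f : V ⟶ E)
    (hf : Surjective f.left) (p : PrimeSpectrum (gr E)) :
    ∃ q, PrimeSpectrum.comap (gm f) q = p := by
  obtain ⟨y, hy⟩ := hf.surj (E.left.isoSpec.inv p)
  refine ⟨V.left.isoSpec.hom y, ?_⟩
  change Spec.map f.left.appTop (V.left.isoSpec.hom y) = p
  rw [← Scheme.Hom.comp_apply, Scheme.isoSpec_hom_naturality, Scheme.Hom.comp_apply, hy,
    ← Scheme.Hom.comp_apply, Iso.inv_hom_id]
  rfl

variable {E : X.Etale}

/-- The functions of an object over `E` form an algebra over the functions of `E`. -/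
scoped instance algOver (W : Over E) : Algebra (gr E) (gr W.left) := (gm W.hom).toAlgebra

/-- Pullback of functions over `E`. -/
def gA {W W' : Over E} (f : W' ⟶ W) : gr W.left →ₐ[gr E] gr W'.left :=
  { gm f.left with
    commutes' := fun a => by
      change gm f.left (gm W.hom a) = gm W'.hom a
      rw [← gm_comp, Over.w] }

theorem flat_over [IsAffine E.left] (W : Over E) [IsAffine W.left.left] :
    Module.Flat (gr E) (gr W.left) := flat_gm W.hom

variable (N N' : Type (u + 1)) [AddCommGroup N] [Module (gr E) N] [AddCommGroup N'] [Module (gr E) N']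

/-- Restriction of tensors. -/
def tr {W W' : Over E} (f : W' ⟶ W) : gr W.left ⊗[gr E] N →ₗ[gr E] gr W'.left ⊗[gr E] N :=
  TensorProduct.map (gA f).toLinearMap LinearMap.id

theorem tr_id (W : Over E) : tr N (𝟙 W) = LinearMap.id :=
  TensorProduct.ext' fun _ _ => rfl

theorem tr_comp {W W' W'' : Over E} (f : W' ⟶ W) (g : W'' ⟶ W') : tr N (g ≫ f) = tr N g ∘ₗ tr N f :=
  TensorProduct.ext' fun a _ => congrArg (· ⊗ₜ _) (gm_comp f.left g.left a)

/-- The presheaf of tensors with a module over the functions of `E`. -/
def tens : (Over E)ᵒᵖ ⥤ AddCommGrpCat.{u + 1} where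
  obj W := AddCommGrpCat.of (gr W.unop.left ⊗[gr E] N)
  map f := AddCommGrpCat.ofHom (tr N f.unop).toAddMonoidHom
  map_id W := AddCommGrpCat.hom_ext (DFunLike.ext _ _ fun x => congr($(tr_id N W.unop) x))
  map_comp f g := AddCommGrpCat.hom_ext (DFunLike.ext _ _ fun x => congr($(tr_comp N f.unop g.unop) x))

variable {N N'} in
/-- Functoriality in the module. -/
def tensMap (h : N →ₗ[gr E] N') : tens (E := E) N ⟶ tens (E := E) N' where
  app W := AddCommGrpCat.ofHom (LinearMap.lTensor (gr W.unop.left) h).toAddMonoidHom
  naturality W W' f := by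
    have : LinearMap.lTensor (gr W'.unop.left) h ∘ₗ tr N f.unop = tr N' f.unop ∘ₗ LinearMap.lTensor (gr W.unop.left) h :=
      TensorProduct.ext' fun _ _ => rfl
    exact AddCommGrpCat.hom_ext (DFunLike.ext _ _ fun x => congr($this x))

variable (U : Over E)

/-- Functions of `W ×_E U`. -/
def μ (W : Over E) : gr W.left ⊗[gr E] gr U.left →ₐ[gr E] gr (W ⨯ U).left :=
  Algebra.TensorProduct.lift (gA prod.fst) (gA prod.snd) fun _ _ => .all _ _

/-- Comparison of tensors over `W ×_E U`. -/
def γ (W : Over E) : gr W.left ⊗[gr E] (gr U.left ⊗[gr E] N) →ₗ[gr E] gr (W ⨯ U).left ⊗[gr E] N :=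
  TensorProduct.map (μ U W).toLinearMap LinearMap.id ∘ₗ
    (TensorProduct.assoc (gr E) (gr W.left) (gr U.left) N).symm.toLinearMap

theorem γ_tmul (W : Over E) (x : gr W.left) (b : gr U.left) (n : N) :
    γ N U W (x ⊗ₜ (b ⊗ₜ n)) = (gm (prod.fst : W ⨯ U ⟶ W).left x * gm (prod.snd : W ⨯ U ⟶ U).left b) ⊗ₜ n :=
  rfl

set_option maxHeartbeats 1000000 in
/-- The comparison is natural. -/
def γHom : tens (E := E) (gr U.left ⊗[gr E] N) ⟶ shift U (tens (E := E) N) where
  app W := AddCommGrpCat.ofHom (γ N U W.unop).toAddMonoidHom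
  naturality W W' f := by
    refine AddCommGrpCat.hom_ext (DFunLike.ext _ _ fun x => ?_)
    change γ N U W'.unop (tr _ f.unop x) = tr N ((times U).map f.unop) (γ N U W.unop x)
    have : γ N U W'.unop ∘ₗ tr _ f.unop = tr N ((times U).map f.unop) ∘ₗ γ N U W.unop := by
      refine TensorProduct.ext' fun a y => ?_
      induction y using TensorProduct.induction_on with
      | zero => simp
      | add y y' hy hy' => simp only [tmul_add, map_add, hy, hy']
      | tmul b n =>
        change γ N U W'.unop (gm f.unop.left a ⊗ₜ (b ⊗ₜ n)) =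
          tr N ((times U).map f.unop) (γ N U W.unop (a ⊗ₜ (b ⊗ₜ n)))
        rw [γ_tmul, γ_tmul]
        refine congrArg (· ⊗ₜ n) ?_
        refine Eq.symm ((map_mul (gm ((times U).map f.unop).left) _ _).trans ?_)
        rw [← gm_comp, ← gm_comp, ← gm_comp, ← Over.comp_left, ← Over.comp_left, ← Over.comp_left,
          prod.map_fst, prod.map_snd, Category.comp_id]
    exact congr($this x)

theorem isPushout_prod [IsAffine E.left] [IsAffine U.left.left] (W : Over E)
    [IsAffine W.left.left] : Function.Bijective (μ U W) := by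
  have := isAffine_prod W U
  let p := (prod.fst : W ⨯ U ⟶ W)
  let q := (prod.snd : W ⨯ U ⟶ U)
  have h := isPushout_appTop (isPullback_prod W U)
  let _ : Algebra (gr W.left) (gr (W ⨯ U).left) := (gm p.left).toAlgebra
  let _ : Algebra (gr U.left) (gr (W ⨯ U).left) := (gm q.left).toAlgebra
  have : IsScalarTower (gr E) (gr W.left) (gr (W ⨯ U).left) := .of_algebraMap_eq' (gA p).comp_algebraMap.symm
  have : IsScalarTower (gr E) (gr U.left) (gr (W ⨯ U).left) := .of_algebraMap_eq' (gA q).comp_algebraMap.symm
  have : Algebra.IsPushout (gr E) (gr W.left) (gr U.left) (gr (W ⨯ U).left) :=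
    CommRingCat.isPushout_iff_isPushout.1 h
  have e : ∀ z, μ U W z = Algebra.IsPushout.equiv (gr E) (gr W.left) (gr U.left) (gr (W ⨯ U).left) z := fun z => by
    induction z using TensorProduct.induction_on with
    | zero => simp
    | add a b ha hb => simp only [map_add, ha, hb]
    | tmul a b => exact (Algebra.IsPushout.equiv_tmul _ _ _ _ a b).symm
  rw [funext e]
  exact (Algebra.IsPushout.equiv (gr E) (gr W.left) (gr U.left) (gr (W ⨯ U).left)).bijective

theorem γ_bijective [IsAffine E.left] [IsAffine U.left.left] (W : Over E)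
    [IsAffine W.left.left] : Function.Bijective (γ N U W) :=
  (TensorProduct.congr (AlgEquiv.ofBijective _ (isPushout_prod U W)).toLinearEquiv (LinearEquiv.refl _ N)).bijective.comp
    (TensorProduct.assoc (gr E) (gr W.left) (gr U.left) N).symm.bijective

variable [IsAffine E.left] [IsAffine U.left.left]

/-- The unit of descent. -/
def η : N →ₗ[gr E] gr U.left ⊗[gr E] N := TensorProduct.mk (gr E) (gr U.left) N 1

theorem η_injective (hU : Surjective (str U)) : Function.Injective (η N U) := by
  refine (injective_iff_map_eq_zero _).2 fun x hx => ?_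
  have := flat_over U
  refine AlgSpQC.eq_zero_of_jointly (fun _ : PUnit.{u + 1} => gr U.left) (fun p => ?_) x fun _ => hx
  exact ⟨⟨⟩, exists_prime_comap U.hom hU p⟩

theorem tensMap_η_injective (hU : Surjective (str U)) (m : ℕ) :
    Function.Injective ((tensMap (η N U)).app (op (O U m))).hom :=
  have := isAffine_O U m
  have := flat_over (O U m)
  Module.Flat.lTensor_preserves_injective_linearMap _ (η_injective N U hU)

theorem injective_D_zero_tens (hU : Surjective (str U)) : Function.Injective (D U (tens N) 0) := by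
  refine injective_D_zero_of_mono U (tensMap (η N U)) (tensMap_η_injective N U hU) ?_
  refine injective_D_zero_of_mono U (γHom N U) (fun m => ?_) (injective_D_zero_shift U _)
  have := isAffine_O U m
  exact (γ_bijective N U _).1

theorem exactD_tens (hU : Surjective (str U)) (m : ℕ) :
    ∀ (N : Type (u + 1)) [AddCommGroup N] [Module (gr E) N], ExactD U (tens N) m := by
  have hP' : ∀ (N : Type (u + 1)) [AddCommGroup N] [Module (gr E) N] (m : ℕ),
      ExactD U (tens (gr U.left ⊗[gr E] N)) m := fun N _ _ m =>
    exactD_of_bijective U (γHom N U) (fun k => by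
      have := isAffine_O U k
      exact γ_bijective N U _) (exactD_shift U _ m)
  induction m with
  | zero =>
    intro N _ _
    let p := (LinearMap.range (η N U)).mkQ
    refine exactD_of_short U (tensMap (η N U)) (tensMap p) (tensMap_η_injective N U hU)
      (fun k x => ?_) (fun k y hy => (lTensor_exact _ (LinearMap.exact_map_mkQ_range _)
        (Submodule.mkQ_surjective _) y).1 hy) (hP' N 0) fun q hq => ⟨0, map_zero _, ?_⟩
    · exact (lTensor_exact _ (LinearMap.exact_map_mkQ_range _) (Submodule.mkQ_surjective _) _).2 ⟨x, rfl⟩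
    · exact (map_zero _).trans (injective_D_zero_tens _ U hU (hq.trans (map_zero _).symm)).symm
  | succ m ih =>
    intro N _ _
    let p := (LinearMap.range (η N U)).mkQ
    refine exactD_of_short U (tensMap (η N U)) (tensMap p) (tensMap_η_injective N U hU)
      (fun k x => ?_) (fun k y hy => (lTensor_exact _ (LinearMap.exact_map_mkQ_range _)
        (Submodule.mkQ_surjective _) y).1 hy) (hP' N (m + 1))
      (hQ_succ U (tensMap p) (fun _ => LinearMap.lTensor_surjective _ (Submodule.mkQ_surjective _)) (ih _))
    exact (lTensor_exact _ (LinearMap.exact_map_mkQ_range _) (Submodule.mkQ_surjective _) _).2 ⟨x, rfl⟩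

/-- Tensors give sections of `G_a`. -/
def sectHom (E : X.Etale) :
    tens (E := E) (ULift.{u + 1} (gr E)) ⟶ secPre E (EtCoh.Ga X).obj where
  app W := AddCommGrpCat.ofHom
    (AddMonoidHom.comp (AddEquiv.ulift.symm : gr W.unop.left ≃+ ULift.{u + 1} (gr W.unop.left)).toAddMonoidHom
      (((TensorProduct.rid (gr E) (gr W.unop.left)).toLinearMap.comp
        (TensorProduct.map LinearMap.id ULift.moduleEquiv.toLinearMap)).toAddMonoidHom :
          gr W.unop.left ⊗[gr E] ULift.{u + 1} (gr E) →+ gr W.unop.left))
  naturality W W' f := by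
    refine AddCommGrpCat.hom_ext (DFunLike.ext _ _
      fun (x : gr W.unop.left ⊗[gr E] ULift.{u + 1} (gr E)) => ?_)
    refine ULift.ext _ _ ?_
    change TensorProduct.rid (gr E) _ (TensorProduct.map LinearMap.id ULift.moduleEquiv.toLinearMap
        (tr _ f.unop x)) =
      gA f.unop (TensorProduct.rid (gr E) _ (TensorProduct.map LinearMap.id ULift.moduleEquiv.toLinearMap x))
    induction x using TensorProduct.induction_on with
    | zero => simp
    | add a b ha hb => simp only [map_add, ha, hb]
    | tmul a n =>
      change n.down • gA f.unop a = gA f.unop (n.down • a)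
      rw [map_smul]

theorem sectHom_bijective (E : X.Etale) (W : (Over E)ᵒᵖ) :
    Function.Bijective ((sectHom E).app W).hom :=
  (AddEquiv.ulift.symm : gr W.unop.left ≃+ ULift.{u + 1} (gr W.unop.left)).bijective.comp
    ((TensorProduct.rid (gr E) (gr W.unop.left)).bijective.comp
      (TensorProduct.congr (LinearEquiv.refl (gr E) (gr W.unop.left)) ULift.moduleEquiv).bijective)

/-- The Amitsur complexes of `G_a` are exact. -/
theorem cech_Ga : Cech (EtCoh.Ga X) := by
  intro E _ U _ hU m c hc
  obtain ⟨a, rfl⟩ := (sectHom_bijective E _).2 c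
  obtain ⟨b, hb⟩ := exactD_tens U hU m (ULift.{u + 1} (gr E)) a
    ((sectHom_bijective E _).1 (by rw [D_nat, hc, map_zero]))
  exact ⟨((sectHom E).app _).hom b, by rw [← D_nat, hb]⟩

end Groth.Agent.EtaleSite.Amitsur
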