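import Groth.Agent.EtaleSite.Stalk
import Groth.Prelude.Def_EtBase

/-!
# Covering sieves of the small étale site
-/

universe u

open CategoryTheory CategoryTheory.Limits AlgebraicGeometry Opposite

namespace Groth.Agent.EtaleSite.Covers

variable {X : Scheme.{u}}

/-- A covering sieve reaches every point. -/
theorem exists_of_mem {U : X.Etale} {S : Sieve U} (hS : S ∈ X.smallEtaleTopology U) (u : U.left) :
    ∃ (V : X.Etale) (g : V ⟶ U) (v : V.left), S g ∧ g.left v = u := by
  obtain ⟨ι, Z, f, rfl⟩ := S.exists_eq_ofArrows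
  rw [Scheme.ofArrows_mem_smallEtaleTopology_iff] at hS
  have hu := Set.mem_univ u
  rw [← hS] at hu
  obtain ⟨i, v, hv⟩ := Set.mem_iUnion.1 hu
  exact ⟨Z i, f i, v, Sieve.ofArrows_mk _ _ i, hv⟩

/-- A sheaf has at most one section over an empty scheme. -/
theorem subsingleton_sect_of_isEmpty (F : Sheaf X.smallEtaleTopology (Type (u + 1))) (U : X.Etale)
    [IsEmpty U.left] : Subsingleton (F.obj.obj (op U)) :=
  ⟨fun a b => (((isSheaf_iff_isSheaf_of_type _ _).1 F.property).isSeparated ⊥
    (mem_topology_of_forall_exists _ fun u => isEmptyElim u)).ext fun _ _ h => h.elim⟩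

/-- A single surjective morphism covers. -/
theorem singleton_mem {U V : X.Etale} (k : V ⟶ U) (hk : Function.Surjective k.left.base) :
    Sieve.generate (Presieve.singleton k) ∈ X.smallEtaleTopology U :=
  mem_topology_of_forall_exists _ fun u => by
    obtain ⟨v, hv⟩ := hk u
    exact ⟨V, k, v, Sieve.le_generate _ _ _ (Presieve.singleton_self k), hv⟩

end Groth.Agent.EtaleSite.Covers
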