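import Groth.Agent.EtaleSite.PushStalk
import Mathlib.FieldTheory.IsAlgClosed.AlgebraicClosure

/-!
# Stalks of direct images along integral, universally injective and finite morphisms
-/

set_option linter.style.haveILetI false

universe u

open CategoryTheory CategoryTheory.Limits AlgebraicGeometry Opposite

namespace Groth.Agent.EtaleSite

variable {X Y : Scheme.{u}} (f : X ⟶ Y)

set_option backward.isDefEq.respectTransparency.types false in
/-- Points of an integral scheme over an algebraically closed point, with prescribed image. -/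
theorem exists_point_over [IsIntegralHom f] {Ω : Type u} [Field Ω] [IsAlgClosed Ω]
    (η : Spec (CommRingCat.of Ω) ⟶ Y) (x : X) (hx : f x = η default) :
    ∃ ξ : Spec (CommRingCat.of Ω) ⟶ X, ξ ≫ f = η ∧ ξ default = x := by
  obtain ⟨z, hz, -⟩ := Scheme.Pullback.exists_preimage_pullback (f := f) (g := η) x default hx
  let Z := pullback f η
  have : IsAffine Z := isAffine_of_isAffineHom (pullback.snd f η)
  obtain ⟨c, hc⟩ := Spec.map_surjective (Z.isoSpec.inv ≫ pullback.snd f η)
  have hci : c.hom.IsIntegral := (IsIntegralHom.SpecMap_iff).1 (by rw [hc]; infer_instance)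
  let w : Spec Γ(Z, ⊤) := Z.isoSpec.hom z
  letI : Algebra Ω Γ(Z, ⊤) := c.hom.toAlgebra
  haveI : Algebra.IsIntegral Ω Γ(Z, ⊤) := ⟨hci⟩
  let q : Ideal Γ(Z, ⊤) := w.asIdeal
  haveI : q.IsPrime := w.isPrime
  have hb : Function.Bijective (algebraMap Ω (Γ(Z, ⊤) ⧸ q)) :=
    IsAlgClosed.algebraMap_bijective_of_isIntegral
  let r : (Γ(Z, ⊤) : CommRingCat) ⟶ CommRingCat.of Ω :=
    CommRingCat.ofHom ((RingEquiv.ofBijective _ hb).symm.toRingHom.comp (Ideal.Quotient.mk q))
  have hr : c ≫ r = 𝟙 _ := by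
    ext o
    exact (RingEquiv.ofBijective _ hb).symm_apply_apply o
  refine ⟨Spec.map r ≫ Z.isoSpec.inv ≫ pullback.fst f η, ?_, ?_⟩
  · rw [Category.assoc, Category.assoc, pullback.condition, ← Category.assoc Z.isoSpec.inv, ← hc,
      ← Category.assoc, ← Spec.map_comp, hr, Spec.map_id, Category.id_comp]
  · have hw : Spec.map r (default : Spec (CommRingCat.of Ω)) = w := by
      refine PrimeSpectrum.ext ?_
      show Ideal.comap r.hom (default : Spec (CommRingCat.of Ω)).asIdeal = q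
      rw [show (default : Spec (CommRingCat.of Ω)).asIdeal = ⊥ from Ideal.eq_bot_of_prime _]
      ext a
      simp [r, Ideal.Quotient.eq_zero_iff_mem]
    rw [Scheme.Hom.comp_apply, hw, ← hz]
    show (Z.isoSpec.hom ≫ Z.isoSpec.inv ≫ pullback.fst f η) z = pullback.fst f η z
    rw [Iso.hom_inv_id_assoc]

variable {Ω : Type u} [Field Ω] [IsSepClosed Ω]

/-- A germ of a direct image along a universally closed morphism vanishes if the section vanishes
near every point above the base point. -/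
theorem germ_push_eq_zero [UniversallyClosed f] (η : Spec (CommRingCat.of Ω) ⟶ Y) {F : EtCoh.Ab X}
    {V : Y.Etale} (φ : (Scheme.pointSmallEtale η).fiber.obj V)
    (s : ((EtCoh.push f).obj F).obj.obj (op V))
    (h : ∀ x : ↥(pullback V.hom f), pullback.fst V.hom f x = φ.left (default : Spec (CommRingCat.of Ω)) →
      ∃ (Ω' : Type u) (_ : Field Ω') (_ : IsSepClosed Ω') (ξ : Spec (CommRingCat.of Ω') ⟶ X)
        (ζ : (Scheme.pointSmallEtale ξ).fiber.obj ((EtCoh.bc f).obj V)),
        ζ.left (default : Spec (CommRingCat.of Ω')) = x ∧ germ ξ F ((EtCoh.bc f).obj V) ζ s = 0) :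
    germ η ((EtCoh.push f).obj F) V φ s = 0 := by
  obtain ⟨V', e, v', hv', he⟩ := exists_nbhd_zero f (F := F) (V := V) s (φ.left (default : Spec (CommRingCat.of Ω))) fun x hx => by
    obtain ⟨Ω', _, _, ξ, ζ, hζ, hz⟩ := h x hx
    rw [← map_zero (germ ξ F ((EtCoh.bc f).obj V) ζ).hom] at hz
    obtain ⟨W, g, y, hy, hg⟩ := (germ_eq_iff ξ F _ ζ s 0).1 hz
    refine ⟨W, g, y.left (default : Spec (CommRingCat.of Ω')), ?_, hg.trans (map_zero _)⟩
    rw [← hζ, ← hy]
    rfl
  haveI : Etale e.left := by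
    haveI : Etale V.hom := V.prop
    haveI : Etale (e.left ≫ V.hom) := by rw [MorphismProperty.Over.w e]; exact V'.prop
    exact Etale.of_comp e.left V.hom
  obtain ⟨l, hl, -⟩ := Scheme.exists_fac_of_etale_of_isSepClosed e.left φ.left v' hv'
  let φ' : (Scheme.pointSmallEtale η).fiber.obj V' := (Over.homMk l (by
    show l ≫ V'.hom = η
    rw [← MorphismProperty.Over.w e, ← Category.assoc, hl]
    exact Over.w φ) : Over.mk η ⟶ (Scheme.Etale.forget Y).obj V')
  have hφ : (Scheme.pointSmallEtale η).fiber.map e φ' = φ := Over.OverMorphism.ext hl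
  rw [← hφ, ← germ_res]
  exact (congrArg (germ η ((EtCoh.push f).obj F) V' φ') he).trans (map_zero _)

/-- The point of `V ×_Y X` given by a point of `V` and a point of `X`. -/
noncomputable def bcPt {η : Spec (CommRingCat.of Ω) ⟶ Y} (ξ : Spec (CommRingCat.of Ω) ⟶ X)
    (hξ : ξ ≫ f = η) (V : Y.Etale) (φ : (Scheme.pointSmallEtale η).fiber.obj V) :
    (Scheme.pointSmallEtale ξ).fiber.obj ((EtCoh.bc f).obj V) :=
  (Over.homMk (pullback.lift φ.left ξ ((Over.w φ).trans hξ.symm)) (pullback.lift_snd _ _ _) :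
    Over.mk ξ ⟶ (Scheme.Etale.forget X).obj ((EtCoh.bc f).obj V))

/-- The comparison map `(f_*F)_η ⟶ F_ξ` for a point `ξ` above `η`. -/
noncomputable def cmpAt {η : Spec (CommRingCat.of Ω) ⟶ Y} (ξ : Spec (CommRingCat.of Ω) ⟶ X)
    (hξ : ξ ≫ f = η) (F : EtCoh.Ab X) :
    (EtCoh.stalk η).obj ((EtCoh.push f).obj F) ⟶ (EtCoh.stalk ξ).obj F :=
  eqToHom (by rw [hξ]) ≫ cmp f ξ F

set_option backward.isDefEq.respectTransparency.types false in
theorem cmpAt_germ {η : Spec (CommRingCat.of Ω) ⟶ Y} (ξ : Spec (CommRingCat.of Ω) ⟶ X)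
    (hξ : ξ ≫ f = η) (F : EtCoh.Ab X) (V : Y.Etale)
    (φ : (Scheme.pointSmallEtale η).fiber.obj V) (s : ((EtCoh.push f).obj F).obj.obj (op V)) :
    cmpAt f ξ hξ F (germ η ((EtCoh.push f).obj F) V φ s) =
      germ ξ F ((EtCoh.bc f).obj V) (bcPt f ξ hξ V φ) s := by
  subst hξ
  exact cmp_germ f ξ F V φ s

/-- A germ of a direct image along an integral morphism at an algebraically closed point is zero if
all its images in the stalks above are zero. -/
theorem eq_zero_of_cmpAt [IsIntegralHom f] {Ω : Type u} [Field Ω] [IsAlgClosed Ω]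
    (η : Spec (CommRingCat.of Ω) ⟶ Y) (F : EtCoh.Ab X)
    (p : (EtCoh.stalk η).obj ((EtCoh.push f).obj F))
    (h : ∀ ξ (hξ : ξ ≫ f = η), cmpAt f ξ hξ F p = 0) : p = 0 := by
  obtain ⟨V, φ, s, rfl⟩ := exists_germ_eq η ((EtCoh.push f).obj F) p
  refine germ_push_eq_zero f η φ s fun x hx => ?_
  obtain ⟨ζ, hζ, hζx⟩ := exists_point_over (pullback.fst V.hom f) φ.left x hx
  have hξ : (ζ ≫ pullback.snd V.hom f) ≫ f = η := by
    rw [Category.assoc, ← pullback.condition, ← Category.assoc, hζ]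
    exact Over.w φ
  refine ⟨Ω, _, inferInstance, _, bcPt f _ hξ V φ, ?_, ?_⟩
  · have : pullback.lift φ.left (ζ ≫ pullback.snd V.hom f) ((Over.w φ).trans hξ.symm) = ζ :=
      pullback.hom_ext ((pullback.lift_fst _ _ _).trans hζ.symm) (pullback.lift_snd _ _ _)
    exact (congrArg (fun k : Spec (CommRingCat.of Ω) ⟶ pullback V.hom f => k default) this).trans hζx
  · rw [← cmpAt_germ]
    exact h _ hξ

set_option maxHeartbeats 800000 in
set_option backward.isDefEq.respectTransparency.types false in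
/-- Stalks of a finite direct image surject onto the product of the stalks above. -/
theorem exists_cmpAt_eq [IsFinite f] {Ω : Type u} [Field Ω] [IsAlgClosed Ω]
    (η : Spec (CommRingCat.of Ω) ⟶ Y) (F : EtCoh.Ab X)
    (q : ∀ ξ : {ξ : Spec (CommRingCat.of Ω) ⟶ X // ξ ≫ f = η}, (EtCoh.stalk ξ.1).obj F) :
    ∃ p : (EtCoh.stalk η).obj ((EtCoh.push f).obj F),
      ∀ ξ : {ξ : Spec (CommRingCat.of Ω) ⟶ X // ξ ≫ f = η}, cmpAt f ξ.1 ξ.2 F p = q ξ := by
  choose U x t ht using fun ξ : {ξ : Spec (CommRingCat.of Ω) ⟶ X // ξ ≫ f = η} =>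
    exists_germ_eq ξ.1 F (q ξ)
  let g : (∐ fun ξ => (U ξ).left) ⟶ X := Sigma.desc fun ξ => (U ξ).hom
  haveI : ∀ ξ, Etale (U ξ).hom := fun ξ => (U ξ).prop
  haveI : Etale g := etale_sigmaDesc _
  have hgι : ∀ a, Sigma.ι (fun ξ => (U ξ).left) a ≫ g = (U a).hom := fun a => Sigma.ι_desc _ a
  let xl : ∀ a, Spec (CommRingCat.of Ω) ⟶ (U a).left := fun a => (x a).left
  have hxl : ∀ a, xl a ≫ (U a).hom = a.1 := fun a => Over.w (x a)
  obtain ⟨V, y, hy, h, hh, hφ⟩ := split_finite f η (𝟙 _) g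
    (fun ξ hξ => xl ⟨ξ, hξ.trans (Category.id_comp η)⟩ ≫
      Sigma.ι (fun ξ => (U ξ).left) ⟨ξ, hξ.trans (Category.id_comp η)⟩)
    (fun ξ hξ => by rw [Category.assoc, hgι, hxl])
  obtain ⟨W, hd, hc, hk⟩ := exists_pieces h
  choose k hk using hk
  have hkU : ∀ a, k a ≫ (U a).hom = (W a).ι ≫ pullback.snd V.hom f := fun a =>
    ((congrArg (k a ≫ ·) (hgι a)).symm).trans
      ((Category.assoc _ _ _).symm.trans ((congrArg (· ≫ g) (hk a)).trans
        ((Category.assoc _ _ _).trans (congrArg ((W a).ι ≫ ·) hh))))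
  let k' : ∀ a, piece ((EtCoh.bc f).obj V) (W a) ⟶ U a := fun a =>
    MorphismProperty.Over.homMk (k a) (hkU a) trivial
  obtain ⟨r, hr⟩ := exists_glue_disjoint (U := (EtCoh.bc f).obj V) F W hd hc
    (fun a => F.obj.map (k' a).op (t a))
  let φ : (Scheme.pointSmallEtale η).fiber.obj V :=
    (Over.homMk y hy : Over.mk η ⟶ (Scheme.Etale.forget Y).obj V)
  refine ⟨germ η ((EtCoh.push f).obj F) V φ r, fun a => ?_⟩
  rw [cmpAt_germ, ← ht a]
  let ℓ : Spec (CommRingCat.of Ω) ⟶ pullback V.hom f := pullback.lift y a.1 (hy.trans a.2.symm)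
  let j : (W a : Scheme.{u}) ⟶ pullback V.hom f := (W a).ι
  have hℓ : ℓ ≫ h = xl a ≫ Sigma.ι (fun ξ => (U ξ).left) a := by
    refine Eq.trans ?_ (hφ a.1 (a.2.trans (Category.id_comp η).symm))
    refine congrArg (· ≫ h) (pullback.hom_ext ?_ ?_)
    · rw [pullback.lift_fst, pullback.lift_fst, Category.id_comp]
    · rw [pullback.lift_snd, pullback.lift_snd]
  have hr' : Set.range ℓ ⊆ Set.range j := by
    rintro _ ⟨o, rfl⟩
    obtain ⟨b, hb⟩ := hc (ℓ o)
    by_cases hab : b = a
    · subst hab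
      exact ⟨⟨ℓ o, hb⟩, rfl⟩
    · exfalso
      have h1 : h (ℓ o) ∈ (Sigma.ι (fun ξ => (U ξ).left) a).opensRange :=
        ⟨xl a o, (congrArg (fun q => q o) hℓ).symm⟩
      have h2 : h (ℓ o) ∈ (Sigma.ι (fun ξ => (U ξ).left) b).opensRange :=
        ⟨k b ⟨ℓ o, hb⟩, congrArg (fun q => q ⟨ℓ o, hb⟩) (hk b)⟩
      exact (disjoint_opensRange_sigmaι (fun ξ => (U ξ).left) b a hab).le_bot
        (show h (ℓ o) ∈ _ ⊓ _ from ⟨h2, h1⟩)
  let l : Spec (CommRingCat.of Ω) ⟶ (W a : Scheme.{u}) := IsOpenImmersion.lift j ℓ hr'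
  have hl : l ≫ j = ℓ := IsOpenImmersion.lift_fac _ _ _
  have hlw : l ≫ j ≫ pullback.snd V.hom f = a.1 := by
    rw [reassoc_of% hl]
    exact pullback.lift_snd _ _ _
  let z : (Scheme.pointSmallEtale a.1).fiber.obj (piece ((EtCoh.bc f).obj V) (W a)) :=
    (Over.homMk l hlw :
      Over.mk a.1 ⟶ (Scheme.Etale.forget X).obj (piece ((EtCoh.bc f).obj V) (W a)))
  have hz : (Scheme.pointSmallEtale a.1).fiber.map
      (pieceHom ((EtCoh.bc f).obj V) (W a)) z = bcPt f a.1 a.2 V φ :=
    Over.OverMorphism.ext hl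
  have hlk : l ≫ k a = xl a := by
    refine (cancel_mono (Sigma.ι (fun ξ => (U ξ).left) a)).1 ?_
    rw [Category.assoc, hk]
    show l ≫ j ≫ h = _
    rw [reassoc_of% hl, hℓ]
  have hzx : (Scheme.pointSmallEtale a.1).fiber.map (k' a) z = x a :=
    Over.OverMorphism.ext hlk
  rw [← hz, ← germ_res]
  refine (congrArg (germ a.1 F _ z) (hr a)).trans ?_
  rw [germ_res, hzx]

set_option backward.isDefEq.respectTransparency.types false in
/-- For an integral universally injective morphism the comparison maps are bijective. -/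
theorem bijective_cmp [IsIntegralHom f] [UniversallyInjective f]
    (ξ : Spec (CommRingCat.of Ω) ⟶ X) (F : EtCoh.Ab X) : Function.Bijective (cmp f ξ F) := by
  constructor
  · rw [injective_iff_map_eq_zero]
    intro p hp
    obtain ⟨V, φ, s, rfl⟩ := exists_germ_eq (ξ ≫ f) ((EtCoh.push f).obj F) p
    rw [cmp_germ] at hp
    refine germ_push_eq_zero f (ξ ≫ f) φ s fun x hx => ⟨Ω, _, ‹_›, ξ, fiberBcEquiv f ξ V φ, ?_, hp⟩
    have : UniversallyInjective (pullback.fst V.hom f) := MorphismProperty.pullback_fst V.hom f ‹_›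
    refine (pullback.fst V.hom f).injective ?_
    refine Eq.trans ?_ hx.symm
    exact congrArg (fun k : Spec (CommRingCat.of Ω) ⟶ V.left => k default) (pullback.lift_fst _ _ _)
  · intro q
    obtain ⟨U, x, t, rfl⟩ := exists_germ_eq ξ F q
    let L := AlgebraicClosure Ω
    let σ : Spec (CommRingCat.of L) ⟶ Spec (CommRingCat.of Ω) :=
      Spec.map (CommRingCat.ofHom (algebraMap Ω L))
    haveI : Etale U.hom := U.prop
    have hxg : (σ ≫ x.left) ≫ U.hom = σ ≫ ξ :=
      (Category.assoc _ _ _).trans (congrArg (σ ≫ ·) (Over.w x))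
    obtain ⟨V, y, hy, h, hh, hφ⟩ := split_integral_point f (ξ ≫ f) σ U.hom
      (fun z hz => ⟨x.left (default : Spec (CommRingCat.of Ω)), f.injective (by
        rw [hz, ← Scheme.Hom.comp_apply]
        exact congrArg (fun k : Spec (CommRingCat.of Ω) ⟶ Y => k default)
          ((Category.assoc _ _ _).symm.trans (congrArg (· ≫ f) (Over.w x))))⟩)
      {σ ≫ x.left} Set.subsingleton_singleton
      (fun z hz => by
        obtain rfl := Set.mem_singleton_iff.1 hz
        exact (congrArg (· ≫ f) hxg).trans (Category.assoc _ _ _))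
    let φ : (Scheme.pointSmallEtale (ξ ≫ f)).fiber.obj V :=
      (Over.homMk y hy : Over.mk (ξ ≫ f) ⟶ (Scheme.Etale.forget Y).obj V)
    let h' : (EtCoh.bc f).obj V ⟶ U := MorphismProperty.Over.homMk h hh trivial
    refine ⟨germ (ξ ≫ f) ((EtCoh.push f).obj F) V φ (F.obj.map h'.op t), ?_⟩
    rw [cmp_germ, germ_res]
    refine congrArg (fun z => germ ξ F U z t) ((fiberExtFun_bijective σ ξ U).1 ?_)
    refine Over.OverMorphism.ext ?_
    refine Eq.trans ?_ (hφ _ rfl)
    show σ ≫ pullback.lift y ξ _ ≫ h = _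
    rw [← Category.assoc]
    refine congrArg (· ≫ h) (pullback.hom_ext ?_ ?_)
    · rw [Category.assoc, pullback.lift_fst, pullback.lift_fst]
    · rw [Category.assoc, pullback.lift_snd, pullback.lift_snd]
      exact hxg.symm

/-- For an integral universally injective morphism the counit `f⁻¹f_* ⟶ 𝟙` is an isomorphism. -/
theorem isIso_counit [IsIntegralHom f] [UniversallyInjective f] (F : EtCoh.Ab X) :
    IsIso ((EtCoh.pullPushAdj f).counit.app F) :=
  isIso_counit_of_cmp f F fun Ω _ _ ξ => bijective_cmp f ξ F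

/-- Direct images along universally closed morphisms have zero stalks away from the image. -/
theorem isZero_stalk_push [UniversallyClosed f] (η : Spec (CommRingCat.of Ω) ⟶ Y)
    (hη : η default ∉ Set.range f) (F : EtCoh.Ab X) :
    IsZero ((EtCoh.stalk η).obj ((EtCoh.push f).obj F)) := by
  suffices ∀ p : (EtCoh.stalk η).obj ((EtCoh.push f).obj F), p = 0 from
    @AddCommGrpCat.isZero_of_subsingleton _ ⟨fun a b => (this a).trans (this b).symm⟩
  intro p
  obtain ⟨V, φ, s, rfl⟩ := exists_germ_eq η ((EtCoh.push f).obj F) p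
  refine germ_push_eq_zero f η φ s fun x hx => absurd ⟨pullback.snd V.hom f x, ?_⟩ hη
  rw [← Scheme.Hom.comp_apply, ← pullback.condition, Scheme.Hom.comp_apply, hx]
  exact congrArg (fun k : Spec (CommRingCat.of Ω) ⟶ Y => k default) (Over.w φ)

end Groth.Agent.EtaleSite
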