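import Groth.Agent.EtaleSite.HpullComp
import Groth.Agent.EtaleSite.Pull

/-!
# The pentagon for inverse images
-/

set_option linter.style.haveILetI false

universe u

open CategoryTheory CategoryTheory.Limits AlgebraicGeometry Opposite

namespace Groth.Agent.EtaleSite.HpullFunctor

variable {A B C D : Scheme.{u}} (a : A ⟶ B) (b : B ⟶ C) (t : C ⟶ D)

/-- `pullbackComp` on the small étale sites. -/
noncomputable abbrev bcComp {A B C : Scheme.{u}} (a : A ⟶ B) (b : B ⟶ C) (V : C.Etale) :
    (EtCoh.bc (a ≫ b)).obj V ⟶ (EtCoh.bc a).obj ((EtCoh.bc b).obj V) :=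
  (MorphismProperty.Over.pullbackComp (P := EtCoh.etaleMP) (Q := ⊤) a b).hom.app V

set_option backward.isDefEq.respectTransparency.types false in
theorem bcComp_fst {A B C : Scheme.{u}} (a : A ⟶ B) (b : B ⟶ C) (V : C.Etale) :
    (bcComp a b V).left ≫ pullback.fst (pullback.snd V.hom b) a ≫ pullback.fst V.hom b =
      pullback.fst V.hom (a ≫ b) :=
  MorphismProperty.Over.pullbackComp_left_fst_fst (P := EtCoh.etaleMP) (Q := ⊤) a b V

theorem bcComp_snd {A B C : Scheme.{u}} (a : A ⟶ B) (b : B ⟶ C) (V : C.Etale) :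
    (bcComp a b V).left ≫ pullback.snd (pullback.snd V.hom b) a = pullback.snd V.hom (a ≫ b) :=
  MorphismProperty.Over.w (bcComp a b V)

theorem bcComp_fst_snd {A B C : Scheme.{u}} (a : A ⟶ B) (b : B ⟶ C) (V : C.Etale) :
    (bcComp a b V).left ≫ pullback.fst (pullback.snd V.hom b) a ≫ pullback.snd V.hom b =
      pullback.snd V.hom (a ≫ b) ≫ a :=
  (congrArg (_ ≫ ·) pullback.condition).trans
    ((Category.assoc _ _ _).symm.trans (congrArg (· ≫ a) (bcComp_snd a b V)))

theorem triple_hom_ext {P V D C B A : Scheme.{u}} {p : V ⟶ D} {t : C ⟶ D} {b : B ⟶ C} {a : A ⟶ B}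
    (m m' : P ⟶ pullback (pullback.snd (pullback.snd p t) b) a)
    (h0 : m ≫ pullback.fst _ _ ≫ pullback.fst _ _ ≫ pullback.fst _ _ =
      m' ≫ pullback.fst _ _ ≫ pullback.fst _ _ ≫ pullback.fst _ _)
    (h3 : m ≫ pullback.snd _ _ = m' ≫ pullback.snd _ _) : m = m' := by
  have h2 : (m ≫ pullback.fst _ _) ≫ pullback.snd (pullback.snd p t) b =
      (m' ≫ pullback.fst _ _) ≫ pullback.snd (pullback.snd p t) b := by
    simp only [Category.assoc, pullback.condition]
    exact (Category.assoc _ _ _).symm.trans ((congrArg (· ≫ a) h3).trans (Category.assoc _ _ _))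
  refine pullback.hom_ext (pullback.hom_ext (pullback.hom_ext ?_ ?_) h2) h3
  · simpa only [Category.assoc] using h0
  · simp only [Category.assoc, pullback.condition, pullback.condition_assoc]
    simpa only [Category.assoc, pullback.condition, pullback.condition_assoc] using congrArg (· ≫ b) h2

set_option backward.isDefEq.respectTransparency.types false in
/-- Associativity of the base change comparison. -/
theorem bcComp_assoc (V : D.Etale) :
    bcComp (a ≫ b) t V ≫ bcComp a b ((EtCoh.bc t).obj V) =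
      bcComp a (b ≫ t) V ≫ (EtCoh.bc a).map (bcComp b t V) := by
  apply MorphismProperty.Over.Hom.ext
  have hw := (EtCoh.isPullback_bc_map a (bcComp b t V)).w
  refine triple_hom_ext (p := V.hom) (t := t) (b := b) (a := a) _ _ ?_ ?_
  · refine Eq.trans (b := pullback.fst V.hom (a ≫ b ≫ t)) ?_ ?_
    · refine (Category.assoc _ _ _).trans ?_
      refine Eq.trans ?_ (bcComp_fst (a ≫ b) t V)
      refine congrArg ((bcComp (a ≫ b) t V).left ≫ ·) ?_
      exact ((congrArg (_ ≫ ·) (Category.assoc _ _ _).symm).trans (Category.assoc _ _ _).symm).trans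
        (congrArg (· ≫ pullback.fst V.hom t) (bcComp_fst a b ((EtCoh.bc t).obj V)))
    · refine Eq.symm ?_
      refine (Category.assoc _ _ _).trans ?_
      refine Eq.trans ?_ (bcComp_fst a (b ≫ t) V)
      refine congrArg ((bcComp a (b ≫ t) V).left ≫ ·) ?_
      refine ((Category.assoc _ _ _).symm.trans (congrArg (· ≫ _) hw)).trans ?_
      refine (Category.assoc _ _ _).trans ?_
      exact congrArg (_ ≫ ·) (bcComp_fst b t V)
  · have e1 : (bcComp a b ((EtCoh.bc t).obj V)).left ≫
        pullback.snd (pullback.snd ((EtCoh.bc t).obj V).hom b) a =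
        pullback.snd ((EtCoh.bc t).obj V).hom (a ≫ b) := bcComp_snd a b _
    have e2 : ((EtCoh.bc a).map (bcComp b t V)).left ≫
        pullback.snd ((EtCoh.bc b).obj ((EtCoh.bc t).obj V)).hom a =
        pullback.snd ((EtCoh.bc (b ≫ t)).obj V).hom a :=
      MorphismProperty.Over.w ((EtCoh.bc a).map (bcComp b t V))
    refine ((Category.assoc _ _ _).trans (congrArg (_ ≫ ·) e1)).trans ?_
    refine Eq.trans ?_ ((Category.assoc _ _ _).trans (congrArg (_ ≫ ·) e2)).symm
    exact (bcComp_snd (a ≫ b) t V).trans (bcComp_snd a (b ≫ t) V).symm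

set_option backward.isDefEq.respectTransparency.types false in
/-- Associativity of the composition of direct images. -/
theorem pushComp_assoc (F : EtCoh.Ab A) :
    (EtCoh.push t).map ((EtCoh.pushComp b a).hom.app F) ≫ (EtCoh.pushComp t (a ≫ b)).hom.app F =
      (EtCoh.pushComp t b).hom.app ((EtCoh.push a).obj F) ≫ (EtCoh.pushComp (b ≫ t) a).hom.app F := by
  apply Sheaf.hom_ext
  apply NatTrans.ext
  funext V
  change F.obj.map (bcComp a b ((EtCoh.bc t).obj V.unop)).op ≫
      F.obj.map (bcComp (a ≫ b) t V.unop).op =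
    F.obj.map ((EtCoh.bc a).map (bcComp b t V.unop)).op ≫ F.obj.map (bcComp a (b ≫ t) V.unop).op
  rw [← F.obj.map_comp, ← F.obj.map_comp, ← op_comp, ← op_comp, bcComp_assoc]
  rfl

/-- The transpose of `pullComp`. -/
theorem pullComp_homEquiv {X Y Z : Scheme.{u}} (g : X ⟶ Y) (h : Y ⟶ Z) (G : EtCoh.Ab Z) {F : EtCoh.Ab X}
    (k : (EtCoh.pull g).obj ((EtCoh.pull h).obj G) ⟶ F) :
    (EtCoh.pullPushAdj (g ≫ h)).homEquiv _ _ ((EtCore.pullComp g h).hom.app G ≫ k) =
      (EtCoh.pullPushAdj h).homEquiv _ _ ((EtCoh.pullPushAdj g).homEquiv _ _ k) ≫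
        (EtCoh.pushComp h g).hom.app F := by
  have e2 : (EtCoh.pullPushAdj (g ≫ h)).homEquiv _ _ ((EtCore.pullComp g h).hom.app G) =
      (EtCoh.pullPushAdj h).homEquiv _ _ ((EtCoh.pullPushAdj g).unit.app _) ≫
        (EtCoh.pushComp h g).hom.app _ := by
    refine (Adjunction.homEquiv_leftAdjointUniq_hom_app _ _ _).trans ?_
    simp [Adjunction.ofNatIsoRight, Adjunction.homEquiv_unit]
  refine ((EtCoh.pullPushAdj (g ≫ h)).homEquiv_naturality_right
    ((EtCore.pullComp g h).hom.app G) k).trans ?_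
  refine ((congrArg (· ≫ _) e2).trans (Category.assoc _ _ _)).trans ?_
  refine (congrArg (_ ≫ ·) ((EtCoh.pushComp h g).hom.naturality k).symm).trans ?_
  refine (Category.assoc _ _ _).symm.trans (congrArg (· ≫ (EtCoh.pushComp h g).hom.app F) ?_)
  rw [(EtCoh.pullPushAdj g).homEquiv_unit (Y := F)]
  exact ((EtCoh.pullPushAdj h).homEquiv_naturality_right _ _).symm

/-- The pentagon for `pullComp`. -/
theorem pullComp_assoc (G : EtCoh.Ab D) :
    (EtCore.pullComp (a ≫ b) t).hom.app G ≫ (EtCore.pullComp a b).hom.app ((EtCoh.pull t).obj G) =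
      (EtCore.pullComp a (b ≫ t)).hom.app G ≫
        (EtCoh.pull a).map ((EtCore.pullComp b t).hom.app G) := by
  let F := (EtCoh.pull a).obj ((EtCoh.pull b).obj ((EtCoh.pull t).obj G))
  apply ((EtCoh.pullPushAdj ((a ≫ b) ≫ t)).homEquiv G F).injective
  refine (pullComp_homEquiv (a ≫ b) t G (F := F) _).trans ?_
  refine Eq.trans ?_ (pullComp_homEquiv a (b ≫ t) G (F := F) _).symm
  have h1 : (EtCoh.pullPushAdj (a ≫ b)).homEquiv _ _
      ((EtCore.pullComp a b).hom.app ((EtCoh.pull t).obj G)) =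
      (EtCoh.pullPushAdj b).homEquiv _ _ ((EtCoh.pullPushAdj a).homEquiv _ _ (𝟙 F)) ≫
        (EtCoh.pushComp b a).hom.app F :=
    (congrArg _ (Category.comp_id _).symm).trans (pullComp_homEquiv a b _ (𝟙 F))
  have h2 : (EtCoh.pullPushAdj a).homEquiv _ _ ((EtCoh.pull a).map ((EtCore.pullComp b t).hom.app G)) =
      (EtCore.pullComp b t).hom.app G ≫ (EtCoh.pullPushAdj a).homEquiv _ _ (𝟙 F) :=
    (congrArg _ (Category.comp_id _).symm).trans
      ((EtCoh.pullPushAdj a).homEquiv_naturality_left _ _)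
  refine (congrArg (fun k => (EtCoh.pullPushAdj t).homEquiv _ _ k ≫ _) h1).trans ?_
  refine Eq.trans ?_ (congrArg (fun k => (EtCoh.pullPushAdj (b ≫ t)).homEquiv _ _ k ≫ _) h2).symm
  refine Eq.trans ?_ (congrArg (· ≫ _) (pullComp_homEquiv b t G _)).symm
  refine (congrArg (· ≫ _) ((EtCoh.pullPushAdj t).homEquiv_naturality_right _ _)).trans ?_
  refine (Category.assoc _ _ _).trans ?_
  refine Eq.trans ?_ (Category.assoc _ _ _).symm
  exact congrArg (_ ≫ ·) (pushComp_assoc a b t F)

end Groth.Agent.EtaleSite.HpullFunctor
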