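import Groth.Agent.EtaleSite.SetPushStalk
import Groth.Agent.EtaleSite.PushFiber
import Groth.Agent.EtaleSite.SplitScheme
import Mathlib.CategoryTheory.Adjunction.FullyFaithful

/-!
# Stalks of direct images of sheaves of sets along finite, integral and universally injective morphisms
-/

set_option linter.style.haveILetI false

universe u

open CategoryTheory CategoryTheory.Limits AlgebraicGeometry Opposite

namespace Groth.Agent.EtaleSite.SetPush

open SetStalk (stalkSh stalkPullShIso)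

variable {X Y : Scheme.{u}}

/-- Sections glue along a decomposition into disjoint open pieces. -/
theorem exists_glue_disjoint_sh (F : EtDesc.Sh X) {U : X.Etale} {μ : Type*}
    (W : μ → U.left.Opens) (hd : ∀ a b, a ≠ b → Disjoint (W a) (W b))
    (hc : ∀ x : U.left, ∃ a, x ∈ W a) (s : ∀ a, F.obj.obj (op (piece U (W a)))) :
    ∃ t : F.obj.obj (op U), ∀ a, F.obj.map (pieceHom U (W a)).op t = s a := by
  have hP : (Presieve.ofArrows (fun a => piece U (W a)) fun a => pieceHom U (W a)).IsSheafFor F.obj := by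
    rw [Presieve.isSheafFor_iff_generate]
    refine (isSheaf_iff_isSheaf_of_type _ _).1 F.property _
      (mem_topology_of_forall_exists _ fun u => ?_)
    obtain ⟨a, ha⟩ := hc u
    exact ⟨piece U (W a), pieceHom U (W a), (⟨u, ha⟩ : W a), Sieve.le_generate _ _ _ (Presieve.ofArrows.mk a), rfl⟩
  rw [Presieve.isSheafFor_arrows_iff] at hP
  obtain ⟨t, ht, -⟩ := hP s fun a b Z ga gb h => by
    by_cases hab : a = b
    · subst hab
      have : ga = gb := by
        apply MorphismProperty.Over.Hom.ext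
        refine (cancel_mono (W a).ι).1 ?_
        exact congrArg (fun k => k.left) h
      rw [this]
    · have : IsEmpty Z.left := ⟨fun z => by
        have e : (W a).ι (ga.left z) = (W b).ι (gb.left z) :=
          congrArg (fun k => k.left z) h
        have h2 := (gb.left z).2
        exact ((hd a b hab).le_bot (show (W a).ι (ga.left z) ∈ W a ⊓ W b from ⟨(ga.left z).2, e ▸ h2⟩) : False)⟩
      exact (Covers.subsingleton_sect_of_isEmpty F Z).elim _ _
  exact ⟨t, ht⟩

/-- Over an empty scheme there is a section. -/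
theorem nonempty_sect_of_isEmpty (F : EtDesc.Sh X) (U : X.Etale) [IsEmpty U.left] :
    Nonempty (F.obj.obj (op U)) := by
  obtain ⟨t, -⟩ := exists_glue_disjoint_sh (μ := PEmpty.{1}) F (U := U) (fun a => a.elim)
    (fun a => a.elim) (fun x => isEmptyElim x) (fun a => a.elim)
  exact ⟨t⟩

variable (f : X ⟶ Y) {Ω : Type u} [Field Ω] [IsSepClosed Ω]

/-- Two germs of a direct image along a universally closed morphism agree if the sections agree
near every point above the base point. -/
theorem germ_push_eq [UniversallyClosed f] (η : Spec (CommRingCat.of Ω) ⟶ Y) {F : EtDesc.Sh X}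
    {V : Y.Etale} (φ : (Scheme.pointSmallEtale η).fiber.obj V)
    (s t : ((EtDesc.pushSh f).obj F).obj.obj (op V))
    (h : ∀ x : ↥(pullback V.hom f), pullback.fst V.hom f x = φ.left (default : Spec (CommRingCat.of Ω)) →
      ∃ (Ω' : Type u) (_ : Field Ω') (_ : IsSepClosed Ω') (ξ : Spec (CommRingCat.of Ω') ⟶ X)
        (ζ : (Scheme.pointSmallEtale ξ).fiber.obj ((EtCoh.bc f).obj V)),
        ζ.left (default : Spec (CommRingCat.of Ω')) = x ∧
          SetStalk.germ ξ F ((EtCoh.bc f).obj V) ζ s = SetStalk.germ ξ F ((EtCoh.bc f).obj V) ζ t) :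
    SetStalk.germ η ((EtDesc.pushSh f).obj F) V φ s =
      SetStalk.germ η ((EtDesc.pushSh f).obj F) V φ t := by
  obtain ⟨V', e, v', hv', he⟩ := exists_nbhd_eq f (F := F) (V := V) s t
      (φ.left (default : Spec (CommRingCat.of Ω))) fun x hx => by
    obtain ⟨Ω', _, _, ξ, ζ, hζ, hz⟩ := h x hx
    obtain ⟨W, g, y, hy, hg⟩ := (SetStalk.germ_eq_iff ξ F _ ζ s t).1 hz
    refine ⟨W, g, y.left (default : Spec (CommRingCat.of Ω')), ?_, hg⟩
    rw [← hζ, ← hy]
    rfl
  haveI : Etale e.left := by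
    haveI : Etale V.hom := V.prop
    haveI : Etale (e.left ≫ V.hom) := by rw [MorphismProperty.Over.w e]; exact V'.prop
    exact Etale.of_comp e.left V.hom
  obtain ⟨l, hl, -⟩ := Scheme.exists_fac_of_etale_of_isSepClosed e.left φ.left v' hv'
  let φ' : (Scheme.pointSmallEtale η).fiber.obj V' := (Over.homMk l (by
    show l ≫ V'.hom = η
    rw [← MorphismProperty.Over.w e, ← Category.assoc, hl]
    exact Over.w φ) : Over.mk η ⟶ (Scheme.Etale.forget Y).obj V')
  have hφ : (Scheme.pointSmallEtale η).fiber.map e φ' = φ := Over.OverMorphism.ext hl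
  rw [← hφ, ← SetStalk.germ_res, ← SetStalk.germ_res]
  exact congrArg (SetStalk.germ η ((EtDesc.pushSh f).obj F) V' φ') he

/-- The comparison map `(f_*F)_η ⟶ F_ξ` for a point `ξ` above `η`. -/
noncomputable def cmpAt {η : Spec (CommRingCat.of Ω) ⟶ Y} (ξ : Spec (CommRingCat.of Ω) ⟶ X)
    (hξ : ξ ≫ f = η) (F : EtDesc.Sh X) :
    (stalkSh η).obj ((EtDesc.pushSh f).obj F) ⟶ (stalkSh ξ).obj F :=
  eqToHom (by rw [hξ]) ≫ cmp f ξ F

set_option backward.isDefEq.respectTransparency.types false in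
theorem cmpAt_germ {η : Spec (CommRingCat.of Ω) ⟶ Y} (ξ : Spec (CommRingCat.of Ω) ⟶ X)
    (hξ : ξ ≫ f = η) (F : EtDesc.Sh X) (V : Y.Etale)
    (φ : (Scheme.pointSmallEtale η).fiber.obj V) (s : ((EtDesc.pushSh f).obj F).obj.obj (op V)) :
    cmpAt f ξ hξ F (SetStalk.germ η ((EtDesc.pushSh f).obj F) V φ s) =
      SetStalk.germ ξ F ((EtCoh.bc f).obj V) (bcPt f ξ hξ V φ) s := by
  subst hξ
  exact cmp_germ f ξ F V φ s

/-- Two germs over a common neighbourhood. -/
theorem exists_germ_eq_pair (η : Spec (CommRingCat.of Ω) ⟶ Y) (G : EtDesc.Sh Y)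
    (p q : (stalkSh η).obj G) :
    ∃ (V : Y.Etale) (φ : (Scheme.pointSmallEtale η).fiber.obj V) (s t : G.obj.obj (op V)),
      SetStalk.germ η G V φ s = p ∧ SetStalk.germ η G V φ t = q := by
  obtain ⟨U, x, s, rfl⟩ := SetStalk.exists_germ_eq η G p
  obtain ⟨U', x', t, rfl⟩ := SetStalk.exists_germ_eq η G q
  obtain ⟨z, ⟨p₁, hp₁⟩, ⟨p₂, hp₂⟩, -⟩ :=
    IsCofilteredOrEmpty.cone_objs ((Scheme.pointSmallEtale η).fiber.elementsMk _ x)
      ((Scheme.pointSmallEtale η).fiber.elementsMk _ x')
  dsimp at p₁ p₂ hp₁ hp₂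
  exact ⟨z.1, z.2, G.obj.map p₁.op s, G.obj.map p₂.op t, by rw [SetStalk.germ_res, hp₁],
    by rw [SetStalk.germ_res, hp₂]⟩

/-- Germs of a direct image along an integral morphism at an algebraically closed point are
determined by their images in the stalks above. -/
theorem eq_of_cmpAt [IsIntegralHom f] {Ω : Type u} [Field Ω] [IsAlgClosed Ω]
    (η : Spec (CommRingCat.of Ω) ⟶ Y) (F : EtDesc.Sh X)
    (p q : (stalkSh η).obj ((EtDesc.pushSh f).obj F))
    (h : ∀ ξ (hξ : ξ ≫ f = η), cmpAt f ξ hξ F p = cmpAt f ξ hξ F q) : p = q := by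
  obtain ⟨V, φ, s, t, rfl, rfl⟩ := exists_germ_eq_pair η ((EtDesc.pushSh f).obj F) p q
  refine germ_push_eq f η φ s t fun x hx => ?_
  obtain ⟨ζ, hζ, hζx⟩ := exists_point_over (pullback.fst V.hom f) φ.left x hx
  have hξ : (ζ ≫ pullback.snd V.hom f) ≫ f = η := by
    rw [Category.assoc, ← pullback.condition, ← Category.assoc, hζ]
    exact Over.w φ
  refine ⟨Ω, _, inferInstance, _, bcPt f _ hξ V φ, ?_, ?_⟩
  · have : pullback.lift φ.left (ζ ≫ pullback.snd V.hom f) ((Over.w φ).trans hξ.symm) = ζ :=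
      pullback.hom_ext ((pullback.lift_fst _ _ _).trans hζ.symm) (pullback.lift_snd _ _ _)
    exact (congrArg (fun k : Spec (CommRingCat.of Ω) ⟶ pullback V.hom f => k default) this).trans hζx
  · rw [← cmpAt_germ, ← cmpAt_germ]
    exact h _ hξ

set_option maxHeartbeats 800000 in
set_option backward.isDefEq.respectTransparency.types false in
/-- Stalks of a finite direct image surject onto the product of the stalks above. -/
theorem exists_cmpAt_eq [IsFinite f] {Ω : Type u} [Field Ω] [IsAlgClosed Ω]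
    (η : Spec (CommRingCat.of Ω) ⟶ Y) (F : EtDesc.Sh X)
    (q : ∀ ξ : {ξ : Spec (CommRingCat.of Ω) ⟶ X // ξ ≫ f = η}, (stalkSh ξ.1).obj F) :
    ∃ p : (stalkSh η).obj ((EtDesc.pushSh f).obj F),
      ∀ ξ : {ξ : Spec (CommRingCat.of Ω) ⟶ X // ξ ≫ f = η}, cmpAt f ξ.1 ξ.2 F p = q ξ := by
  choose U x t ht using fun ξ : {ξ : Spec (CommRingCat.of Ω) ⟶ X // ξ ≫ f = η} =>
    SetStalk.exists_germ_eq ξ.1 F (q ξ)
  let g : (∐ fun ξ => (U ξ).left) ⟶ X := Sigma.desc fun ξ => (U ξ).hom
  haveI : ∀ ξ, Etale (U ξ).hom := fun ξ => (U ξ).prop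
  haveI : Etale g := etale_sigmaDesc _
  have hgι : ∀ a, Sigma.ι (fun ξ => (U ξ).left) a ≫ g = (U a).hom := fun a => Sigma.ι_desc _ a
  let xl : ∀ a, Spec (CommRingCat.of Ω) ⟶ (U a).left := fun a => (x a).left
  have hxl : ∀ a, xl a ≫ (U a).hom = a.1 := fun a => Over.w (x a)
  obtain ⟨V, y, hy, h, hh, hφ⟩ := split_finite f η (𝟙 _) g
    (fun ξ hξ => xl ⟨ξ, hξ.trans (Category.id_comp η)⟩ ≫
      Sigma.ι (fun ξ => (U ξ).left) ⟨ξ, hξ.trans (Category.id_comp η)⟩)
    (fun ξ hξ => by rw [Category.assoc, hgι, hxl])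
  obtain ⟨W, hd, hc, hk⟩ := exists_pieces h
  choose k hk using hk
  have hkU : ∀ a, k a ≫ (U a).hom = (W a).ι ≫ pullback.snd V.hom f := fun a =>
    ((congrArg (k a ≫ ·) (hgι a)).symm).trans
      ((Category.assoc _ _ _).symm.trans ((congrArg (· ≫ g) (hk a)).trans
        ((Category.assoc _ _ _).trans (congrArg ((W a).ι ≫ ·) hh))))
  let k' : ∀ a, piece ((EtCoh.bc f).obj V) (W a) ⟶ U a := fun a =>
    MorphismProperty.Over.homMk (k a) (hkU a) trivial
  obtain ⟨r, hr⟩ := exists_glue_disjoint_sh (U := (EtCoh.bc f).obj V) F W hd hc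
    (fun a => F.obj.map (k' a).op (t a))
  let φ : (Scheme.pointSmallEtale η).fiber.obj V :=
    (Over.homMk y hy : Over.mk η ⟶ (Scheme.Etale.forget Y).obj V)
  refine ⟨SetStalk.germ η ((EtDesc.pushSh f).obj F) V φ r, fun a => ?_⟩
  rw [cmpAt_germ, ← ht a]
  let ℓ : Spec (CommRingCat.of Ω) ⟶ pullback V.hom f := pullback.lift y a.1 (hy.trans a.2.symm)
  let j : (W a : Scheme.{u}) ⟶ pullback V.hom f := (W a).ι
  have hℓ : ℓ ≫ h = xl a ≫ Sigma.ι (fun ξ => (U ξ).left) a := by
    refine Eq.trans ?_ (hφ a.1 (a.2.trans (Category.id_comp η).symm))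
    refine congrArg (· ≫ h) (pullback.hom_ext ?_ ?_)
    · rw [pullback.lift_fst, pullback.lift_fst, Category.id_comp]
    · rw [pullback.lift_snd, pullback.lift_snd]
  have hr' : Set.range ℓ ⊆ Set.range j := by
    rintro _ ⟨o, rfl⟩
    obtain ⟨b, hb⟩ := hc (ℓ o)
    by_cases hab : b = a
    · subst hab
      exact ⟨⟨ℓ o, hb⟩, rfl⟩
    · exfalso
      have h1 : h (ℓ o) ∈ (Sigma.ι (fun ξ => (U ξ).left) a).opensRange :=
        ⟨xl a o, (congrArg (fun q => q o) hℓ).symm⟩
      have h2 : h (ℓ o) ∈ (Sigma.ι (fun ξ => (U ξ).left) b).opensRange :=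
        ⟨k b ⟨ℓ o, hb⟩, congrArg (fun q => q ⟨ℓ o, hb⟩) (hk b)⟩
      exact (disjoint_opensRange_sigmaι (fun ξ => (U ξ).left) b a hab).le_bot
        (show h (ℓ o) ∈ _ ⊓ _ from ⟨h2, h1⟩)
  let l : Spec (CommRingCat.of Ω) ⟶ (W a : Scheme.{u}) := IsOpenImmersion.lift j ℓ hr'
  have hl : l ≫ j = ℓ := IsOpenImmersion.lift_fac _ _ _
  have hlw : l ≫ j ≫ pullback.snd V.hom f = a.1 := by
    rw [reassoc_of% hl]
    exact pullback.lift_snd _ _ _
  let z : (Scheme.pointSmallEtale a.1).fiber.obj (piece ((EtCoh.bc f).obj V) (W a)) :=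
    (Over.homMk l hlw :
      Over.mk a.1 ⟶ (Scheme.Etale.forget X).obj (piece ((EtCoh.bc f).obj V) (W a)))
  have hz : (Scheme.pointSmallEtale a.1).fiber.map
      (pieceHom ((EtCoh.bc f).obj V) (W a)) z = bcPt f a.1 a.2 V φ :=
    Over.OverMorphism.ext hl
  have hlk : l ≫ k a = xl a := by
    refine (cancel_mono (Sigma.ι (fun ξ => (U ξ).left) a)).1 ?_
    rw [Category.assoc, hk]
    show l ≫ j ≫ h = _
    rw [reassoc_of% hl, hℓ]
  have hzx : (Scheme.pointSmallEtale a.1).fiber.map (k' a) z = x a :=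
    Over.OverMorphism.ext hlk
  rw [← hz, ← SetStalk.germ_res]
  refine (congrArg (SetStalk.germ a.1 F _ z) (hr a)).trans ?_
  rw [SetStalk.germ_res, hzx]

set_option backward.isDefEq.respectTransparency.types false in
/-- For an integral universally injective morphism the comparison maps are bijective. -/
theorem bijective_cmp [IsIntegralHom f] [UniversallyInjective f]
    (ξ : Spec (CommRingCat.of Ω) ⟶ X) (F : EtDesc.Sh X) : Function.Bijective (cmp f ξ F) := by
  constructor
  · intro p q hpq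
    obtain ⟨V, φ, s, t, rfl, rfl⟩ := exists_germ_eq_pair (ξ ≫ f) ((EtDesc.pushSh f).obj F) p q
    rw [cmp_germ, cmp_germ] at hpq
    refine germ_push_eq f (ξ ≫ f) φ s t fun x hx =>
      ⟨Ω, _, ‹_›, ξ, fiberBcEquiv f ξ V φ, ?_, hpq⟩
    have : UniversallyInjective (pullback.fst V.hom f) := MorphismProperty.pullback_fst V.hom f ‹_›
    refine (pullback.fst V.hom f).injective ?_
    refine Eq.trans ?_ hx.symm
    exact congrArg (fun k : Spec (CommRingCat.of Ω) ⟶ V.left => k default) (pullback.lift_fst _ _ _)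
  · intro q
    obtain ⟨U, x, t, rfl⟩ := SetStalk.exists_germ_eq ξ F q
    let L := AlgebraicClosure Ω
    let σ : Spec (CommRingCat.of L) ⟶ Spec (CommRingCat.of Ω) :=
      Spec.map (CommRingCat.ofHom (algebraMap Ω L))
    haveI : Etale U.hom := U.prop
    have hxg : (σ ≫ x.left) ≫ U.hom = σ ≫ ξ :=
      (Category.assoc _ _ _).trans (congrArg (σ ≫ ·) (Over.w x))
    obtain ⟨V, y, hy, h, hh, hφ⟩ := split_integral_point f (ξ ≫ f) σ U.hom
      (fun z hz => ⟨x.left (default : Spec (CommRingCat.of Ω)), f.injective (by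
        rw [hz, ← Scheme.Hom.comp_apply]
        exact congrArg (fun k : Spec (CommRingCat.of Ω) ⟶ Y => k default)
          ((Category.assoc _ _ _).symm.trans (congrArg (· ≫ f) (Over.w x))))⟩)
      {σ ≫ x.left} Set.subsingleton_singleton
      (fun z hz => by
        obtain rfl := Set.mem_singleton_iff.1 hz
        exact (congrArg (· ≫ f) hxg).trans (Category.assoc _ _ _))
    let φ : (Scheme.pointSmallEtale (ξ ≫ f)).fiber.obj V :=
      (Over.homMk y hy : Over.mk (ξ ≫ f) ⟶ (Scheme.Etale.forget Y).obj V)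
    let h' : (EtCoh.bc f).obj V ⟶ U := MorphismProperty.Over.homMk h hh trivial
    refine ⟨SetStalk.germ (ξ ≫ f) ((EtDesc.pushSh f).obj F) V φ (F.obj.map h'.op t), ?_⟩
    rw [cmp_germ, SetStalk.germ_res]
    refine congrArg (fun z => SetStalk.germ ξ F U z t) ((fiberExtFun_bijective σ ξ U).1 ?_)
    refine Over.OverMorphism.ext ?_
    refine Eq.trans ?_ (hφ _ rfl)
    show σ ≫ pullback.lift y ξ _ ≫ h = _
    rw [← Category.assoc]
    refine congrArg (· ≫ h) (pullback.hom_ext ?_ ?_)
    · rw [Category.assoc, pullback.lift_fst, pullback.lift_fst]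
    · rw [Category.assoc, pullback.lift_snd, pullback.lift_snd]
      exact hxg.symm

/-- For an integral universally injective morphism the counit `f⁻¹f_* ⟶ 𝟙` is an isomorphism. -/
theorem isIso_counit [IsIntegralHom f] [UniversallyInjective f] (F : EtDesc.Sh X) :
    IsIso ((EtDesc.adjSh f).counit.app F) :=
  isIso_counit_of_cmp f F fun Ω _ _ ξ => bijective_cmp f ξ F

set_option backward.isDefEq.respectTransparency.types false in
/-- For an open immersion the comparison maps are bijective. -/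
theorem bijective_cmp_of_isOpenImmersion [IsOpenImmersion f]
    (ξ : Spec (CommRingCat.of Ω) ⟶ X) (F : EtDesc.Sh X) : Function.Bijective (cmp f ξ F) := by
  constructor
  · intro p q hpq
    obtain ⟨V, φ, s, t, rfl, rfl⟩ := exists_germ_eq_pair (ξ ≫ f) ((EtDesc.pushSh f).obj F) p q
    rw [cmp_germ, cmp_germ] at hpq
    obtain ⟨W, g, y, hy, hg⟩ := (SetStalk.germ_eq_iff ξ F _ _ s t).1 hpq
    haveI : Etale W.hom := W.prop
    have hw : (g.left ≫ pullback.fst V.hom f) ≫ V.hom = W.hom ≫ f :=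
      (Category.assoc _ _ _).trans ((congrArg (g.left ≫ ·) pullback.condition).trans
        ((Category.assoc _ _ _).symm.trans (congrArg (· ≫ f) (MorphismProperty.Over.w g))))
    let V' : Y.Etale := Scheme.Etale.mk (W.hom ≫ f)
    let e : V' ⟶ V := MorphismProperty.Over.homMk (g.left ≫ pullback.fst V.hom f) hw trivial
    let c : (EtCoh.bc f).obj V' ⟶ W := MorphismProperty.Over.homMk (pullback.fst (W.hom ≫ f) f) (by
      refine (cancel_mono f).1 ?_
      exact (Category.assoc _ _ _).trans pullback.condition) trivial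
    have hc : (EtCoh.bc f).map e = c ≫ g := by
      refine MorphismProperty.Over.Hom.ext (pullback.hom_ext ?_ ?_)
      · exact (EtCoh.isPullback_bc_map f e).w.trans (Category.assoc _ _ _).symm
      · exact (MorphismProperty.Over.w ((EtCoh.bc f).map e)).trans (MorphismProperty.Over.w (c ≫ g)).symm
    let φ' : (Scheme.pointSmallEtale (ξ ≫ f)).fiber.obj V' := (Over.homMk y.left
      ((Category.assoc _ _ _).symm.trans (congrArg (· ≫ f) (Over.w y))) :
        Over.mk (ξ ≫ f) ⟶ (Scheme.Etale.forget Y).obj V')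
    have hφ : (Scheme.pointSmallEtale (ξ ≫ f)).fiber.map e φ' = φ := by
      refine Over.OverMorphism.ext ?_
      refine (Category.assoc _ _ _).symm.trans ?_
      refine (congrArg (fun k => k ≫ pullback.fst V.hom f) (congrArg (fun k => k.left) hy)).trans ?_
      exact pullback.lift_fst _ _ _
    rw [← hφ, ← SetStalk.germ_res, ← SetStalk.germ_res]
    refine congrArg (SetStalk.germ (ξ ≫ f) ((EtDesc.pushSh f).obj F) V' φ') ?_
    show F.obj.map ((EtCoh.bc f).map e).op s = F.obj.map ((EtCoh.bc f).map e).op t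
    rw [hc, op_comp, Functor.map_comp, ConcreteCategory.comp_apply, ConcreteCategory.comp_apply, hg]
  · intro q
    obtain ⟨U, x, t, rfl⟩ := SetStalk.exists_germ_eq ξ F q
    haveI : Etale U.hom := U.prop
    let V : Y.Etale := Scheme.Etale.mk (U.hom ≫ f)
    let c : (EtCoh.bc f).obj V ⟶ U := MorphismProperty.Over.homMk (pullback.fst (U.hom ≫ f) f) (by
      refine (cancel_mono f).1 ?_
      exact (Category.assoc _ _ _).trans pullback.condition) trivial
    let φ : (Scheme.pointSmallEtale (ξ ≫ f)).fiber.obj V := (Over.homMk x.left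
      ((Category.assoc _ _ _).symm.trans (congrArg (· ≫ f) (Over.w x))) :
        Over.mk (ξ ≫ f) ⟶ (Scheme.Etale.forget Y).obj V)
    refine ⟨SetStalk.germ (ξ ≫ f) ((EtDesc.pushSh f).obj F) V φ (F.obj.map c.op t), ?_⟩
    rw [cmp_germ, SetStalk.germ_res]
    exact congrArg (fun z => SetStalk.germ ξ F U z t)
      (Over.OverMorphism.ext (pullback.lift_fst _ _ _))

/-- For an open immersion the counit is an isomorphism. -/
theorem isIso_counit_of_isOpenImmersion [IsOpenImmersion f] (F : EtDesc.Sh X) :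
    IsIso ((EtDesc.adjSh f).counit.app F) :=
  isIso_counit_of_cmp f F fun Ω _ _ ξ => bijective_cmp_of_isOpenImmersion f ξ F

/-- Stalks away from the image of a universally closed morphism are singletons. -/
theorem unique_stalk_push [UniversallyClosed f] (η : Spec (CommRingCat.of Ω) ⟶ Y)
    (hη : η default ∉ Set.range f) (F : EtDesc.Sh X) :
    Nonempty ((stalkSh η).obj ((EtDesc.pushSh f).obj F)) ∧
      Subsingleton ((stalkSh η).obj ((EtDesc.pushSh f).obj F)) := by
  constructor
  · let O : Y.Opens := ⟨(Set.range f)ᶜ, (f.isClosedMap.isClosed_range).isOpen_compl⟩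
    let V : Y.Etale := Scheme.Etale.mk O.ι
    haveI : IsEmpty ((EtCoh.bc f).obj V).left := ⟨fun z : ↥(pullback O.ι f) => by
      have e := congrArg (fun k => k z) (pullback.condition (f := O.ι) (g := f))
      exact (pullback.fst O.ι f z).2 ⟨pullback.snd O.ι f z, e.symm⟩⟩
    obtain ⟨s⟩ := nonempty_sect_of_isEmpty F ((EtCoh.bc f).obj V)
    obtain ⟨φ, -⟩ := exists_fiber_point η V (⟨η default, hη⟩ : O) rfl
    exact ⟨SetStalk.germ η ((EtDesc.pushSh f).obj F) V φ s⟩
  · refine ⟨fun p q => ?_⟩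
    obtain ⟨V, φ, s, t, rfl, rfl⟩ := exists_germ_eq_pair η ((EtDesc.pushSh f).obj F) p q
    refine germ_push_eq f η φ s t fun x hx => absurd ⟨pullback.snd V.hom f x, ?_⟩ hη
    rw [← Scheme.Hom.comp_apply, ← pullback.condition, Scheme.Hom.comp_apply, hx]
    exact congrArg (fun k : Spec (CommRingCat.of Ω) ⟶ Y => k default) (Over.w φ)

/-- Direct image is fully faithful as soon as all counits are isomorphisms. -/
noncomputable def fullyFaithfulPushSh (h : ∀ F, IsIso ((EtDesc.adjSh f).counit.app F)) :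
    (EtDesc.pushSh f).FullyFaithful :=
  haveI := h
  haveI : IsIso (EtDesc.adjSh f).counit := NatIso.isIso_of_isIso_app _
  (EtDesc.adjSh f).fullyFaithfulROfIsIsoCounit

/-- The counit of an immersion is an isomorphism. -/
theorem isIso_counit_of_isImmersion [IsImmersion f] (F : EtDesc.Sh X) :
    IsIso ((EtDesc.adjSh f).counit.app F) := by
  let i := f.liftCoborder
  let j := f.coborderRange.ι
  let P := ((fullyFaithfulPushSh i (isIso_counit i)).comp
    (fullyFaithfulPushSh j (isIso_counit_of_isOpenImmersion j))).ofIso (EtDesc.pushCompSh j i)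
  have hf : i ≫ j = f := f.liftCoborder_ι
  revert F
  rw [← hf]
  intro F
  haveI := P.full
  haveI := P.faithful
  infer_instance

end Groth.Agent.EtaleSite.SetPush
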