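import Groth.Agent.EtaleSite.IntegralBC
import Groth.Agent.EtaleSite.SetPushFiber
import Groth.Agent.DescSh.Square

/-!
# Base change for direct images of sheaves of sets along integral morphisms
-/

set_option linter.style.haveILetI false

universe u

open CategoryTheory CategoryTheory.Limits AlgebraicGeometry Opposite

namespace Groth.Agent.EtaleSite.SetIntBC

section Scheme

variable {X Y : Scheme.{u}} (f : X ⟶ Y) [IsIntegralHom f] {L : Type u} [Field L] [IsAlgClosed L]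
  (η : Spec (CommRingCat.of L) ⟶ Y)

set_option backward.isDefEq.respectTransparency.types false in
/-- Germs at a geometric point of the base can be chosen independently on the two sides of a
decomposition. -/
theorem exists_glue_germs (F : EtDesc.Sh X) (V : Y.Etale)
    (φ : (Scheme.pointSmallEtale η).fiber.obj V) (W : Bool → ((EtCoh.bc f).obj V).left.Opens)
    (hd : ∀ a b, a ≠ b → Disjoint (W a) (W b)) (hc : ∀ x, ∃ a, x ∈ W a)
    (p : Bool → (SetStalk.stalkSh η).obj ((EtDesc.pushSh f).obj F)) :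
    ∃ q, ∀ (c : Bool) (ξ : Spec (CommRingCat.of L) ⟶ X) (h : ξ ≫ f = η),
      (bcPt f ξ h V φ).left (default : Spec (CommRingCat.of L)) ∈ W c →
        SetPush.cmpAt f ξ h F q = SetPush.cmpAt f ξ h F (p c) := by
  choose V₁ φ₁ s₁ hs₁ using fun c => SetStalk.exists_germ_eq η ((EtDesc.pushSh f).obj F) (p c)
  let P := (Scheme.pointSmallEtale η).fiber
  let E : Bool → P.Elements := fun c => ⟨V₁ c, φ₁ c⟩
  let M := IsCofiltered.min (IsCofiltered.min (E true) (E false)) (⟨V, φ⟩ : P.Elements)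
  let a : ∀ c, M ⟶ E c := fun c => IsCofiltered.minToLeft _ _ ≫
    (match c with
      | true => IsCofiltered.minToLeft _ _
      | false => IsCofiltered.minToRight _ _)
  let b : M ⟶ (⟨V, φ⟩ : P.Elements) := IsCofiltered.minToRight _ _
  let W' : Bool → ((EtCoh.bc f).obj M.1).left.Opens := fun c => ((EtCoh.bc f).map b.1).left ⁻¹ᵁ W c
  obtain ⟨r, hr⟩ := SetPush.exists_glue_disjoint_sh (U := (EtCoh.bc f).obj M.1) F W'
    (fun c d hcd => disjoint_iff.2 (le_bot_iff.1 fun x hx =>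
      (hd c d hcd).le_bot (show ((EtCoh.bc f).map b.1).left x ∈ _ ⊓ _ from ⟨hx.1, hx.2⟩))) (fun x => hc _)
    (fun c => F.obj.map (pieceHom _ (W' c)).op
      (F.obj.map ((EtCoh.bc f).map (a c).1).op (s₁ c)))
  refine ⟨SetStalk.germ η ((EtDesc.pushSh f).obj F) M.1 M.2 r, fun c ξ h hmem => ?_⟩
  have hl : (bcPt f ξ h M.1 M.2).left ≫ ((EtCoh.bc f).map b.1).left =
      (bcPt f ξ h V φ).left := by
    have e0 : M.2.left ≫ b.1.left = φ.left := congrArg (fun k => k.left) b.2
    refine pullback.hom_ext ?_ ?_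
    · refine (Category.assoc _ _ _).trans ((congrArg (_ ≫ ·) (pullback.lift_fst _ _ _)).trans ?_)
      refine (Category.assoc _ _ _).symm.trans ((congrArg (· ≫ b.1.left)
        (pullback.lift_fst _ _ _)).trans (e0.trans (pullback.lift_fst _ _ _).symm))
    · refine (Category.assoc _ _ _).trans ((congrArg (_ ≫ ·) (pullback.lift_snd _ _ _)).trans ?_)
      exact (pullback.lift_snd _ _ _).trans (pullback.lift_snd _ _ _).symm
  have hr' : Set.range (bcPt f ξ h M.1 M.2).left ⊆ Set.range (W' c).ι := by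
    rintro _ ⟨o, rfl⟩
    erw [Scheme.Opens.range_ι]
    rw [Subsingleton.elim (α := Spec (CommRingCat.of L)) o default]
    show (((EtCoh.bc f).map b.1).left) _ ∈ W c
    exact (congrArg (fun k : Spec (CommRingCat.of L) ⟶ ((EtCoh.bc f).obj V).left => k default)
      hl).symm ▸ hmem
  let ℓ := IsOpenImmersion.lift (W' c).ι (bcPt f ξ h M.1 M.2).left hr'
  have hℓ : ℓ ≫ (W' c).ι = (bcPt f ξ h M.1 M.2).left := IsOpenImmersion.lift_fac _ _ _
  let z : (Scheme.pointSmallEtale ξ).fiber.obj (piece ((EtCoh.bc f).obj M.1) (W' c)) :=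
    (Over.homMk ℓ (((Category.assoc _ _ _).symm.trans (congrArg (· ≫ _) hℓ)).trans
        (Over.w (bcPt f ξ h M.1 M.2))) :
      Over.mk ξ ⟶ (Scheme.Etale.forget X).obj (piece ((EtCoh.bc f).obj M.1) (W' c)))
  have hz : (Scheme.pointSmallEtale ξ).fiber.map (pieceHom ((EtCoh.bc f).obj M.1) (W' c)) z =
      bcPt f ξ h M.1 M.2 := Over.OverMorphism.ext hℓ
  rw [SetPush.cmpAt_germ, ← hs₁ c, SetPush.cmpAt_germ, ← hz, ← SetStalk.germ_res]
  refine (congrArg (SetStalk.germ ξ F _ z) (hr c)).trans ?_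
  rw [SetStalk.germ_res, SetStalk.germ_res]
  refine congrArg (fun w => SetStalk.germ ξ F _ w (s₁ c)) ?_
  rw [hz]
  refine Over.OverMorphism.ext (pullback.hom_ext ?_ ?_)
  · refine (Category.assoc _ _ _).trans ((congrArg (_ ≫ ·) (pullback.lift_fst _ _ _)).trans ?_)
    refine (Category.assoc _ _ _).symm.trans ((congrArg (· ≫ (a c).1.left)
      (pullback.lift_fst _ _ _)).trans ((congrArg (fun k => k.left) (a c).2).trans
        (pullback.lift_fst _ _ _).symm))
  · refine (Category.assoc _ _ _).trans ((congrArg (_ ≫ ·) (pullback.lift_snd _ _ _)).trans ?_)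
    exact (pullback.lift_snd _ _ _).trans (pullback.lift_snd _ _ _).symm

set_option maxHeartbeats 1000000 in
set_option backward.isDefEq.respectTransparency.types false in
/-- A SetStalk.germ at a point above `η` extends compatibly with any covering family. -/
theorem exists_cmpAt_of_family (F : EtDesc.Sh X) (ξ : Spec (CommRingCat.of L) ⟶ X) (hξ : ξ ≫ f = η)
    {ι : Type u} (Z : ι → X.Etale) (hZ : ∀ x : X, f x = η default → ∃ c z, (Z c).hom z = x)
    (t' : ∀ c, F.obj.obj (op (Z c))) (c₀ : ι) (x : (Scheme.pointSmallEtale ξ).fiber.obj (Z c₀)) :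
    ∃ p, SetPush.cmpAt f ξ hξ F p = SetStalk.germ ξ F (Z c₀) x (t' c₀) := by
  let g : (∐ fun c => (Z c).left) ⟶ X := Sigma.desc fun c => (Z c).hom
  haveI : ∀ c, Etale (Z c).hom := fun c => (Z c).prop
  haveI : Etale g := etale_sigmaDesc _
  let x₁ : Spec (CommRingCat.of L) ⟶ (Z c₀).left := x.left
  let xU : Spec (CommRingCat.of L) ⟶ ∐ fun c => (Z c).left := x₁ ≫ Sigma.ι (fun c => (Z c).left) c₀
  have hxU : xU ≫ g = ξ :=
    (Category.assoc _ _ _).trans ((congrArg (x₁ ≫ ·)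
      (Sigma.ι_desc (fun c => (Z c).hom) c₀)).trans (Over.w x))
  obtain ⟨V, y, hy, h, hh, hφ⟩ := split_integral_point f η (𝟙 _) g
    (fun x' hx' => by
      obtain ⟨c, z, hz⟩ := hZ x' hx'
      exact ⟨Sigma.ι (fun c => (Z c).left) c z,
        (congrArg (fun q : (Z c).left ⟶ X => q z) (Sigma.ι_desc (fun c => (Z c).hom) c)).trans hz⟩)
    {xU} Set.subsingleton_singleton (fun z hz => by
      obtain rfl := Set.mem_singleton_iff.1 hz
      rw [hxU, hξ, Category.id_comp])
  obtain ⟨W, hd, hc, hk⟩ := exists_pieces h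
  choose k hk using hk
  let k' : ∀ c, piece ((EtCoh.bc f).obj V) (W c) ⟶ Z c := fun c =>
    MorphismProperty.Over.homMk (k c)
      (((congrArg (k c ≫ ·) (Sigma.ι_desc (fun c => (Z c).hom) c)).symm).trans
        ((Category.assoc _ _ _).symm.trans ((congrArg (· ≫ g) (hk c)).trans
          ((Category.assoc _ _ _).trans (congrArg ((W c).ι ≫ ·) hh))))) trivial
  obtain ⟨r, hr⟩ := SetPush.exists_glue_disjoint_sh (U := (EtCoh.bc f).obj V) F W hd hc
    (fun c => F.obj.map (k' c).op (t' c))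
  let φ : (Scheme.pointSmallEtale η).fiber.obj V :=
    (Over.homMk y hy : Over.mk η ⟶ (Scheme.Etale.forget Y).obj V)
  refine ⟨SetStalk.germ η ((EtDesc.pushSh f).obj F) V φ r, ?_⟩
  rw [SetPush.cmpAt_germ]
  let ℓ : Spec (CommRingCat.of L) ⟶ pullback V.hom f := pullback.lift y ξ (hy.trans hξ.symm)
  have hℓ : ℓ ≫ h = x₁ ≫ Sigma.ι (fun c => (Z c).left) c₀ := by
    refine Eq.trans ?_ (hφ xU rfl)
    refine congrArg (· ≫ h) (pullback.hom_ext ?_ ?_)
    · rw [pullback.lift_fst, pullback.lift_fst, Category.id_comp]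
    · rw [pullback.lift_snd, pullback.lift_snd, hxU]
  have hr' : Set.range ℓ ⊆ Set.range (W c₀).ι := by
    rintro _ ⟨o, rfl⟩
    obtain ⟨b, hb⟩ := hc (ℓ o)
    rw [Scheme.Opens.range_ι]
    by_cases hab : b = c₀
    · exact hab ▸ hb
    · exfalso
      have h1 : h (ℓ o) ∈ (Sigma.ι (fun c => (Z c).left) c₀).opensRange :=
        ⟨x₁ o, (congrArg (fun q => q o) hℓ).symm⟩
      have h2 : h (ℓ o) ∈ (Sigma.ι (fun c => (Z c).left) b).opensRange :=
        ⟨k b ⟨ℓ o, hb⟩, congrArg (fun q => q ⟨ℓ o, hb⟩) (hk b)⟩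
      exact (disjoint_opensRange_sigmaι (fun c => (Z c).left) b c₀ hab).le_bot
        (show h (ℓ o) ∈ _ ⊓ _ from ⟨h2, h1⟩)
  let l := IsOpenImmersion.lift (W c₀).ι ℓ hr'
  have hl : l ≫ (W c₀).ι = ℓ := IsOpenImmersion.lift_fac _ _ _
  let z : (Scheme.pointSmallEtale ξ).fiber.obj (piece ((EtCoh.bc f).obj V) (W c₀)) :=
    (Over.homMk l (((Category.assoc _ _ _).symm.trans (congrArg (· ≫ _) hl)).trans
        (pullback.lift_snd _ _ _)) :
      Over.mk ξ ⟶ (Scheme.Etale.forget X).obj (piece ((EtCoh.bc f).obj V) (W c₀)))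
  have hz : (Scheme.pointSmallEtale ξ).fiber.map (pieceHom ((EtCoh.bc f).obj V) (W c₀)) z =
      bcPt f ξ hξ V φ := Over.OverMorphism.ext hl
  have hlk : l ≫ k c₀ = x₁ := by
    refine (cancel_mono (Sigma.ι (fun c => (Z c).left) c₀)).1 ?_
    rw [Category.assoc, hk, ← Category.assoc, hl, hℓ]
  rw [← hz, ← SetStalk.germ_res]
  refine (congrArg (SetStalk.germ ξ F _ z) (hr c₀)).trans ?_
  rw [SetStalk.germ_res]
  exact congrArg (fun w => SetStalk.germ ξ F (Z c₀) w (t' c₀)) (Over.OverMorphism.ext hlk)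

set_option backward.isDefEq.respectTransparency.types false in
/-- The comparison map at a single point is surjective if no stalk in the fibre is empty. -/
theorem surjective_cmpAt (F : EtDesc.Sh X)
    (hne : ∀ ξ : Spec (CommRingCat.of L) ⟶ X, ξ ≫ f = η → Nonempty ((SetStalk.stalkSh ξ).obj F))
    (ξ : Spec (CommRingCat.of L) ⟶ X) (hξ : ξ ≫ f = η) :
    Function.Surjective (SetPush.cmpAt f ξ hξ F) := by
  intro q
  obtain ⟨U, x, t, rfl⟩ := SetStalk.exists_germ_eq ξ F q
  have H : ∀ z : {z : X // f z = η default}, ∃ (U : X.Etale) (u : U.left) (_ : F.obj.obj (op U)),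
      U.hom u = z.1 := fun z => by
    obtain ⟨ζ, hζ, hζz⟩ := exists_point_over f η z.1 z.2
    obtain ⟨q⟩ := hne ζ hζ
    obtain ⟨U', x', t', -⟩ := SetStalk.exists_germ_eq ζ F q
    refine ⟨U', x'.left (default : Spec (CommRingCat.of L)), t', ?_⟩
    rw [← hζz]
    exact congrArg (fun k : Spec (CommRingCat.of L) ⟶ X => k default) (Over.w x')
  choose Z u t' hu using H
  exact exists_cmpAt_of_family f η F ξ hξ
    (fun c : Option {z : X // f z = η default} => c.elim U Z)
    (fun x' hx' => ⟨some ⟨x', hx'⟩, u _, hu _⟩)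
    (fun c => match c with
      | none => t
      | some z => t' z) none x

end Scheme

variable {X Y X' Y' : Scheme.{u}} (f : X ⟶ Y) (g : Y' ⟶ Y) (f' : X' ⟶ Y') (g' : X' ⟶ X)
  {L : Type u} [Field L] [IsAlgClosed L] (η' : Spec (CommRingCat.of L) ⟶ Y')

set_option backward.isDefEq.respectTransparency.types false in
/-- The locus where two elements of the stalk agree in the stalks above is open. -/
theorem exists_isOpen_cmpAt_eq (G : EtDesc.Sh X')
    (d e : (SetStalk.stalkSh η').obj ((EtDesc.pushSh f').obj G)) :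
    ∃ Z : Set (pullback f' η' : Scheme.{u}), IsOpen Z ∧
      ∀ ξ' h, fibPt f' η' ξ' h default ∈ Z ↔
        SetPush.cmpAt f' ξ' h G d = SetPush.cmpAt f' ξ' h G e := by
  obtain ⟨V, φ, s, t, rfl, rfl⟩ := SetPush.exists_germ_eq_pair η' ((EtDesc.pushSh f').obj G) d e
  let m : pullback f' η' ⟶ ((EtCoh.bc f').obj V).left :=
    pullback.lift (pullback.snd f' η' ≫ φ.left) (pullback.fst f' η')
      ((Category.assoc _ _ _).trans ((congrArg (_ ≫ ·) (Over.w φ)).trans pullback.condition.symm))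
  refine ⟨m ⁻¹' {x | DescSh.EqAt G (U := (EtCoh.bc f').obj V) s t x},
    (DescSh.isOpen_eqAt G _ _).preimage m.continuous, fun ξ' h => ?_⟩
  have hm : fibPt f' η' ξ' h ≫ m = (bcPt f' ξ' h V φ).left := by
    refine pullback.hom_ext ?_ ?_
    · refine (Category.assoc _ _ _).trans ((congrArg (_ ≫ ·) (pullback.lift_fst _ _ _)).trans ?_)
      exact (Category.assoc _ _ _).symm.trans ((congrArg (· ≫ φ.left) (pullback.lift_snd _ _ _)).trans
        ((Category.id_comp _).trans (pullback.lift_fst _ _ _).symm))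
    · exact (Category.assoc _ _ _).trans ((congrArg (_ ≫ ·) (pullback.lift_snd _ _ _)).trans
        ((pullback.lift_fst _ _ _).trans (pullback.lift_snd _ _ _).symm))
  rw [SetPush.cmpAt_germ, SetPush.cmpAt_germ]
  exact DescSh.eqAt_iff_germ G (U := (EtCoh.bc f').obj V) s t (bcPt f' ξ' h V φ)
    ((congrArg (fun k : Spec (CommRingCat.of L) ⟶ ((EtCoh.bc f').obj V).left => k default) hm).symm)

variable (F : EtDesc.Sh X)

/-- The subsets of the geometric fibre along which germs can be patched. -/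
def CanPatch (w : g' ≫ f = f' ≫ g) (C : Set (pullback f' η' : Scheme.{u})) : Prop :=
  ∀ p₁ p₂ : (SetStalk.stalkSh (η' ≫ g)).obj ((EtDesc.pushSh f).obj F),
    ∃ p, ∀ ξ' (h : ξ' ≫ f' = η'),
      (fibPt f' η' ξ' h default ∈ C →
        SetPush.cmpAt f (ξ' ≫ g') (by rw [Category.assoc, w, ← Category.assoc, h]) F p =
          SetPush.cmpAt f (ξ' ≫ g') (by rw [Category.assoc, w, ← Category.assoc, h]) F p₁) ∧
      (fibPt f' η' ξ' h default ∉ C →
        SetPush.cmpAt f (ξ' ≫ g') (by rw [Category.assoc, w, ← Category.assoc, h]) F p =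
          SetPush.cmpAt f (ξ' ≫ g') (by rw [Category.assoc, w, ← Category.assoc, h]) F p₂)

variable {f g f' g' η' F}

theorem CanPatch.inter {w : g' ≫ f = f' ≫ g} {C D : Set (pullback f' η' : Scheme.{u})}
    (hC : CanPatch f g f' g' η' F w C) (hD : CanPatch f g f' g' η' F w D) :
    CanPatch f g f' g' η' F w (C ∩ D) := fun p₁ p₂ => by
  obtain ⟨q, hq⟩ := hD p₁ p₂
  obtain ⟨p, hp⟩ := hC q p₂
  refine ⟨p, fun ξ' h => ⟨fun hm => ((hp ξ' h).1 hm.1).trans ((hq ξ' h).1 hm.2), fun hm => ?_⟩⟩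
  by_cases hc : fibPt f' η' ξ' h default ∈ C
  · exact ((hp ξ' h).1 hc).trans ((hq ξ' h).2 fun hd => hm ⟨hc, hd⟩)
  · exact (hp ξ' h).2 hc

theorem canPatch_univ {w : g' ≫ f = f' ≫ g} : CanPatch f g f' g' η' F w Set.univ :=
  fun p₁ _ => ⟨p₁, fun _ _ => ⟨fun _ => rfl, fun h => absurd trivial h⟩⟩

variable [IsIntegralHom f] [IsIntegralHom f']

set_option backward.isDefEq.respectTransparency.types false in
/-- Two points of the geometric fibre are separated by a clopen subset admitting patching. -/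
theorem exists_canPatch_separating (h : IsPullback g' f' f g)
    {x y : (pullback f' η' : Scheme.{u})} (hxy : x ≠ y) :
    ∃ C, IsClopen C ∧ CanPatch f g f' g' η' F h.w C ∧ x ∈ C ∧ y ∉ C := by
  obtain ⟨ξ₁, h₁, rfl⟩ := exists_fibPt f' η' x
  obtain ⟨ξ₂, h₂, rfl⟩ := exists_fibPt f' η' y
  have hξ : ∀ ξ' : Spec (CommRingCat.of L) ⟶ X', ξ' ≫ f' = η' → (ξ' ≫ g') ≫ f = η' ≫ g :=
    fun ξ' e => by rw [Category.assoc, h.w, ← Category.assoc, e]
  have hne : ξ₁ ≫ g' ≠ ξ₂ ≫ g' := fun hc => hxy (by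
    have : ξ₁ = ξ₂ := h.hom_ext hc (h₁.trans h₂.symm)
    subst this
    rfl)
  obtain ⟨V, φ, W, hd, hcov, hW₁, hW₂⟩ :=
    exists_separation f (η' ≫ g) (hξ ξ₁ h₁) (hξ ξ₂ h₂) hne
  let κ : pullback f' η' ⟶ ((EtCoh.bc f).obj V).left :=
    pullback.lift (pullback.snd f' η' ≫ φ.left) (pullback.fst f' η' ≫ g') (by
      refine (Category.assoc _ _ _).trans ((congrArg (_ ≫ ·) (Over.w φ)).trans ?_)
      show pullback.snd f' η' ≫ η' ≫ g = _
      rw [Category.assoc, h.w, pullback.condition_assoc])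
  have hκ : ∀ ξ' (e : ξ' ≫ f' = η'), κ (fibPt f' η' ξ' e default) =
      (bcPt f (ξ' ≫ g') (hξ ξ' e) V φ).left (default : Spec (CommRingCat.of L)) := fun ξ' e => by
    rw [← Scheme.Hom.comp_apply]
    refine congrArg (fun k : Spec (CommRingCat.of L) ⟶ ((EtCoh.bc f).obj V).left => k default)
      (pullback.hom_ext ?_ ?_)
    · exact (Category.assoc _ _ _).trans ((congrArg (_ ≫ ·) (pullback.lift_fst _ _ _)).trans
        ((Category.assoc _ _ _).symm.trans ((congrArg (· ≫ φ.left) (pullback.lift_snd _ _ _)).trans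
          ((Category.id_comp _).trans (pullback.lift_fst _ _ _).symm))))
    · exact (Category.assoc _ _ _).trans ((congrArg (_ ≫ ·) (pullback.lift_snd _ _ _)).trans
        ((Category.assoc _ _ _).symm.trans ((congrArg (· ≫ g') (pullback.lift_fst _ _ _)).trans
          (pullback.lift_snd _ _ _).symm)))
  have hnot : ∀ z, z ∉ W true ↔ z ∈ W false := fun z => by
    obtain ⟨c, hc⟩ := hcov z
    constructor
    · intro hz; cases c
      · exact hc
      · exact absurd hc hz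
    · exact fun hf ht => (hd true false (by decide)).le_bot (show z ∈ _ ⊓ _ from ⟨ht, hf⟩)
  refine ⟨κ ⁻¹' (W true : Set _), ⟨?_, (W true).isOpen.preimage κ.continuous⟩, fun p₁ p₂ => ?_,
    by rw [Set.mem_preimage, hκ]; exact hW₁, by rw [Set.mem_preimage, hκ]; exact (hnot _).2 hW₂⟩
  · rw [← isOpen_compl_iff]
    have : (κ ⁻¹' (W true : Set _))ᶜ = κ ⁻¹' (W false : Set _) := Set.ext fun z => hnot (κ z)
    rw [this]
    exact (W false).isOpen.preimage κ.continuous
  obtain ⟨q, hq⟩ := exists_glue_germs f (η' ≫ g) F V φ W hd hcov fun c => bif c then p₁ else p₂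
  refine ⟨q, fun ξ' e => ⟨fun hm => hq true _ _ ?_, fun hm => hq false _ _ ?_⟩⟩
  · rw [← hκ ξ' e]; exact hm
  · rw [← hκ ξ' e]; exact (hnot _).1 hm

variable (f g f' g')

set_option maxHeartbeats 1000000 in
set_option backward.isDefEq.respectTransparency.types false in
omit [IsIntegralHom f] [IsIntegralHom f'] [IsAlgClosed L] in
/-- The base change map on stalks. -/
theorem cmpAt_baseChange0Sh [IsSepClosed L] (w : g' ≫ f = f' ≫ g) (ξ' : Spec (CommRingCat.of L) ⟶ X')
    (G : EtDesc.Sh X) (h' : ξ' ≫ f' = η') (h : (ξ' ≫ g') ≫ f = η' ≫ g)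
    (p : (SetStalk.stalkSh (η' ≫ g)).obj ((EtDesc.pushSh f).obj G)) :
    SetPush.cmpAt f' ξ' h' ((EtDesc.pullSh g').obj G)
      ((SetStalk.stalkSh η').map (EtBC.baseChange0Sh f g f' g' w G)
        ((SetStalk.stalkPullShIso g η').inv.app ((EtDesc.pushSh f).obj G) p)) =
    (SetStalk.stalkPullShIso g' ξ').inv.app G (SetPush.cmpAt f (ξ' ≫ g') h G p) := by
  obtain ⟨V, φ, s, rfl⟩ := SetStalk.exists_germ_eq (η' ≫ g) ((EtDesc.pushSh f).obj G) p
  rw [SetPush.cmpAt_germ, SetPush.germ_stalkPullShIso_inv, SetPush.germ_stalkPullShIso_inv,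
    SetStalk.germ_naturality]
  refine (congrArg (fun q => SetPush.cmpAt f' ξ' h' ((EtDesc.pullSh g').obj G)
    (SetStalk.germ η' ((EtDesc.pushSh f').obj ((EtDesc.pullSh g').obj G)) ((EtCoh.bc g).obj V)
      (fiberBcEquiv g η' V φ) q)) (DescSh.baseChange0Sh_secUp g f g' f' w G V s)).trans ?_
  rw [SetPush.cmpAt_germ, SetStalk.germ_res]
  refine congrArg (fun z => SetStalk.germ ξ' ((EtDesc.pullSh g').obj G)
    ((EtCoh.bc g').obj ((EtCoh.bc f).obj V)) z (DescSh.secUp g' G s)) (Over.OverMorphism.ext ?_)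
  let l := pullback.lift (pullback.lift φ.left η' (Over.w φ)) ξ'
    ((pullback.lift_snd _ _ _).trans h'.symm)
  let r := pullback.lift (pullback.lift φ.left (ξ' ≫ g') ((Over.w φ).trans h.symm)) ξ'
    (pullback.lift_snd _ _ _)
  show l ≫ (DescSh.sqHom g f g' f' w V).left = r
  have ew : (DescSh.sqHom g f g' f' w V).left ≫ pullback.snd (pullback.snd V.hom f) g' =
      pullback.snd (pullback.snd V.hom g) f' := MorphismProperty.Over.w (DescSh.sqHom g f g' f' w V)
  have hs : (l ≫ (DescSh.sqHom g f g' f' w V).left) ≫ pullback.snd (pullback.snd V.hom f) g' = ξ' :=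
    (Category.assoc _ _ _).trans ((congrArg (l ≫ ·) ew).trans (pullback.lift_snd _ _ _))
  refine pullback.hom_ext ?_ (hs.trans (pullback.lift_snd _ _ _).symm)
  refine pullback.hom_ext ?_ ?_
  · refine (Category.assoc _ _ _).trans ((Category.assoc _ _ _).trans ?_)
    refine (congrArg (l ≫ ·) (DescSh.sqHom_fst g f g' f' w V)).trans ?_
    exact ((Category.assoc _ _ _).symm.trans ((congrArg (· ≫ _) (pullback.lift_fst _ _ _)).trans
      (pullback.lift_fst _ _ _))).trans
      ((congrArg (· ≫ _) (pullback.lift_fst _ _ _)).trans (pullback.lift_fst _ _ _)).symm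
  · exact (Category.assoc _ _ _).trans ((congrArg (_ ≫ ·) pullback.condition).trans
      ((Category.assoc _ _ _).symm.trans ((congrArg (· ≫ g') hs).trans
        ((congrArg (· ≫ _) (pullback.lift_fst _ _ _)).trans (pullback.lift_snd _ _ _)).symm)))

set_option maxHeartbeats 800000 in
set_option backward.isDefEq.respectTransparency.types false in
omit [IsIntegralHom f'] in
/-- Base change along integral morphisms. -/
theorem bijective_stalk_baseChange0Sh (h : IsPullback g' f' f g) (G₀ : EtDesc.Sh X) :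
    Function.Bijective ((SetStalk.stalkSh η').map (EtBC.baseChange0Sh f g f' g' h.w G₀)) := by
  classical
  haveI : IsIntegralHom f' := MorphismProperty.of_isPullback h ‹_›
  let e := (SetStalk.stalkPullShIso g η').app ((EtDesc.pushSh f).obj G₀)
  let T := (SetStalk.stalkSh η').map (EtBC.baseChange0Sh f g f' g' h.w G₀)
  have hee : ∀ q, e.inv (e.hom q) = q := fun q => congrArg (fun k => k q) e.hom_inv_id
  have hξ : ∀ ξ' : Spec (CommRingCat.of L) ⟶ X', ξ' ≫ f' = η' → (ξ' ≫ g') ≫ f = η' ≫ g :=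
    fun ξ' e => by rw [Category.assoc, h.w, ← Category.assoc, e]
  have hinv : ∀ ξ' : Spec (CommRingCat.of L) ⟶ X',
      Function.Injective ((SetStalk.stalkPullShIso g' ξ').inv.app G₀) := fun ξ' =>
    ((SetStalk.stalkPullShIso g' ξ').app G₀).toEquiv.symm.injective
  have key : ∀ (p : (SetStalk.stalkSh (η' ≫ g)).obj ((EtDesc.pushSh f).obj G₀))
      (ξ' : Spec (CommRingCat.of L) ⟶ X') (h' : ξ' ≫ f' = η'),
      SetPush.cmpAt f' ξ' h' ((EtDesc.pullSh g').obj G₀) (T (e.inv p)) =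
      (SetStalk.stalkPullShIso g' ξ').inv.app G₀ (SetPush.cmpAt f (ξ' ≫ g') (hξ ξ' h') G₀ p) :=
    fun p ξ' h' => cmpAt_baseChange0Sh f g f' g' h.w ξ' G₀ h' _ p
  constructor
  · intro q₁ q₂ hq
    have : e.hom q₁ = e.hom q₂ := SetPush.eq_of_cmpAt f (η' ≫ g) G₀ _ _ fun ξ hξ' => by
      let ξ' := h.lift ξ η' hξ'
      have h1 := key (e.hom q₁) ξ' (h.lift_snd _ _ _)
      have h2 := key (e.hom q₂) ξ' (h.lift_snd _ _ _)
      rw [hee] at h1 h2
      have h3 := hinv _ ((h1.symm.trans (congrArg _ hq)).trans h2)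
      have haux : ∀ ξ₁ (_ : ξ₁ = ξ) (h₁ : ξ₁ ≫ f = η' ≫ g),
          SetPush.cmpAt f ξ₁ h₁ G₀ (e.hom q₁) = SetPush.cmpAt f ξ₁ h₁ G₀ (e.hom q₂) →
          SetPush.cmpAt f ξ hξ' G₀ (e.hom q₁) = SetPush.cmpAt f ξ hξ' G₀ (e.hom q₂) := by
        rintro _ rfl _ h0
        exact h0
      exact haux (ξ' ≫ g') (h.lift_fst _ _ _) _ h3
    rw [← hee q₁, this, hee]
  intro r
  let G := (EtDesc.pullSh g').obj G₀
  let P := (pullback f' η' : Scheme.{u})
  let good : (SetStalk.stalkSh (η' ≫ g)).obj ((EtDesc.pushSh f).obj G₀) → P → Prop := fun p x =>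
    ∀ ξ' h', fibPt f' η' ξ' h' default = x → SetPush.cmpAt f' ξ' h' G (T (e.inv p)) = SetPush.cmpAt f' ξ' h' G r
  have hcongr : ∀ p q ξ' (h' : ξ' ≫ f' = η'),
      SetPush.cmpAt f (ξ' ≫ g') (hξ ξ' h') G₀ p = SetPush.cmpAt f (ξ' ≫ g') (hξ ξ' h') G₀ q →
      SetPush.cmpAt f' ξ' h' G (T (e.inv p)) = SetPush.cmpAt f' ξ' h' G (T (e.inv q)) := fun p q ξ' h' hpq => by
    rw [key, key, hpq]
  haveI : IsAffine P := isAffine_of_isAffineHom (pullback.snd f' η')
  haveI : CompactSpace P := inferInstance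
  -- no stalk in the fibre is empty
  have hne : ∀ ξ : Spec (CommRingCat.of L) ⟶ X, ξ ≫ f = η' ≫ g →
      Nonempty ((SetStalk.stalkSh ξ).obj G₀) := fun ξ hξ' => by
    have q := (SetStalk.stalkPullShIso g' (h.lift ξ η' hξ')).hom.app G₀
      (SetPush.cmpAt f' (h.lift ξ η' hξ') (h.lift_snd _ _ _) G r)
    rw [h.lift_fst] at q
    exact ⟨q⟩
  have hne' : Nonempty ((SetStalk.stalkSh (η' ≫ g)).obj ((EtDesc.pushSh f).obj G₀)) := by
    by_cases hx : (η' ≫ g) default ∈ Set.range f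
    · obtain ⟨x, hx⟩ := hx
      obtain ⟨ξ, hξ', -⟩ := exists_point_over f (η' ≫ g) x hx
      obtain ⟨q⟩ := hne ξ hξ'
      exact ⟨(surjective_cmpAt f (η' ≫ g) G₀ hne ξ hξ' q).choose⟩
    · exact (SetPush.unique_stalk_push f (η' ≫ g) hx G₀).1
  have hloc : ∀ x : P, ∃ (C : Set P) (p : (SetStalk.stalkSh (η' ≫ g)).obj ((EtDesc.pushSh f).obj G₀)),
      IsClopen C ∧ CanPatch f g f' g' η' G₀ h.w C ∧ x ∈ C ∧ ∀ z ∈ C, good p z := by
    intro x
    obtain ⟨ξ₀, h₀, rfl⟩ := exists_fibPt f' η' x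
    obtain ⟨p, hp⟩ := surjective_cmpAt f (η' ≫ g) G₀ hne (ξ₀ ≫ g') (hξ ξ₀ h₀)
      ((SetStalk.stalkPullShIso g' ξ₀).hom.app G₀ (SetPush.cmpAt f' ξ₀ h₀ G r))
    obtain ⟨Z, hZo, hZ⟩ := exists_isOpen_cmpAt_eq f' η' G (T (e.inv p)) r
    have hx : fibPt f' η' ξ₀ h₀ default ∈ Z := (hZ ξ₀ h₀).2 (by
      rw [key, hp]
      exact ((SetStalk.stalkPullShIso g' ξ₀).app G₀).toEquiv.symm_apply_apply _)
    choose C hC hCp hxC hyC using fun y : (Zᶜ : Set P) =>
      exists_canPatch_separating (F := G₀) h (fun hc : fibPt f' η' ξ₀ h₀ default = y.1 =>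
        y.2 (hc ▸ hx))
    obtain ⟨t, ht⟩ := hZo.isClosed_compl.isCompact.elim_finite_subcover (fun y => (C y)ᶜ)
      (fun y => (hC y).compl.isOpen) (fun y hy => Set.mem_iUnion.2 ⟨⟨y, hy⟩, hyC ⟨y, hy⟩⟩)
    refine ⟨⋂ y ∈ t, C y, p, isClopen_biInter_finset fun y _ => hC y, ?_,
      Set.mem_iInter₂.2 fun y _ => hxC y, fun z hz ξ' h' hz' => ?_⟩
    · clear ht
      induction t using Finset.induction with
      | empty => simpa using canPatch_univ
      | insert a t ha ih => rw [Finset.set_biInter_insert]; exact (hCp a).inter ih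
    · have hzZ : z ∈ Z := by
        by_contra hn
        obtain ⟨y, hy, hzy⟩ := Set.mem_iUnion₂.1 (ht hn)
        exact hzy (Set.mem_iInter₂.1 hz y hy)
      exact (hZ ξ' h').1 (hz'.symm ▸ hzZ)
  choose C p hC hCp hxC hgood using hloc
  obtain ⟨t, ht⟩ := isCompact_univ.elim_finite_subcover C (fun x => (hC x).isOpen)
    fun x _ => Set.mem_iUnion.2 ⟨x, hxC x⟩
  suffices ∀ t : Finset P, ∃ q, ∀ z ∈ ⋃ x ∈ t, C x, good q z by
    obtain ⟨q, hq⟩ := this t
    exact ⟨e.inv q, SetPush.eq_of_cmpAt f' η' G _ _ fun ξ' h' => hq _ (ht trivial) ξ' h' rfl⟩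
  intro t
  induction t using Finset.induction with
  | empty => exact ⟨hne'.some, fun z hz => absurd hz (by simp)⟩
  | insert a t ha ih =>
    obtain ⟨q, hq⟩ := ih
    obtain ⟨q', hq'⟩ := hCp a (p a) q
    refine ⟨q', fun z hz ξ' h' hz' => ?_⟩
    by_cases hza : z ∈ C a
    · exact (hcongr _ _ ξ' h' ((hq' ξ' h').1 (hz'.symm ▸ hza))).trans (hgood a z hza ξ' h' hz')
    · refine (hcongr _ _ ξ' h' ((hq' ξ' h').2 (hz'.symm ▸ hza))).trans (hq z ?_ ξ' h' hz')
      rw [Finset.set_biUnion_insert] at hz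
      exact hz.resolve_left hza

set_option backward.isDefEq.respectTransparency.types false in
omit [IsIntegralHom f'] [IsAlgClosed L] in
/-- Base change of sheaves of sets along integral morphisms. -/
theorem isIso_baseChange0Sh_integral (h : IsPullback g' f' f g) (G₀ : EtDesc.Sh X) :
    IsIso (EtBC.baseChange0Sh f g f' g' h.w G₀) := by
  refine SetStalk.isIso_of_stalk _ fun Ω _ _ η₀ => ?_
  let K := AlgebraicClosure Ω
  let σ : Spec (CommRingCat.of K) ⟶ Spec (CommRingCat.of Ω) :=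
    Spec.map (CommRingCat.ofHom (algebraMap Ω K))
  rw [← ConcreteCategory.isIso_iff_bijective]
  refine (NatIso.isIso_map_iff (sheafFiberIsoOfPointIso (A := Type (u + 1)) (pointExtIso σ η₀)) _).2 ?_
  haveI : IsIntegralHom f' := MorphismProperty.of_isPullback h ‹_›
  exact (ConcreteCategory.isIso_iff_bijective _).2
    (bijective_stalk_baseChange0Sh f g f' g' (η' := σ ≫ η₀) h G₀)

end Groth.Agent.EtaleSite.SetIntBC
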