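import Groth.Prelude.Def_EtOpen
import Groth.Prelude.Def_EtFppf
import Groth.Agent.BigBC.SmallBig
import Mathlib.AlgebraicGeometry.Sites.Proetale
import Mathlib.CategoryTheory.Sites.SubcanonicalOver

/-!
# The sheaves of sets `h_U` on the small étale site
-/

set_option autoImplicit false
set_option backward.isDefEq.respectTransparency.types false

universe u

open CategoryTheory CategoryTheory.Limits AlgebraicGeometry Opposite

namespace Groth.Agent.EtaleSite.RepSh

variable {X : Scheme.{u}}

/-- The étale topology is subcanonical. -/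
instance subcanonical_etale : (Scheme.etalePrecoverage.{u}).toGrothendieck.Subcanonical :=
  .of_le ((Precoverage.toGrothendieck_mono Scheme.etalePrecoverage_le_proetalePrecoverage).trans
    (Precoverage.toGrothendieck_mono Scheme.proetalePrecoverage_le_fpqcPrecoverage))

/-- `h_U` as a presheaf is a sheaf. -/
theorem isSheaf_yoneda (U : X.Etale) :
    Presheaf.IsSheaf X.smallEtaleTopology (yoneda.obj U ⋙ uliftFunctor.{u + 1, u}) := by
  have h := (EtFppf.a X).op_comp_isSheaf X.smallEtaleTopology (QuotSh.J Scheme.etalePrecoverage X)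
    ((QuotSh.J Scheme.etalePrecoverage X).uliftYoneda.{u + 1}.obj ((EtFppf.a X).obj U))
  refine (Presheaf.isSheaf_of_iso_iff ?_).2 h
  exact NatIso.ofComponents (fun V => (Equiv.ulift.trans
    ((Functor.FullyFaithful.ofFullyFaithful (MorphismProperty.Over.forget @Etale ⊤ X)).homEquiv.trans Equiv.ulift.symm)).toIso) (by
      intro V W f
      ext x
      apply ULift.ext
      exact (EtFppf.a X).map_comp f.unop x.down)

/-- The sheaf `h_U` is the representable presheaf. -/
noncomputable def iso (U : X.Etale) :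
    EtDesc.repSh U ≅ ⟨yoneda.obj U ⋙ uliftFunctor.{u + 1, u}, isSheaf_yoneda U⟩ :=
  (sheafificationIso (⟨_, isSheaf_yoneda U⟩ : EtDesc.Sh X)).symm

/-- Maps out of `h_U` are sections over `U`. -/
noncomputable def homEquiv (U : X.Etale) (F : EtDesc.Sh X) :
    (EtDesc.repSh U ⟶ F) ≃ F.obj.obj (op U) :=
  ((sheafificationAdjunction X.smallEtaleTopology (Type (u + 1))).homEquiv
    (yoneda.obj U ⋙ uliftFunctor.{u + 1, u}) F).trans uliftYonedaEquiv

/-- Sections of `h_U` over `V` are maps `V ⟶ U`. -/
noncomputable def sectEquiv (U V : X.Etale) : (EtDesc.repSh U).obj.obj (op V) ≃ (V ⟶ U) :=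
  ((sheafToPresheaf _ _).mapIso (iso U) |>.app (op V)).toEquiv.trans Equiv.ulift

theorem sectEquiv_map (U : X.Etale) {V W : X.Etale} (g : W ⟶ V)
    (s : (EtDesc.repSh U).obj.obj (op V)) :
    sectEquiv U W ((EtDesc.repSh U).obj.map g.op s) = g ≫ sectEquiv U V s :=
  congrArg ULift.down (NatTrans.naturality_apply (iso U).hom.hom g.op s)

end Groth.Agent.EtaleSite.RepSh
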