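import Groth.Agent.EtaleSite.OpenImm
import Groth.Agent.EtaleSite.RepSh
import Groth.Agent.EtaleSite.Covers

/-!
# Sheaves of sets and open subschemes
-/

set_option autoImplicit false
set_option linter.style.haveILetI false
set_option backward.isDefEq.respectTransparency.types false

universe u

open CategoryTheory CategoryTheory.Limits AlgebraicGeometry Opposite

namespace Groth.Agent.EtaleSite.OpenSh

variable {U X : Scheme.{u}} (j : U ⟶ X) [Etale j]

/-- Restriction of sheaves of sets along an étale morphism. -/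
noncomputable abbrev restr : EtDesc.Sh X ⥤ EtDesc.Sh U :=
  (EtShriek.compEtale j).sheafPushforwardContinuous (Type (u + 1)) U.smallEtaleTopology
    X.smallEtaleTopology

/-- Restriction along an étale `j` is left adjoint to `j_*`. -/
noncomputable def restrPushAdj : restr j ⊣ EtDesc.pushSh j :=
  (compEtaleBcAdj j).sheafPushforwardContinuous U.smallEtaleTopology X.smallEtaleTopology

/-- Inverse image of sheaves of sets along an étale morphism is restriction. -/
noncomputable def pullShIsoRestr : EtDesc.pullSh j ≅ restr j :=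
  (EtDesc.adjSh j).leftAdjointUniq (restrPushAdj j)

instance isIso_counit [Mono j] : IsIso (restrPushAdj j).counit := by
  have : ∀ F, IsIso ((restrPushAdj j).counit.app F) := fun F => by
    have : ∀ V, IsIso (((restrPushAdj j).counit.app F).hom.app V) := fun V => by
      change IsIso (F.obj.map ((compEtaleBcAdj j).unit.app V.unop).op)
      infer_instance
    have : IsIso ((sheafToPresheaf U.smallEtaleTopology (Type (u + 1))).map
        ((restrPushAdj j).counit.app F)) :=
      @NatIso.isIso_of_isIso_app _ _ _ _ _ _ ((restrPushAdj j).counit.app F).hom this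
    exact isIso_of_fully_faithful (f := (restrPushAdj j).counit.app F)
      (sheafToPresheaf U.smallEtaleTopology (Type (u + 1)))
  exact NatIso.isIso_of_isIso_app _

section Opens

variable {X : Scheme.{u}} (U : X.Opens)

theorem subsingleton_hom (V : X.Etale) : Subsingleton (V ⟶ EtDesc.ofOpen U) :=
  ⟨fun a b => MorphismProperty.Over.Hom.ext ((cancel_mono U.ι).1
    ((MorphismProperty.Over.w a).trans (MorphismProperty.Over.w b).symm))⟩

theorem nonempty_hom_iff (V : X.Etale) :
    Nonempty (V ⟶ EtDesc.ofOpen U) ↔ Set.range V.hom ⊆ (U : Set X) := by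
  constructor
  · rintro ⟨a⟩ _ ⟨v, rfl⟩
    have : a.left ≫ U.ι = V.hom := MorphismProperty.Over.w a
    rw [← this, Scheme.Hom.comp_apply]
    exact Subtype.coe_prop _
  · intro h
    have h' : Set.range V.hom ⊆ Set.range U.ι := by rw [Scheme.Opens.range_ι]; exact h
    let l : V.left ⟶ (U : Scheme.{u}) := IsOpenImmersion.lift U.ι V.hom h'
    exact ⟨MorphismProperty.Over.homMk l (IsOpenImmersion.lift_fac _ _ h')⟩

theorem subsingleton_sect_repSh (V : X.Etale) :
    Subsingleton ((EtDesc.repSh (EtDesc.ofOpen U)).obj.obj (op V)) :=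
  have := subsingleton_hom U V
  (RepSh.sectEquiv (EtDesc.ofOpen U) V).subsingleton

theorem nonempty_sect_repSh_iff (V : X.Etale) :
    Nonempty ((EtDesc.repSh (EtDesc.ofOpen U)).obj.obj (op V)) ↔ Set.range V.hom ⊆ (U : Set X) :=
  (RepSh.sectEquiv (EtDesc.ofOpen U) V).nonempty_congr.trans (nonempty_hom_iff U V)

theorem nonempty_repSh_hom_iff (V : X.Opens) :
    Nonempty (EtDesc.repSh (EtDesc.ofOpen U) ⟶ EtDesc.repSh (EtDesc.ofOpen V)) ↔ U ≤ V := by
  rw [(RepSh.homEquiv _ _).nonempty_congr, nonempty_sect_repSh_iff,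
    show Set.range (EtDesc.ofOpen U).hom = (U : Set X) from Scheme.Opens.range_ι U]
  rfl

theorem mono_terminal_repSh : Mono (terminal.from (EtDesc.repSh (EtDesc.ofOpen U))) :=
  ⟨fun a b _ => by
    ext V x
    exact (subsingleton_sect_repSh U V.unop).elim _ _⟩

theorem subsingleton_sect_of_mono {F : EtDesc.Sh X} (hF : Mono (terminal.from F)) (V : X.Etale) :
    Subsingleton (F.obj.obj (op V)) :=
  ⟨fun s t => (RepSh.homEquiv V F).symm.injective
    ((cancel_mono (terminal.from F)).1 (terminal.hom_ext _ _))⟩

theorem isIso_of_sect {F G : EtDesc.Sh X} (a : F ⟶ G)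
    (h : ∀ V : X.Etale, Function.Bijective (a.hom.app (op V))) : IsIso a := by
  have : ∀ V, IsIso (a.hom.app V) := fun V => (ConcreteCategory.isIso_iff_bijective _).2 (h V.unop)
  have : IsIso ((sheafToPresheaf X.smallEtaleTopology (Type (u + 1))).map a) :=
    @NatIso.isIso_of_isIso_app _ _ _ _ _ _ a.hom this
  exact isIso_of_fully_faithful (f := a) (sheafToPresheaf X.smallEtaleTopology (Type (u + 1)))

/-- Every subterminal sheaf is attached to an open. -/
theorem exists_iso_repSh (F : EtDesc.Sh X) (hF : Mono (terminal.from F)) :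
    ∃ U : X.Opens, Nonempty (F ≅ EtDesc.repSh (EtDesc.ofOpen U)) := by
  let S : Set X := ⋃ (V : X.Etale) (_ : Nonempty (F.obj.obj (op V))), Set.range V.hom
  have hS : IsOpen S := isOpen_iUnion fun V => isOpen_iUnion fun _ => by
    haveI : Etale V.hom := V.prop
    exact V.hom.isOpenMap.isOpen_range
  let U : X.Opens := ⟨S, hS⟩
  have hsub := subsingleton_sect_of_mono hF
  have hle : ∀ V : X.Etale, F.obj.obj (op V) → Set.range V.hom ⊆ (U : Set X) := fun V s x hx =>
    Set.mem_iUnion.2 ⟨V, Set.mem_iUnion.2 ⟨⟨s⟩, hx⟩⟩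
  have hsec : ∀ V : X.Etale, Set.range V.hom ⊆ (U : Set X) → Nonempty (F.obj.obj (op V)) := by
    intro V hV
    let R : Sieve V :=
      { arrows := fun W _ => Nonempty (F.obj.obj (op W))
        downward_closed := fun {W W' _} h g => h.map (F.obj.map g.op) }
    have hR : R ∈ X.smallEtaleTopology V := by
      refine mem_topology_of_forall_geomPoint _ fun Ω _ _ ξ x => ?_
      have : V.hom (x.left (default : Spec (CommRingCat.of Ω))) ∈ S := hV ⟨_, rfl⟩
      obtain ⟨W, hW, w, hw⟩ := by simpa only [S, Set.mem_iUnion] using this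
      obtain ⟨s⟩ := hW
      haveI : Etale W.hom := W.prop
      obtain ⟨l, h₁, -⟩ := Scheme.exists_fac_of_etale_of_isSepClosed W.hom (x.left ≫ V.hom) w hw
      let y : (Scheme.pointSmallEtale ξ).fiber.obj W := (Over.homMk l (h₁.trans (Over.w x)) :
        Over.mk ξ ⟶ (Scheme.Etale.forget X).obj W)
      obtain ⟨z, ⟨p₁, hp₁⟩, ⟨p₂, hp₂⟩, -⟩ :=
        IsCofilteredOrEmpty.cone_objs ((Scheme.pointSmallEtale ξ).fiber.elementsMk _ x)
          ((Scheme.pointSmallEtale ξ).fiber.elementsMk _ y)
      exact ⟨z.1, p₁, z.2, ⟨F.obj.map p₂.op s⟩, hp₁⟩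
    have hsh := (isSheaf_iff_isSheaf_of_type _ F.obj).1 F.property R hR
    let x : Presieve.FamilyOfElements F.obj R.arrows := fun W g hg => Classical.choice hg
    exact ⟨hsh.amalgamate x fun _ _ _ _ _ _ _ _ _ _ => (hsub _).elim _ _⟩
  let φ : EtDesc.repSh (EtDesc.ofOpen U) ⟶ F := (RepSh.homEquiv _ F).symm
    (hsec _ (by rw [show Set.range (EtDesc.ofOpen U).hom = (U : Set X) from Scheme.Opens.range_ι U])).some
  have : IsIso φ := isIso_of_sect φ fun V =>
    ⟨fun a b _ => (subsingleton_sect_repSh U V).elim a b, fun s =>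
      ⟨((nonempty_sect_repSh_iff U V).2 (hle V s)).some, (hsub V).elim _ _⟩⟩
  exact ⟨U, ⟨(asIso φ).symm⟩⟩

/-- Sheaves over the subterminal sheaf of an open are sheaves on the open. -/
theorem isEquivalence_restrOver :
    (Over.forget (EtDesc.repSh (EtDesc.ofOpen U)) ⋙ restr U.ι).IsEquivalence := by
  let T := EtDesc.repSh (EtDesc.ofOpen U)
  let L := Over.forget T ⋙ restr U.ι
  let R := EtDesc.pushSh U.ι ⋙ Over.star T
  let adj : L ⊣ R := (Over.forgetAdjStar T).comp (restrPushAdj U.ι)
  -- the left adjoint reflects isomorphisms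
  have hL : ∀ {A B : Over T} (a : A ⟶ B), IsIso (L.map a) → IsIso a := by
    intro A B a ha
    have : IsIso a.left := by
      refine isIso_of_sect _ fun V => ?_
      by_cases h : Set.range V.hom ⊆ (U : Set X)
      · obtain ⟨g⟩ := (nonempty_hom_iff U V).2 h
        haveI : Etale V.hom := V.prop
        haveI : Etale (g.left ≫ U.ι) := by
          rw [show g.left ≫ U.ι = V.hom from MorphismProperty.Over.w g]; exact V.prop
        let gl : V.left ⟶ (U : Scheme.{u}) := g.left
        haveI : Etale (gl ≫ U.ι) := ‹_›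
        haveI : Etale gl := Etale.of_comp gl U.ι
        let W : (U : Scheme.{u}).Etale := MorphismProperty.Over.mk ⊤ gl ‹_›
        let e : (EtShriek.compEtale U.ι).obj W ≅ V :=
          MorphismProperty.Over.isoMk (Iso.refl _) ((Category.id_comp _).trans
            (MorphismProperty.Over.w g).symm)
        have hb : IsIso (a.left.hom.app (op ((EtShriek.compEtale U.ι).obj W))) :=
          inferInstanceAs (IsIso (((sheafToPresheaf _ _).map (L.map a)).app (op W)))
        have : IsIso (a.left.hom.app (op V)) :=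
          (NatTrans.isIso_app_iff_of_iso a.left.hom e.op.symm).1 hb
        exact (ConcreteCategory.isIso_iff_bijective _).1 this
      · have hA : IsEmpty (A.left.obj.obj (op V)) :=
          ⟨fun s => h ((nonempty_sect_repSh_iff U V).1 ⟨A.hom.hom.app (op V) s⟩)⟩
        have hB : IsEmpty (B.left.obj.obj (op V)) :=
          ⟨fun s => h ((nonempty_sect_repSh_iff U V).1 ⟨B.hom.hom.app (op V) s⟩)⟩
        exact ⟨fun s => isEmptyElim s, fun s => isEmptyElim s⟩
    have : IsIso ((Over.forget T).map a) := this
    exact isIso_of_reflects_iso a (Over.forget T)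
  -- the counit is an isomorphism
  have hc : ∀ G, IsIso (adj.counit.app G) := by
    intro G
    rw [Adjunction.comp_counit_app]
    haveI : IsIso ((restr U.ι).map ((Over.forgetAdjStar T).counit.app ((EtDesc.pushSh U.ι).obj G))) := by
      have hb : ∀ W : (U : Scheme.{u}).Etale, Function.Bijective
          (((restr U.ι).map ((Over.forgetAdjStar T).counit.app ((EtDesc.pushSh U.ι).obj G))).hom.app (op W)) := by
        intro W
        let V := (EtShriek.compEtale U.ι).obj W
        have hV : Nonempty (T.obj.obj (op V)) := (nonempty_sect_repSh_iff U V).2 (by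
          rintro _ ⟨w, rfl⟩
          exact Subtype.coe_prop (W.hom w))
        have hTs := subsingleton_sect_repSh U V
        let H := (EtDesc.pushSh U.ι).obj G
        change Function.Bijective (((prod.snd : T ⨯ H ⟶ H)).hom.app (op V))
        let ev := sheafToPresheaf X.smallEtaleTopology (Type (u + 1)) ⋙
          (evaluation X.Etaleᵒᵖ (Type (u + 1))).obj (op V)
        haveI : HasBinaryProduct (ev.obj T) (ev.obj H) := inferInstance
        let e : ev.obj (T ⨯ H) ≅ _ := PreservesLimitPair.iso ev T H ≪≫
          Types.binaryProductIso (ev.obj T) (ev.obj H)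
        have key : ev.map (prod.snd : T ⨯ H ⟶ H) = e.hom ≫ TypeCat.ofHom _root_.Prod.snd := by
          simp [e]
        change Function.Bijective (ev.map (prod.snd : T ⨯ H ⟶ H))
        rw [key]
        have hsnd : Function.Bijective (_root_.Prod.snd : ev.obj T × ev.obj H → ev.obj H) :=
          ⟨fun p q hpq => _root_.Prod.ext (hTs.elim _ _) hpq, fun h => ⟨(hV.some, h), rfl⟩⟩
        exact hsnd.comp e.toEquiv.bijective
      exact isIso_of_sect _ hb
    change IsIso (_ ≫ _)
    infer_instance
  haveI : IsIso adj.counit := NatIso.isIso_of_isIso_app _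
  haveI : IsIso adj.unit := by
    have : ∀ A, IsIso (adj.unit.app A) := fun A => hL _ (by
      have := adj.left_triangle_components A
      exact IsIso.of_isIso_fac_right (show _ ≫ _ = 𝟙 _ from this))
    exact NatIso.isIso_of_isIso_app _
  exact adj.toEquivalence.isEquivalence_functor

theorem isEquivalence_pullOver :
    (Over.forget (EtDesc.repSh (EtDesc.ofOpen U)) ⋙ EtDesc.pullSh U.ι).IsEquivalence :=
  haveI := isEquivalence_restrOver U
  Functor.isEquivalence_of_iso (Functor.isoWhiskerLeft _ (pullShIsoRestr U.ι).symm)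

end Opens

end Groth.Agent.EtaleSite.OpenSh
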