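import Groth.Agent.EtaleSite.SetStalk
import Groth.Agent.EtaleSite.Covers
import Groth.Agent.EtaleSite.PushStalk

/-!
# Stalks of direct images of sheaves of sets
-/

set_option linter.style.haveILetI false

universe u

open CategoryTheory CategoryTheory.Limits AlgebraicGeometry Opposite

namespace Groth.Agent.EtaleSite.SetPush

open SetStalk (stalkSh stalkPullShIso)

variable {X Y : Scheme.{u}} (f : X ⟶ Y) {Ω : Type u} [Field Ω] [IsSepClosed Ω]
  (ξ : Spec (CommRingCat.of Ω) ⟶ X)

set_option backward.isDefEq.respectTransparency.types false in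
/-- The inverse of `stalkPullShIso` on germs. -/
theorem germ_stalkPullShIso_inv (G : EtDesc.Sh Y) (V : Y.Etale)
    (φ : (Scheme.pointSmallEtale (ξ ≫ f)).fiber.obj V) (s : G.obj.obj (op V)) :
    (stalkPullShIso f ξ).inv.app G (SetStalk.germ (ξ ≫ f) G V φ s) =
      SetStalk.germ ξ ((EtDesc.pullSh f).obj G) ((EtCoh.bc f).obj V) (fiberBcEquiv f ξ V φ)
        (((EtDesc.adjSh f).unit.app G).hom.app (op V) s) := by
  let Φ := Scheme.pointSmallEtale ξ
  let Φ' := Φ.comap (EtCoh.bc f) (EtCoh.coverPreserving_bc f)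
  let A := Type (u + 1)
  have : (EtDesc.pushSh f).IsRightAdjoint := (EtDesc.adjSh f).isRightAdjoint
  let θ := (Φ.sheafFiberComapIso (EtCoh.bc f) (EtCoh.coverPreserving_bc f) A).hom.app G
  have key := congrArg (fun k => k.hom.app (op V) ≫
      Pi.π (fun _ : Φ'.fiber.obj V => Φ.sheafFiber.obj ((EtDesc.pullSh f).obj G))
        (fiberBcEquiv f ξ V φ))
    (unit_conjugateEquiv_symm ((EtDesc.adjSh f).comp Φ.skyscraperSheafAdjunction)
      Φ'.skyscraperSheafAdjunction
      (Φ.skyscraperSheafFunctorCompSheafPushforwardContinuous (EtCoh.bc f)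
        (EtCoh.coverPreserving_bc f) A).hom G)
  have hθ : Φ'.toPresheafFiber V (fiberBcEquiv f ξ V φ) G.obj ≫ θ =
      ((EtDesc.adjSh f).unit.app G).hom.app (op V) ≫
        SetStalk.germ ξ ((EtDesc.pullSh f).obj G) ((EtCoh.bc f).obj V) (fiberBcEquiv f ξ V φ) := by
    have h1 : (Φ'.skyscraperSheafAdjunction.homEquiv G _ θ).hom.app (op V) ≫
        Pi.π (fun _ : Φ'.fiber.obj V => Φ.sheafFiber.obj ((EtDesc.pullSh f).obj G))
          (fiberBcEquiv f ξ V φ) = Φ'.toPresheafFiber V (fiberBcEquiv f ξ V φ) G.obj ≫ θ := by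
      exact skyscraper_homEquiv_π Φ' G _ θ V _
    refine h1.symm.trans ?_
    rw [Adjunction.homEquiv_unit]
    refine key.symm.trans ?_
    rw [Adjunction.comp_unit_app]
    have h2 : (Φ.skyscraperSheafAdjunction.unit.app ((EtDesc.pullSh f).obj G)).hom.app
          (op ((EtCoh.bc f).obj V)) ≫
        Pi.π (fun _ : Φ.fiber.obj ((EtCoh.bc f).obj V) => Φ.sheafFiber.obj ((EtDesc.pullSh f).obj G))
          (fiberBcEquiv f ξ V φ) =
        SetStalk.germ ξ ((EtDesc.pullSh f).obj G) ((EtCoh.bc f).obj V) (fiberBcEquiv f ξ V φ) := by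
      rw [← Adjunction.homEquiv_id]
      exact (skyscraper_homEquiv_π Φ _ _ _ _ _).trans (Category.comp_id _)
    rw [← h2]
    simp only [Category.assoc]
    rfl
  have h3 : SetStalk.germ (ξ ≫ f) G V φ ≫ (sheafFiberIsoOfPointIso (A := A) (pointBcIso f ξ)).hom.app G =
      Φ'.toPresheafFiber V (fiberBcEquiv f ξ V φ) G.obj :=
    toPresheafFiber_sheafFiber (pointBcIso f ξ).hom G V φ
  have h4 : (stalkPullShIso f ξ).inv.app G =
      (sheafFiberIsoOfPointIso (A := A) (pointBcIso f ξ)).hom.app G ≫ θ := rfl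
  have := ((reassoc_of% h3) θ).trans hθ
  rw [h4]
  exact congrArg (fun k => k s) this

/-- The comparison map `(f_*F)_{f∘ξ} ⟶ F_ξ`. -/
noncomputable def cmp (F : EtDesc.Sh X) :
    (stalkSh (ξ ≫ f)).obj ((EtDesc.pushSh f).obj F) ⟶ (stalkSh ξ).obj F :=
  (stalkPullShIso f ξ).inv.app ((EtDesc.pushSh f).obj F) ≫
    (stalkSh ξ).map ((EtDesc.adjSh f).counit.app F)

set_option backward.isDefEq.respectTransparency.types false in
theorem cmp_germ (F : EtDesc.Sh X) (V : Y.Etale)
    (φ : (Scheme.pointSmallEtale (ξ ≫ f)).fiber.obj V) (s : ((EtDesc.pushSh f).obj F).obj.obj (op V)) :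
    cmp f ξ F (SetStalk.germ (ξ ≫ f) ((EtDesc.pushSh f).obj F) V φ s) =
      SetStalk.germ ξ F ((EtCoh.bc f).obj V) (fiberBcEquiv f ξ V φ) s := by
  rw [cmp, ConcreteCategory.comp_apply, germ_stalkPullShIso_inv, SetStalk.germ_naturality]
  refine congrArg (SetStalk.germ ξ F _ _) ?_
  exact congrArg (fun k => k.hom.app (op V) s) ((EtDesc.adjSh f).right_triangle_components F)

/-- The counit is an isomorphism as soon as all comparison maps are bijective. -/
theorem isIso_counit_of_cmp (F : EtDesc.Sh X)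
    (h : ∀ (Ω : Type u) [Field Ω] [IsSepClosed Ω] (ξ : Spec (CommRingCat.of Ω) ⟶ X),
      Function.Bijective (cmp f ξ F)) : IsIso ((EtDesc.adjSh f).counit.app F) := by
  refine SetStalk.isIso_of_stalk _ fun Ω _ _ ξ => (ConcreteCategory.isIso_iff_bijective _).1 ?_
  have : IsIso (cmp f ξ F) := (ConcreteCategory.isIso_iff_bijective _).2 (h Ω ξ)
  exact IsIso.of_isIso_fac_left (show _ ≫ _ = cmp f ξ F from rfl)

set_option backward.isDefEq.respectTransparency.types false in
/-- Two sections of a direct image along a universally closed morphism agree near a point as soon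
as they agree near every point above it. -/
theorem exists_nbhd_eq [UniversallyClosed f] {F : EtDesc.Sh X} {V : Y.Etale}
    (s t : F.obj.obj (op ((EtCoh.bc f).obj V))) (v : V.left)
    (h : ∀ x : ↥(pullback V.hom f), pullback.fst V.hom f x = v →
      ∃ (W : X.Etale) (g : W ⟶ (EtCoh.bc f).obj V) (w : W.left),
        g.left w = x ∧ F.obj.map g.op s = F.obj.map g.op t) :
    ∃ (V' : Y.Etale) (e : V' ⟶ V) (v' : V'.left),
      e.left v' = v ∧
        F.obj.map ((EtCoh.bc f).map e).op s = F.obj.map ((EtCoh.bc f).map e).op t := by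
  let P := (EtCoh.bc f).obj V
  let Z : Set P.left := ⋃ (W : X.Etale) (g : W ⟶ P) (_ : F.obj.map g.op s = F.obj.map g.op t),
    Set.range g.left
  have hopen : IsOpen Z := by
    refine isOpen_iUnion fun W => isOpen_iUnion fun g => isOpen_iUnion fun _ => ?_
    haveI : Etale P.hom := P.prop
    haveI : Etale (g.left ≫ P.hom) := by rw [MorphismProperty.Over.w g]; exact W.prop
    haveI : Etale g.left := Etale.of_comp g.left P.hom
    exact g.left.isOpenMap.isOpen_range
  let q : P.left ⟶ V.left := pullback.fst V.hom f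
  let O : V.left.Opens := ⟨(q '' Zᶜ)ᶜ,
    ((pullback.fst V.hom f).isClosedMap _ hopen.isClosed_compl).isOpen_compl⟩
  have hv : v ∈ O := by
    rintro ⟨x, hx, hxv⟩
    obtain ⟨W, g, w, hw, he⟩ := h x hxv
    exact hx (Set.mem_iUnion.2 ⟨W, Set.mem_iUnion.2 ⟨g, Set.mem_iUnion.2 ⟨he, w, hw⟩⟩⟩)
  refine ⟨piece V O, pieceHom V O, (⟨v, hv⟩ : O), rfl, ?_⟩
  let r : (EtCoh.bc f).obj (piece V O) ⟶ P := (EtCoh.bc f).map (pieceHom V O)
  let ZO : P.left.Opens := ⟨Z, hopen⟩
  have hr : Set.range r.left ⊆ Set.range ZO.ι := by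
    rw [Scheme.Opens.range_ι]
    rintro _ ⟨z, rfl⟩
    by_contra hz
    have e := congrArg (fun k => k z) (EtCoh.isPullback_bc_map f (pieceHom V O)).w
    exact ((pullback.fst (piece V O).hom f : ((EtCoh.bc f).obj (piece V O)).left ⟶ O) z).2
      ⟨r.left z, hz, e⟩
  let r' := IsOpenImmersion.lift ZO.ι r.left hr
  have hr' : r' ≫ ZO.ι = r.left := IsOpenImmersion.lift_fac _ _ _
  let r'' : (EtCoh.bc f).obj (piece V O) ⟶ piece P ZO := MorphismProperty.Over.homMk r' (by
    show r' ≫ ZO.ι ≫ P.hom = _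
    rw [reassoc_of% hr']
    exact MorphismProperty.Over.w r) trivial
  have heq : F.obj.map (pieceHom P ZO).op s = F.obj.map (pieceHom P ZO).op t := by
    have hS : Presheaf.equalizerSieve (F := F.obj) (F.obj.map (pieceHom P ZO).op s)
        (F.obj.map (pieceHom P ZO).op t) ∈ X.smallEtaleTopology _ := by
      refine mem_topology_of_forall_exists _ fun z => ?_
      obtain ⟨W, hW⟩ := Set.mem_iUnion.1 z.2
      obtain ⟨g, hg⟩ := Set.mem_iUnion.1 hW
      obtain ⟨he, w, hw⟩ := Set.mem_iUnion.1 hg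
      have hgZ : Set.range g.left ⊆ Set.range ZO.ι := by
        rw [Scheme.Opens.range_ι]
        rintro _ ⟨w', rfl⟩
        exact Set.mem_iUnion.2 ⟨W, Set.mem_iUnion.2 ⟨g, Set.mem_iUnion.2 ⟨he, w', rfl⟩⟩⟩
      let g₁ : W.left ⟶ (ZO : Scheme.{u}) := IsOpenImmersion.lift ZO.ι g.left hgZ
      have hg₁ : g₁ ≫ ZO.ι = g.left := IsOpenImmersion.lift_fac _ _ _
      let g₂ : W ⟶ piece P ZO := MorphismProperty.Over.homMk g₁ (by
        show g₁ ≫ ZO.ι ≫ P.hom = _
        rw [reassoc_of% hg₁]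
        exact MorphismProperty.Over.w g) trivial
      refine ⟨W, g₂, w, ?_, ZO.ι.isOpenEmbedding.injective ?_⟩
      · show F.obj.map g₂.op (F.obj.map (pieceHom P ZO).op s) =
          F.obj.map g₂.op (F.obj.map (pieceHom P ZO).op t)
        rw [← ConcreteCategory.comp_apply, ← ConcreteCategory.comp_apply, ← Functor.map_comp,
          ← op_comp, show g₂ ≫ pieceHom P ZO = g from MorphismProperty.Over.Hom.ext hg₁]
        exact he
      · show ZO.ι (g₁ w) = ZO.ι z
        rw [← Scheme.Hom.comp_apply, hg₁]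
        exact hw
    exact (((isSheaf_iff_isSheaf_of_type _ _).1 F.property).isSeparated _ hS).ext fun W g hg => hg
  show F.obj.map r.op s = F.obj.map r.op t
  rw [← show r'' ≫ pieceHom P ZO = r from MorphismProperty.Over.Hom.ext hr', op_comp,
    Functor.map_comp, ConcreteCategory.comp_apply, ConcreteCategory.comp_apply, heq]

end Groth.Agent.EtaleSite.SetPush
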