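import Groth.Agent.EtaleSite.PushImage
import Groth.Agent.EtSupp.Basic

/-!
# Open and closed complements: stalks of the counit and of the unit
-/

universe u

open CategoryTheory CategoryTheory.Limits AlgebraicGeometry Opposite

namespace Groth.Agent.EtaleSite

variable {U X : Scheme.{u}} (j : U ⟶ X) [IsOpenImmersion j] [Etale j] [EtShriek.JCont j]

/-- `j_! j⁻¹ G ⟶ G` is an isomorphism on stalks at points of `U`. -/
theorem isIso_stalk_counit_extZero (G : EtCoh.Ab X) {Ω : Type u} [Field Ω] [IsSepClosed Ω]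
    (ξ : Spec (CommRingCat.of Ω) ⟶ X) (hξ : ξ default ∈ Set.range j) :
    IsIso ((EtCoh.stalk ξ).map ((EtShriek.extZeroAdj j).counit.app G)) := by
  rcases EtSupp.exists_lift_or_notMem j ξ with ⟨ζ, rfl⟩ | h
  · haveI := isIso_unit_extZero j ((EtShriek.restrAlong j).obj G)
    have h1 : IsIso ((EtShriek.restrAlong j).map ((EtShriek.extZeroAdj j).counit.app G)) := by
      rw [← IsIso.inv_eq_of_hom_inv_id ((EtShriek.extZeroAdj j).right_triangle_components G)]
      infer_instance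
    haveI : IsIso ((EtCoh.pull j).map ((EtShriek.extZeroAdj j).counit.app G)) :=
      (NatIso.isIso_map_iff (pullIsoRestrAlong j) _).2 h1
    exact (NatIso.isIso_map_iff (stalkPullIso j ζ) _).mp
      (inferInstanceAs (IsIso ((EtCoh.stalk ζ).map
        ((EtCoh.pull j).map ((EtShriek.extZeroAdj j).counit.app G)))))
  · exact absurd hξ h

/-- `j_! F` is the only extension of `F` with zero stalks off `U`. -/
theorem isIso_counit_extZero (G : EtCoh.Ab X)
    (h : ∀ (Ω : Type u) [Field Ω] [IsSepClosed Ω] (ξ : Spec (CommRingCat.of Ω) ⟶ X),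
      ξ default ∉ Set.range j → IsZero ((EtCoh.stalk ξ).obj G)) :
    IsIso ((EtShriek.extZeroAdj j).counit.app G) := by
  refine isIso_of_stalk _ fun Ω _ _ ξ => ?_
  by_cases hξ : ξ default ∈ Set.range j
  · exact isIso_stalk_counit_extZero j G ξ hξ
  · exact (EtSupp.isZero_stalk_extZero j _ ξ hξ).isIso (h Ω ξ hξ) _

variable {Z : Scheme.{u}} (i : Z ⟶ X) [IsClosedImmersion i]

/-- `G ⟶ i_* i⁻¹ G` is an isomorphism on stalks at points of `Z`. -/
theorem isIso_stalk_unit_push (G : EtCoh.Ab X) {Ω : Type u} [Field Ω] [IsSepClosed Ω]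
    (η : Spec (CommRingCat.of Ω) ⟶ X) (hη : η default ∈ Set.range i) :
    IsIso ((EtCoh.stalk η).map ((EtCoh.pullPushAdj i).unit.app G)) := by
  let L := AlgebraicClosure Ω
  let σ : Spec (CommRingCat.of L) ⟶ Spec (CommRingCat.of Ω) :=
    Spec.map (CommRingCat.ofHom (algebraMap Ω L))
  obtain ⟨x, hx⟩ := hη
  obtain ⟨ξ, hξ, -⟩ := exists_point_over i (σ ≫ η) x
    (hx.trans (congrArg η (Subsingleton.elim (α := Spec (CommRingCat.of Ω)) _ _)))
  haveI := isIso_counit i ((EtCoh.pull i).obj G)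
  haveI : IsIso ((EtCoh.pull i).map ((EtCoh.pullPushAdj i).unit.app G)) :=
    haveI : IsIso ((EtCoh.pull i).map ((EtCoh.pullPushAdj i).unit.app G) ≫
        (EtCoh.pullPushAdj i).counit.app ((EtCoh.pull i).obj G)) :=
      Eq.mpr (congrArg (fun k => IsIso k) ((EtCoh.pullPushAdj i).left_triangle_components G))
        (IsIso.id ((EtCoh.pull i).obj G))
    IsIso.of_isIso_comp_right _ ((EtCoh.pullPushAdj i).counit.app ((EtCoh.pull i).obj G))
  haveI : IsIso ((EtCoh.pull i ⋙ EtCoh.stalk ξ).map ((EtCoh.pullPushAdj i).unit.app G)) :=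
    inferInstanceAs (IsIso ((EtCoh.stalk ξ).map _))
  have h1 : IsIso ((EtCoh.stalk (ξ ≫ i)).map ((EtCoh.pullPushAdj i).unit.app G)) :=
    (NatIso.isIso_map_iff (stalkPullIso i ξ) _).1 inferInstance
  rw [hξ] at h1
  exact (NatIso.isIso_map_iff (stalkExtIso σ η) _).2 h1

/-- The sequence `0 ⟶ j_! j⁻¹ G ⟶ G ⟶ i_* i⁻¹ G ⟶ 0`. -/
theorem exists_shortExact_recollement (h : Set.range j = (Set.range i)ᶜ) (G : EtCoh.Ab X) :
    ∃ w : (EtShriek.extZeroAdj j).counit.app G ≫ (EtCoh.pullPushAdj i).unit.app G = 0,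
      (ShortComplex.mk _ _ w).ShortExact := by
  have hU : ∀ (Ω : Type u) [Field Ω] [IsSepClosed Ω] (ξ : Spec (CommRingCat.of Ω) ⟶ X),
      ξ default ∈ Set.range j →
      IsZero ((EtCoh.stalk ξ).obj ((EtCoh.push i).obj ((EtCoh.pull i).obj G))) :=
    fun Ω _ _ ξ hξ => isZero_stalk_push i ξ (h.le hξ) _
  have hZ : ∀ (Ω : Type u) [Field Ω] [IsSepClosed Ω] (ξ : Spec (CommRingCat.of Ω) ⟶ X),
      ξ default ∉ Set.range j →
      IsZero ((EtCoh.stalk ξ).obj ((EtShriek.extZero j).obj ((EtShriek.restrAlong j).obj G))) :=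
    fun Ω _ _ ξ hξ => EtSupp.isZero_stalk_extZero j _ ξ hξ
  have hi : ∀ (Ω : Type u) [Field Ω] [IsSepClosed Ω] (ξ : Spec (CommRingCat.of Ω) ⟶ X),
      ξ default ∉ Set.range j → ξ default ∈ Set.range i :=
    fun Ω _ _ ξ hξ => by_contra fun hc => hξ (h.ge hc)
  have w : (EtShriek.extZeroAdj j).counit.app G ≫ (EtCoh.pullPushAdj i).unit.app G = 0 :=
    hom_ext_of_stalk fun Ω _ _ ξ => by
      by_cases hξ : ξ default ∈ Set.range j
      · exact (hU Ω ξ hξ).eq_of_tgt _ _
      · exact (hZ Ω ξ hξ).eq_of_src _ _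
  refine ⟨w, @ShortComplex.ShortExact.mk _ _ _ _ ?_ ?_ ?_⟩
  · rw [exact_iff_stalk]
    intro Ω _ _ ξ
    by_cases hξ : ξ default ∈ Set.range j
    · haveI := isIso_stalk_counit_extZero j G ξ hξ
      exact ((ShortComplex.exact_iff_epi _ ((hU Ω ξ hξ).eq_of_tgt _ _)).2
        (inferInstanceAs (Epi ((EtCoh.stalk ξ).map ((EtShriek.extZeroAdj j).counit.app G)))))
    · haveI := isIso_stalk_unit_push i G ξ (hi Ω ξ hξ)
      exact ((ShortComplex.exact_iff_mono _ ((hZ Ω ξ hξ).eq_of_src _ _)).2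
        (inferInstanceAs (Mono ((EtCoh.stalk ξ).map ((EtCoh.pullPushAdj i).unit.app G)))))
  · refine mono_of_stalk _ fun Ω _ _ ξ => ?_
    by_cases hξ : ξ default ∈ Set.range j
    · haveI := isIso_stalk_counit_extZero j G ξ hξ
      exact (ConcreteCategory.bijective_of_isIso
        ((EtCoh.stalk ξ).map ((EtShriek.extZeroAdj j).counit.app G))).1
    · have := AddCommGrpCat.subsingleton_of_isZero (hZ Ω ξ hξ)
      exact fun a b _ => @Subsingleton.elim _ this a b
  · refine epi_of_stalk _ fun Ω _ _ ξ => ?_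
    by_cases hξ : ξ default ∈ Set.range j
    · have := AddCommGrpCat.subsingleton_of_isZero (hU Ω ξ hξ)
      exact fun a => ⟨0, @Subsingleton.elim _ this _ a⟩
    · haveI := isIso_stalk_unit_push i G ξ (hi Ω ξ hξ)
      exact (ConcreteCategory.bijective_of_isIso
        ((EtCoh.stalk ξ).map ((EtCoh.pullPushAdj i).unit.app G))).2

end Groth.Agent.EtaleSite
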