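import Groth.Agent.EtaleSite.PushImage

/-!
# Base change for direct images along finite morphisms
-/

set_option linter.style.haveILetI false

universe u

open CategoryTheory CategoryTheory.Limits AlgebraicGeometry Opposite

namespace Groth.Agent.EtaleSite

variable {X Y X' Y' : Scheme.{u}} (f : X ⟶ Y) (g : Y' ⟶ Y) (f' : X' ⟶ Y') (g' : X' ⟶ X)
  (w : g' ≫ f = f' ≫ g)

/-- The comparison of the two iterated base changes of a commutative square. -/
noncomputable def bcSwap (V : Y.Etale) :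
    (EtCoh.bc f').obj ((EtCoh.bc g).obj V) ⟶ (EtCoh.bc g').obj ((EtCoh.bc f).obj V) :=
  (MorphismProperty.Over.pullbackComp (P := EtCoh.etaleMP) (Q := ⊤) f' g).inv.app V ≫
    (MorphismProperty.Over.pullbackCongr (P := EtCoh.etaleMP) (Q := ⊤) w).inv.app V ≫
    (MorphismProperty.Over.pullbackComp (P := EtCoh.etaleMP) (Q := ⊤) g' f).hom.app V

set_option backward.isDefEq.respectTransparency.types false in
theorem bcSwap_fst_fst (V : Y.Etale) :
    (bcSwap f g f' g' w V).left ≫ pullback.fst (pullback.snd V.hom f) g' ≫ pullback.fst V.hom f =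
      pullback.fst (pullback.snd V.hom g) f' ≫ pullback.fst V.hom g := by
  have h1 := MorphismProperty.Over.pullbackComp_left_fst_fst
    (P := EtCoh.etaleMP) (Q := ⊤) g' f V
  have h2 := MorphismProperty.Over.pullbackComp_left_fst_fst
    (P := EtCoh.etaleMP) (Q := ⊤) f' g V
  have h3 := MorphismProperty.Over.pullbackCongr_hom_app_left_fst
    (P := EtCoh.etaleMP) (Q := ⊤) w V
  have h3' : ((MorphismProperty.Over.pullbackCongr (P := EtCoh.etaleMP) (Q := ⊤) w).inv.app V).left ≫
      pullback.fst V.hom (g' ≫ f) = pullback.fst V.hom (f' ≫ g) := by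
    refine (congrArg (_ ≫ ·) h3.symm).trans ?_
    refine (Category.assoc _ _ _).symm.trans ?_
    refine (congrArg (· ≫ _) ?_).trans (Category.id_comp _)
    exact congrArg (fun k => k.left)
      ((MorphismProperty.Over.pullbackCongr (P := EtCoh.etaleMP) (Q := ⊤) w).inv_hom_id_app V)
  have h2' : ((MorphismProperty.Over.pullbackComp (P := EtCoh.etaleMP) (Q := ⊤) f' g).inv.app V).left ≫
      pullback.fst V.hom (f' ≫ g) =
        pullback.fst (pullback.snd V.hom g) f' ≫ pullback.fst V.hom g := by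
    refine (congrArg (_ ≫ ·) h2.symm).trans ?_
    refine (Category.assoc _ _ _).symm.trans ?_
    refine (congrArg (· ≫ _) ?_).trans (Category.id_comp _)
    exact congrArg (fun k => k.left)
      ((MorphismProperty.Over.pullbackComp (P := EtCoh.etaleMP) (Q := ⊤) f' g).inv_hom_id_app V)
  refine Eq.trans ?_ h2'
  refine ((Category.assoc _ _ _).trans ?_)
  refine congrArg (_ ≫ ·) ?_
  refine ((Category.assoc _ _ _).trans ?_)
  exact (congrArg (_ ≫ ·) h1).trans h3'

variable {Ω : Type u} [Field Ω] [IsSepClosed Ω] (ξ' : Spec (CommRingCat.of Ω) ⟶ X')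

set_option maxHeartbeats 1000000 in
set_option backward.isDefEq.respectTransparency.types false in
/-- The base change map on stalks. -/
theorem cmpAt_baseChange0 (F : EtCoh.Ab X) {η' : Spec (CommRingCat.of Ω) ⟶ Y'}
    (h' : ξ' ≫ f' = η') (h : (ξ' ≫ g') ≫ f = η' ≫ g)
    (p : (EtCoh.stalk (η' ≫ g)).obj ((EtCoh.push f).obj F)) :
    cmpAt f' ξ' h' ((EtCoh.pull g').obj F)
      ((EtCoh.stalk η').map (EtCoh.baseChange0 f g f' g' w F)
        ((stalkPullIso g η').inv.app ((EtCoh.push f).obj F) p)) =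
    (stalkPullIso g' ξ').inv.app F (cmpAt f (ξ' ≫ g') h F p) := by
  obtain ⟨V, φ, s, rfl⟩ := exists_germ_eq (η' ≫ g) ((EtCoh.push f).obj F) p
  rw [cmpAt_germ, germ_stalkPullIso_inv, germ_stalkPullIso_inv, germ_naturality]
  let m : (EtCoh.push f).obj F ⟶ (EtCoh.push g).obj ((EtCoh.push f').obj ((EtCoh.pull g').obj F)) :=
    (EtCoh.push f).map ((EtCoh.pullPushAdj g').unit.app F) ≫ (EtCoh.pushComp f g').hom.app _ ≫
      (EtCoh.pushCongr w).hom.app _ ≫ (EtCoh.pushComp g f').inv.app _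
  let t := ((EtCoh.pullPushAdj g').unit.app F).hom.app (op ((EtCoh.bc f).obj V)) s
  have hm : (EtCoh.baseChange0 f g f' g' w F).hom.app (op ((EtCoh.bc g).obj V))
      (((EtCoh.pullPushAdj g).unit.app ((EtCoh.push f).obj F)).hom.app (op V) s) =
      m.hom.app (op V) s := by
    have e : (EtCoh.pullPushAdj g).homEquiv _ _ (EtCoh.baseChange0 f g f' g' w F) = m :=
      Equiv.apply_symm_apply _ _
    rw [← e, Adjunction.homEquiv_unit]
    rfl
  have hm' : m.hom.app (op V) s =
      ((EtCoh.pull g').obj F).obj.map (bcSwap f g f' g' w V).op t := by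
    refine Eq.trans ?_ (congrArg (fun k => k t) ((((EtCoh.pull g').obj F).obj.map_comp _ _).trans
      (congrArg (· ≫ _) (((EtCoh.pull g').obj F).obj.map_comp _ _)))).symm
    rfl
  refine (congrArg (fun q => cmpAt f' ξ' h' ((EtCoh.pull g').obj F)
    (germ η' ((EtCoh.push f').obj ((EtCoh.pull g').obj F)) ((EtCoh.bc g).obj V)
      (fiberBcEquiv g η' V φ) q)) (hm.trans hm')).trans ?_
  rw [cmpAt_germ, germ_res]
  refine congrArg (fun z => germ ξ' ((EtCoh.pull g').obj F)
    ((EtCoh.bc g').obj ((EtCoh.bc f).obj V)) z t) (Over.OverMorphism.ext ?_)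
  let l := pullback.lift (pullback.lift φ.left η' (Over.w φ)) ξ'
    ((pullback.lift_snd _ _ _).trans h'.symm)
  let r := pullback.lift (pullback.lift φ.left (ξ' ≫ g') ((Over.w φ).trans h.symm)) ξ'
    (pullback.lift_snd _ _ _)
  show l ≫ (bcSwap f g f' g' w V).left = r
  have ew : (bcSwap f g f' g' w V).left ≫ pullback.snd (pullback.snd V.hom f) g' =
      pullback.snd (pullback.snd V.hom g) f' := MorphismProperty.Over.w (bcSwap f g f' g' w V)
  have hs : (l ≫ (bcSwap f g f' g' w V).left) ≫ pullback.snd (pullback.snd V.hom f) g' = ξ' :=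
    (Category.assoc _ _ _).trans ((congrArg (l ≫ ·) ew).trans (pullback.lift_snd _ _ _))
  refine pullback.hom_ext ?_ (hs.trans (pullback.lift_snd _ _ _).symm)
  refine pullback.hom_ext ?_ ?_
  · refine (Category.assoc _ _ _).trans ((Category.assoc _ _ _).trans ?_)
    refine (congrArg (l ≫ ·) (bcSwap_fst_fst f g f' g' w V)).trans ?_
    exact ((Category.assoc _ _ _).symm.trans ((congrArg (· ≫ _) (pullback.lift_fst _ _ _)).trans
      (pullback.lift_fst _ _ _))).trans
      ((congrArg (· ≫ _) (pullback.lift_fst _ _ _)).trans (pullback.lift_fst _ _ _)).symm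
  · exact (Category.assoc _ _ _).trans ((congrArg (_ ≫ ·) pullback.condition).trans
      ((Category.assoc _ _ _).symm.trans ((congrArg (· ≫ g') hs).trans
        ((congrArg (· ≫ _) (pullback.lift_fst _ _ _)).trans (pullback.lift_snd _ _ _)).symm)))

/-- Base change along finite morphisms. -/
theorem isIso_baseChange0 [IsFinite f] (h : IsPullback g' f' f g) (F : EtCoh.Ab X) :
    IsIso (EtCoh.baseChange0 f g f' g' h.w F) := by
  haveI : IsFinite f' := MorphismProperty.of_isPullback h ‹_›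
  refine isIso_of_stalk _ fun Ω _ _ η₀ => ?_
  let L := AlgebraicClosure Ω
  let σ : Spec (CommRingCat.of L) ⟶ Spec (CommRingCat.of Ω) :=
    Spec.map (CommRingCat.ofHom (algebraMap Ω L))
  refine (NatIso.isIso_map_iff (stalkExtIso σ η₀) _).2 ?_
  let η' := σ ≫ η₀
  let e := (stalkPullIso g η').app ((EtCoh.push f).obj F)
  suffices Function.Bijective ((EtCoh.stalk η').map (EtCoh.baseChange0 f g f' g' h.w F)) from
    (ConcreteCategory.isIso_iff_bijective _).2 this
  have hee : ∀ q, e.inv (e.hom q) = q := fun q => congrArg (fun k => k q) e.hom_inv_id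
  have key : ∀ (q : (EtCoh.stalk η').obj ((EtCoh.pull g).obj ((EtCoh.push f).obj F)))
      (ξ' : Spec (CommRingCat.of L) ⟶ X') (h' : ξ' ≫ f' = η'),
      cmpAt f' ξ' h' ((EtCoh.pull g').obj F)
        ((EtCoh.stalk η').map (EtCoh.baseChange0 f g f' g' h.w F) q) =
      (stalkPullIso g' ξ').inv.app F (cmpAt f (ξ' ≫ g')
        (by rw [Category.assoc, h.w, ← Category.assoc, h']) F (e.hom q)) := fun q ξ' h' => by
    conv_lhs => rw [← hee q]
    exact cmpAt_baseChange0 f g f' g' h.w ξ' F h' _ (e.hom q)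
  constructor
  · rw [injective_iff_map_eq_zero]
    intro q hq
    have : e.hom q = 0 := eq_zero_of_cmpAt f (η' ≫ g) F _ fun ξ hξ => by
      let ξ' := h.lift ξ η' hξ
      have hk := key q ξ' (h.lift_snd _ _ _)
      rw [hq, map_zero] at hk
      have := congrArg ((stalkPullIso g' ξ').hom.app F) hk
      rw [map_zero, ← ConcreteCategory.comp_apply, Iso.inv_hom_id_app,
        ConcreteCategory.id_apply] at this
      have haux : ∀ ξ₁ (_ : ξ₁ = ξ) (h₁ : ξ₁ ≫ f = η' ≫ g),
          cmpAt f ξ₁ h₁ F (e.hom q) = 0 → cmpAt f ξ hξ F (e.hom q) = 0 := by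
        rintro _ rfl _ h0
        exact h0
      exact haux (ξ' ≫ g') (h.lift_fst _ _ _) _ this.symm
    rw [← hee q, this, map_zero]
  · intro r
    obtain ⟨p, hp⟩ := exists_cmpAt_eq f (η' ≫ g) F fun ξ =>
      (eqToHom (show (EtCoh.stalk (h.lift ξ.1 η' ξ.2 ≫ g')).obj F = (EtCoh.stalk ξ.1).obj F by
        rw [h.lift_fst])) ((stalkPullIso g' (h.lift ξ.1 η' ξ.2)).hom.app F
        (cmpAt f' (h.lift ξ.1 η' ξ.2) (h.lift_snd _ _ _) ((EtCoh.pull g').obj F) r))
    refine ⟨e.inv p, ?_⟩
    refine sub_eq_zero.1 (eq_zero_of_cmpAt f' η' ((EtCoh.pull g').obj F) _ fun ξ' h' => ?_)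
    rw [map_sub, sub_eq_zero, key]
    rw [show e.hom (e.inv p) = p from congrArg (fun k => k p) e.inv_hom_id]
    have hξ : (ξ' ≫ g') ≫ f = η' ≫ g := by rw [Category.assoc, h.w, ← Category.assoc, h']
    rw [hp ⟨ξ' ≫ g', hξ⟩]
    have haux : ∀ (ξ'' : Spec (CommRingCat.of L) ⟶ X') (e'' : ξ'' = ξ') (h'' : ξ'' ≫ f' = η'),
        (stalkPullIso g' ξ').inv.app F ((eqToHom (show (EtCoh.stalk (ξ'' ≫ g')).obj F =
            (EtCoh.stalk (ξ' ≫ g')).obj F by rw [e'']))
          ((stalkPullIso g' ξ'').hom.app F (cmpAt f' ξ'' h'' ((EtCoh.pull g').obj F) r))) =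
        cmpAt f' ξ' h' ((EtCoh.pull g').obj F) r := by
      intro ξ'' e'' h''
      subst e''
      rw [eqToHom_refl, ConcreteCategory.id_apply]
      exact ConcreteCategory.congr_hom ((stalkPullIso g' ξ'').hom_inv_id_app F) _
    exact haux _ (h.hom_ext (h.lift_fst _ _ _) ((h.lift_snd _ _ _).trans h'.symm)) _

end Groth.Agent.EtaleSite
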