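import Groth.Agent.EtaleSite.Pull
import Groth.Prelude.Def_EtShriek2
import Mathlib.CategoryTheory.Adjunction.Triple
import Mathlib.CategoryTheory.Adjunction.FullyFaithful

/-!
# Étale morphisms and open immersions: `j⁻¹ = restriction`, `j_*` fully faithful

-/

universe u

open CategoryTheory CategoryTheory.Limits AlgebraicGeometry Opposite

namespace Groth.Agent.EtaleSite

variable {U X : Scheme.{u}} (j : U ⟶ X)

set_option backward.isDefEq.respectTransparency.types false in
/-- `compEtale j` is continuous for every étale `j`. -/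
instance (priority := low) jCont_of_etale [hj : Etale j] : EtShriek.JCont j := by
  refine Functor.isContinuous_of_coverPreserving ⟨?_⟩ (EtShriek.coverPreserving_compEtale j)
  intro ℱ Z T x hx Y₁ Y₂ W f₁ f₂ g₁ g₂ hg₁ hg₂ h
  obtain ⟨W', e⟩ : Σ' W' : U.Etale, { e : (EtShriek.compEtale j).obj W' ≅ W //
      W'.hom = (e.hom ≫ f₁).left ≫ Y₁.hom } := by
    have e₁ : f₁.left ≫ Y₁.hom ≫ j = W.hom := MorphismProperty.Over.w f₁
    have hW : EtCoh.etaleMP ((f₁.left ≫ Y₁.hom) ≫ j) := by
      rw [Category.assoc, e₁]; exact W.prop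
    refine ⟨MorphismProperty.Over.mk ⊤ (f₁.left ≫ Y₁.hom)
        (EtCoh.etaleMP.of_postcomp (W' := EtCoh.etaleMP) (f₁.left ≫ Y₁.hom) j hj hW),
      MorphismProperty.Over.isoMk (Iso.refl _)
        ((Category.id_comp W.hom).trans (e₁.symm.trans (Category.assoc _ _ _).symm)), ?_⟩
    exact (congrArg (· ≫ Y₁.hom) (Category.id_comp f₁.left)).symm
  obtain ⟨e, he⟩ := e
  have hl : (e.hom ≫ f₁).left ≫ g₁.left = (e.hom ≫ f₂).left ≫ g₂.left := by
    exact (congrArg (fun k => k.left) (((Category.assoc e.hom f₁ _).trans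
      (congrArg (e.hom ≫ ·) h)).trans (Category.assoc e.hom f₂ _).symm) :)
  have w₁ : g₁.left ≫ Z.hom = Y₁.hom := MorphismProperty.Over.w g₁
  have w₂ : g₂.left ≫ Z.hom = Y₂.hom := MorphismProperty.Over.w g₂
  have he₂ : (e.hom ≫ f₂).left ≫ Y₂.hom = W'.hom := by
    exact ((congrArg ((e.hom ≫ f₂).left ≫ ·) w₂).symm.trans ((Category.assoc _ _ _).symm.trans
      ((congrArg (· ≫ Z.hom) hl).symm.trans ((Category.assoc _ _ _).trans
        (congrArg ((e.hom ≫ f₁).left ≫ ·) w₁))))).trans he.symm
  let a : W' ⟶ Y₁ := MorphismProperty.Over.homMk (e.hom ≫ f₁).left he.symm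
  let b : W' ⟶ Y₂ := MorphismProperty.Over.homMk (e.hom ≫ f₂).left he₂
  have ha : (EtShriek.compEtale j).map a = e.hom ≫ f₁ := MorphismProperty.Over.Hom.ext rfl
  have hb : (EtShriek.compEtale j).map b = e.hom ≫ f₂ := MorphismProperty.Over.Hom.ext rfl
  have := hx a b hg₁ hg₂ (MorphismProperty.Over.Hom.ext hl)
  apply (ℱ.obj.mapIso e.op).toEquiv.injective
  change ℱ.obj.map e.hom.op _ = ℱ.obj.map e.hom.op _
  rw [← Functor.map_comp_apply, ← Functor.map_comp_apply, ← op_comp, ← op_comp, ← ha, ← hb]
  exact this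

/-- Composition with `j` is left adjoint to base change along `j`. -/
noncomputable def compEtaleBcAdj [hj : Etale j] : EtShriek.compEtale j ⊣ EtCoh.bc j :=
  MorphismProperty.Over.mapPullbackAdj EtCoh.etaleMP ⊤ j hj trivial

/-- Restriction along an étale `j` is left adjoint to `j_*`. -/
noncomputable def restrAlongPushAdj [Etale j] [EtShriek.JCont j] :
    EtShriek.restrAlong j ⊣ EtCoh.push j :=
  (compEtaleBcAdj j).sheafPushforwardContinuous U.smallEtaleTopology X.smallEtaleTopology

/-- Inverse image along an étale morphism is restriction. -/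
noncomputable def pullIsoRestrAlong [Etale j] [EtShriek.JCont j] :
    EtCoh.pull j ≅ EtShriek.restrAlong j :=
  (EtCoh.pullPushAdj j).leftAdjointUniq (restrAlongPushAdj j)

instance isIso_counit_restrAlongPush [Etale j] [Mono j] [EtShriek.JCont j] :
    IsIso (restrAlongPushAdj j).counit := by
  have : ∀ F, IsIso ((restrAlongPushAdj j).counit.app F) := fun F => by
    have : ∀ V, IsIso (((restrAlongPushAdj j).counit.app F).hom.app V) := fun V => by
      change IsIso (F.obj.map ((compEtaleBcAdj j).unit.app V.unop).op)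
      infer_instance
    have : IsIso ((sheafToPresheaf U.smallEtaleTopology AddCommGrpCat.{u + 1}).map
        ((restrAlongPushAdj j).counit.app F)) :=
      @NatIso.isIso_of_isIso_app _ _ _ _ _ _ ((restrAlongPushAdj j).counit.app F).hom this
    exact isIso_of_fully_faithful (f := (restrAlongPushAdj j).counit.app F)
      (sheafToPresheaf U.smallEtaleTopology AddCommGrpCat.{u + 1})
  exact NatIso.isIso_of_isIso_app _

/-- `j_*` is fully faithful for an étale monomorphism `j`. -/
noncomputable def pushFullyFaithful [Etale j] [Mono j] : (EtCoh.push j).FullyFaithful :=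
  (restrAlongPushAdj j).fullyFaithfulROfIsIsoCounit

theorem isIso_counit_pullPush [Etale j] [Mono j] (F : EtCoh.Ab U) :
    IsIso ((EtCoh.pullPushAdj j).counit.app F) := by
  have := (pushFullyFaithful j).full
  have := (pushFullyFaithful j).faithful
  infer_instance

theorem isIso_unit_extZero [Etale j] [Mono j] [EtShriek.JCont j] (F : EtCoh.Ab U) :
    IsIso ((EtShriek.extZeroAdj j).unit.app F) := by
  have t : Adjunction.Triple (EtShriek.extZero j) (EtShriek.restrAlong j) (EtCoh.push j) :=
    ⟨EtShriek.extZeroAdj j, restrAlongPushAdj j⟩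
  have hF := (pushFullyFaithful j)
  have := (t.fullyFaithfulEquiv.symm hF).full
  have := (t.fullyFaithfulEquiv.symm hF).faithful
  infer_instance

/-- The stalk of `j_* G` at a geometric point of `U`. -/
theorem nonempty_stalk_push_iso [Etale j] [Mono j] (G : EtCoh.Ab U) {Ω : Type u} [Field Ω]
    [IsSepClosed Ω] (ζ : Spec (CommRingCat.of Ω) ⟶ U) :
    Nonempty ((EtCoh.stalk (ζ ≫ j)).obj ((EtCoh.push j).obj G) ≅ (EtCoh.stalk ζ).obj G) :=
  have := isIso_counit_pullPush j G
  ⟨((stalkPullIso j ζ).app ((EtCoh.push j).obj G)).symm ≪≫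
    (EtCoh.stalk ζ).mapIso (asIso ((EtCoh.pullPushAdj j).counit.app G))⟩

end Groth.Agent.EtaleSite
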