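import Groth.Agent.Hens.Local
import Groth.Agent.Hensel.Local
import Mathlib.FieldTheory.PurelyInseparable.Basic
import Mathlib.RingTheory.Unramified.Field
import Mathlib.RingTheory.Etale.Field

/-!
# Points of étale algebras over separably closed residue fields

-/

universe u

set_option linter.style.haveILetI false

open Polynomial IsLocalRing TensorProduct

namespace Groth.Agent.EtaleSite

/-- A field valued point of an étale algebra factors through any finite extension `κ` of a
separably closed field over which it lies. -/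
theorem exists_algHom_factor (k κ : Type u) [Field k] [IsSepClosed k] [Field κ] [Algebra k κ]
    [Module.Finite k κ] {B : Type u} [CommRing B] [Algebra B κ] {L : Type u} [Field L]
    [Algebra κ L] [Algebra B L] [IsScalarTower B κ L]
    {C : Type u} [CommRing C] [Algebra B C] [Algebra.Etale B C] (ψ : C →ₐ[B] L) :
    ∃ χ : C →ₐ[B] κ, ∀ c, algebraMap κ L (χ c) = ψ c := by
  let Ψ : κ ⊗[B] C →ₐ[κ] L := Algebra.TensorProduct.lift (Algebra.ofId κ L) ψ fun _ _ => .all _ _
  have hfin : Module.Finite κ (κ ⊗[B] C) := Algebra.FormallyUnramified.finite_of_free κ _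
  let F := Ψ.range
  have : Module.Finite κ F := Module.Finite.of_surjective Ψ.rangeRestrict.toLinearMap
    Ψ.rangeRestrict_surjective
  have : Algebra.FormallyUnramified κ F :=
    Algebra.FormallyUnramified.of_surjective Ψ.rangeRestrict Ψ.rangeRestrict_surjective
  have hF : IsField F := isField_of_isIntegral_of_isField' (R := κ) (Field.toIsField κ)
  letI := hF.toField
  have : Algebra.IsSeparable κ F := Algebra.FormallyUnramified.isSeparable κ F
  letI : Algebra k F := ((algebraMap κ F).comp (algebraMap k κ)).toAlgebra
  haveI : IsScalarTower k κ F := .of_algebraMap_eq' rfl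
  haveI : Module.Finite k F := Module.Finite.trans κ F
  haveI : IsPurelyInseparable k F := Algebra.IsAlgebraic.isPurelyInseparable_of_isSepClosed
  haveI : IsPurelyInseparable κ F := IsPurelyInseparable.tower_top k κ F
  have hbij : Function.Bijective (algebraMap κ F) :=
    ⟨(algebraMap κ F).injective, IsPurelyInseparable.surjective_algebraMap_of_isSeparable κ F⟩
  let e := AlgEquiv.ofBijective (Algebra.ofId κ F) hbij
  refine ⟨((e.symm.toAlgHom.comp Ψ.rangeRestrict).restrictScalars B).comp
    Algebra.TensorProduct.includeRight, fun c => ?_⟩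
  have h1 : algebraMap κ F (e.symm (Ψ.rangeRestrict (1 ⊗ₜ c))) = Ψ.rangeRestrict (1 ⊗ₜ c) :=
    e.apply_symm_apply _
  refine (congrArg Subtype.val h1).trans ?_
  show Ψ (1 ⊗ₜ c) = ψ c
  simp [Ψ]

variable {A K : Type u} [CommRing A] [Field K] [Algebra A K]

/-- If `K` is separably closed, the residue field of `EtLoc A K` is separably closed. -/
instance isSepClosed_residueField_etLoc [IsSepClosed K] :
    IsSepClosed (ResidueField (Hens.EtLoc A K)) := by
  classical
  haveI : IsLocalHom (Hens.point A K).toRingHom := ⟨fun z hz => by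
    by_contra hu
    exact (hz.ne_zero ((Hens.mem_maximalIdeal_iff_point z).1
      ((IsLocalRing.mem_maximalIdeal z).2 hu)))⟩
  let ι : ResidueField (Hens.EtLoc A K) →+* K := ResidueField.lift (Hens.point A K).toRingHom
  have hι : ∀ z, ι (residue _ z) = Hens.point A K z := fun z =>
    ResidueField.lift_residue_apply _ _
  refine IsSepClosed.of_exists_root _ fun q hqm hqi hqs => ?_
  obtain ⟨f, hf, -, hfm⟩ := Polynomial.lifts_and_degree_eq_and_monic
    ((Polynomial.lifts_iff_coeff_lifts _).2 fun n => residue_surjective (q.coeff n)) hqm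
  obtain ⟨a, ha⟩ := IsSepClosed.exists_root (q.map ι)
    (by rw [Polynomial.degree_map]; exact (Polynomial.degree_pos_of_irreducible hqi).ne')
    ((Polynomial.separable_map ι).2 hqs)
  obtain ⟨S, _, _, hS, θ, hθ⟩ := Hens.exists_stage_finset f.coeffs
  have hlift : f ∈ Polynomial.lifts θ.toRingHom := by
    rw [Polynomial.lifts_iff_coeff_lifts]
    intro n
    by_cases hn : f.coeff n = 0
    · exact ⟨0, by simp [hn]⟩
    · exact hθ _ (Polynomial.coeff_mem_coeffs hn)
  obtain ⟨F, hF, -, hFm⟩ := Polynomial.lifts_and_degree_eq_and_monic hlift hfm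
  letI : Algebra S K := ((Hens.point A K).comp θ).toRingHom.toAlgebra
  haveI : IsScalarTower A S K := .of_algebraMap_eq' ((Hens.point A K).comp θ).comp_algebraMap.symm
  have hmap : F.map (algebraMap S K) = q.map ι := by
    rw [← hf, ← hF, Polynomial.map_map, Polynomial.map_map]
    congr 1
  let P : StandardEtalePair S := ⟨F, hFm, derivative F, 1, 0, 1, by simp⟩
  have hPa : P.HasMap a := by
    refine ⟨?_, IsUnit.mk0 _ ?_⟩
    · show aeval a F = 0
      rw [aeval_def, ← eval_map, hmap]
      exact ha
    · show aeval a (derivative F) ≠ 0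
      rw [aeval_def, ← eval_map, ← derivative_map, hmap]
      have := ((Polynomial.separable_map ι).2 hqs).aeval_derivative_ne_zero (x := a)
        (by simpa [aeval_def] using ha)
      simpa [aeval_def] using this
  let τ : P.Ring →ₐ[S] K := P.lift a hPa
  letI : Algebra A P.Ring := ((algebraMap S P.Ring).comp (algebraMap A S)).toAlgebra
  haveI : IsScalarTower A S P.Ring := .of_algebraMap_eq' rfl
  haveI : Algebra.Etale A P.Ring := Algebra.Etale.comp A S P.Ring
  obtain ⟨η, hη, -⟩ := Hens.existsUnique_algHom_etLoc (τ.restrictScalars A)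
  refine ⟨residue _ (η P.X), ι.injective ?_⟩
  rw [map_zero, ← Polynomial.eval_map_apply, hι]
  have : Hens.point A K (η P.X) = a :=
    (AlgHom.congr_fun hη P.X).trans (P.lift_X a hPa)
  rw [this]
  exact ha

end Groth.Agent.EtaleSite
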