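import Groth.Agent.EtaleSite.TensorStage
import Groth.Agent.EtaleSite.SepPoint

/-!
# Splitting étale algebras over finite algebras by étale neighbourhoods of the base

If `B` is finite over `A`, `C` is étale over `B`, `K` is a separably closed field over `A` and
for every point `τ : B → L` over `K` a point of `C` above it is prescribed, then there is an
étale neighbourhood `A'` of `K` and a `B`-map `C → A' ⊗ B` realizing all prescribed points.
-/

set_option linter.style.haveILetI false

universe u

open IsLocalRing TensorProduct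

namespace Groth.Agent.EtaleSite

variable {A K : Type u} [CommRing A] [Field K] [Algebra A K] {B : Type u} [CommRing B] [Algebra A B]

theorem exists_stage_kill_finset [Module.Finite A B] {S : Type u} [CommRing S] [Algebra A S]
    [Algebra.Etale A S] (θ : S →ₐ[A] Hens.EtLoc A K) (Z : Finset (S ⊗[A] B))
    (hZ : ∀ z ∈ Z, stageMap θ z = 0) :
    ∃ (T : Type u) (_ : CommRing T) (_ : Algebra A T), Algebra.Etale A T ∧
      ∃ (g : S →ₐ[A] T) (η : T →ₐ[A] Hens.EtLoc A K),
        η.comp g = θ ∧ ∀ z ∈ Z, Algebra.TensorProduct.map g (AlgHom.id A B) z = 0 := by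
  classical
  induction Z using Finset.induction with
  | empty => exact ⟨S, _, _, inferInstance, AlgHom.id A S, θ, AlgHom.comp_id θ, by simp⟩
  | @insert z Z _ ih =>
    obtain ⟨T, _, _, hT, g, η, hg, hgZ⟩ := ih fun w hw => hZ w (Finset.mem_insert_of_mem hw)
    have hz : stageMap η (Algebra.TensorProduct.map g (AlgHom.id A B) z) = 0 := by
      rw [stageMap, ← AlgHom.comp_apply, ← Algebra.TensorProduct.map_comp, hg, AlgHom.id_comp]
      exact hZ z (Finset.mem_insert_self _ _)
    obtain ⟨T', _, _, hT', g', η', hg', hz'⟩ := exists_stage_kill η _ hz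
    refine ⟨T', _, _, hT', g'.comp g, η', by rw [← AlgHom.comp_assoc, hg', hg], fun w hw => ?_⟩
    have hcomp : Algebra.TensorProduct.map (g'.comp g) (AlgHom.id A B) w =
        Algebra.TensorProduct.map g' (AlgHom.id A B)
          (Algebra.TensorProduct.map g (AlgHom.id A B) w) := by
      rw [← AlgHom.comp_apply, ← Algebra.TensorProduct.map_comp, AlgHom.id_comp]
    rw [hcomp]
    rcases Finset.mem_insert.1 hw with rfl | hw
    · exact hz'
    · rw [hgZ w hw, map_zero]

/-- A ring map over `B` from a finitely presented `B`-algebra to `EtLoc A K ⊗ B` factors through a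
stage. -/
theorem exists_stage_factor [Module.Finite A B] {C : Type u} [CommRing C] [Algebra B C]
    [Algebra.FinitePresentation B C] (σ : C →+* Hens.EtLoc A K ⊗[A] B)
    (hσ : σ.comp (algebraMap B C) = Algebra.TensorProduct.includeRight.toRingHom) :
    ∃ (T : Type u) (_ : CommRing T) (_ : Algebra A T), Algebra.Etale A T ∧
      ∃ (η : T →ₐ[A] Hens.EtLoc A K) (h : C →+* T ⊗[A] B),
        h.comp (algebraMap B C) = Algebra.TensorProduct.includeRight.toRingHom ∧
        ∀ c, stageMap η (h c) = σ c := by
  classical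
  obtain ⟨n, π, hπ, hfg⟩ := Algebra.FinitePresentation.out (R := B) (A := C)
  obtain ⟨S, _, _, hS, θ, w, hw⟩ := exists_stage_tensor fun i => σ (π (MvPolynomial.X i))
  let P : MvPolynomial (Fin n) B →+* S ⊗[A] B :=
    MvPolynomial.eval₂Hom Algebra.TensorProduct.includeRight.toRingHom w
  have hP : (stageMap θ).toRingHom.comp P = σ.comp π.toRingHom := by
    refine MvPolynomial.ringHom_ext (fun b => ?_) fun i => ?_
    · simpa [P, stageMap] using (RingHom.congr_fun hσ b).symm
    · simpa [P] using hw i
  obtain ⟨G, hG⟩ := hfg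
  have hkill : ∀ z ∈ G.image P, stageMap θ z = 0 := by
    simp only [Finset.mem_image, forall_exists_index, and_imp, forall_apply_eq_imp_iff₂]
    intro e he
    have h0 : π e = 0 := (hG ▸ Ideal.subset_span he : e ∈ RingHom.ker π.toRingHom)
    exact (RingHom.congr_fun hP e).trans (by simp [h0])
  obtain ⟨T, _, _, hT, g, η, hg, hgG⟩ := exists_stage_kill_finset θ _ hkill
  let Q : MvPolynomial (Fin n) B →+* T ⊗[A] B :=
    (Algebra.TensorProduct.map g (AlgHom.id A B)).toRingHom.comp P
  have hker : RingHom.ker π.toRingHom ≤ RingHom.ker Q := by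
    rw [← hG, Ideal.span_le]
    exact fun e he => hgG _ (Finset.mem_image_of_mem _ he)
  let h : C →+* T ⊗[A] B := RingHom.liftOfSurjective π.toRingHom hπ ⟨Q, hker⟩
  have hh : ∀ x, h (π x) = Q x := fun x =>
    RingHom.liftOfSurjective_comp_apply π.toRingHom hπ ⟨Q, hker⟩ x
  refine ⟨T, _, _, hT, η, h, ?_, fun c => ?_⟩
  · ext b
    rw [RingHom.comp_apply, ← π.commutes b, hh]
    simp [Q, P]
  · obtain ⟨x, rfl⟩ := hπ c
    rw [hh]
    refine Eq.trans ?_ (RingHom.congr_fun hP x)
    show ((stageMap η).comp (Algebra.TensorProduct.map g (AlgHom.id A B))) (P x) =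
      stageMap θ (P x)
    rw [← Algebra.TensorProduct.map_comp, hg, AlgHom.id_comp]

theorem henselianLocalRing_of_finite {R S : Type u} [CommRing R] [HenselianLocalRing R]
    [CommRing S] [IsLocalRing S] [Algebra R S] [Algebra.IsIntegral R S] : HenselianLocalRing S := by
  have := Hensel.henselianRing_of_isIntegral (I := maximalIdeal R) S
  refine Hensel.henselianLocalRing_of_henselianRing (Hensel.henselianRing_of_radical_eq
    (I := (maximalIdeal R).map (algebraMap R S)) ?_)
  rw [Ideal.radical_eq_sInf]
  refine le_sInf fun p ⟨hle, hp⟩ => ?_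
  have : p.IsMaximal := by
    have := hp
    refine Ideal.isMaximal_of_isIntegral_of_isMaximal_comap (R := R) p ?_
    have h1 : maximalIdeal R ≤ p.comap (algebraMap R S) := Ideal.map_le_iff_le_comap.1 hle
    rw [← (maximalIdeal.isMaximal R).eq_of_le (Ideal.comap_ne_top _ hp.ne_top) h1]
    exact maximalIdeal.isMaximal R
  exact (IsLocalRing.eq_maximalIdeal this).ge

variable {L : Type u} [Field L] [IsAlgClosed L] [Algebra A L] [Algebra K L] [IsScalarTower A K L]

/-- The `L`-point of a stage tensor over a point of `B`. -/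
noncomputable abbrev tensorPoint {T : Type u} [CommRing T] [Algebra A T] (π : T →ₐ[A] K)
    (τ : B →ₐ[A] L) : T ⊗[A] B →ₐ[A] L :=
  Algebra.TensorProduct.lift ((IsScalarTower.toAlgHom A K L).comp π) τ fun _ _ => .all _ _

attribute [local instance] Algebra.TensorProduct.rightAlgebra in
/-- The sections over the strict henselization. -/
theorem exists_section_etLoc [IsSepClosed K] [Module.Finite A B] {C : Type u} [CommRing C]
    [Algebra B C] [Algebra.Etale B C] (φ : (B →ₐ[A] L) → (C →+* L))
    (hφ : ∀ τ b, φ τ (algebraMap B C b) = τ b) :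
    ∃ σ : C →+* Hens.EtLoc A K ⊗[A] B,
      σ.comp (algebraMap B C) = Algebra.TensorProduct.includeRight.toRingHom ∧
      ∀ τ c, tensorPoint (Hens.point A K) τ (σ c) = φ τ c := by
  classical
  let E := Hens.EtLoc A K
  let T := E ⊗[A] B
  obtain ⟨n, e, he, hloc⟩ := Hensel.exists_pi_local (R := E) T
  haveI := hloc
  let Bi := fun i => T ⧸ Ideal.span {1 - e i}
  haveI : ∀ i, HenselianLocalRing (Bi i) := fun i => henselianLocalRing_of_finite (R := E)
  haveI : IsLocalHom (Hens.point A K).toRingHom := ⟨fun z hz => by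
    by_contra hu
    exact (hz.ne_zero ((Hens.mem_maximalIdeal_iff_point z).1
      ((IsLocalRing.mem_maximalIdeal z).2 hu)))⟩
  let kE := ResidueField E
  letI : Algebra kE L :=
    ((algebraMap K L).comp (ResidueField.lift (Hens.point A K).toRingHom)).toAlgebra
  have hkL : ∀ x : E, algebraMap kE L (residue E x) = algebraMap K L (Hens.point A K x) :=
    fun x => congrArg (algebraMap K L) (ResidueField.lift_residue_apply _ _)
  let ι : ∀ i, ResidueField (Bi i) →ₐ[kE] L := fun i => IsAlgClosed.lift
  let q : ∀ i, T →+* L := fun i =>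
    ((ι i).toRingHom.comp (residue (Bi i))).comp (Ideal.Quotient.mk _)
  have hq : ∀ i (x : E), q i (x ⊗ₜ[A] 1) = algebraMap K L (Hens.point A K x) := fun i x => by
    rw [← hkL]
    refine Eq.trans ?_ ((ι i).commutes (residue E x))
    rfl
  let τ : Fin n → (B →ₐ[A] L) := fun i =>
    { toRingHom := (q i).comp Algebra.TensorProduct.includeRight.toRingHom
      commutes' := fun a => by
        have : (1 : E) ⊗ₜ[A] algebraMap A B a = algebraMap A E a ⊗ₜ[A] (1 : B) :=
          ((Algebra.TensorProduct.includeRight (R := A) (A := E)).commutes a).trans rfl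
        show q i ((1 : E) ⊗ₜ[A] algebraMap A B a) = algebraMap A L a
        rw [this, hq, AlgHom.commutes, ← IsScalarTower.algebraMap_apply] }
  have hχ : ∀ i, ∃ χ : C →ₐ[B] ResidueField (Bi i), ∀ c, ι i (χ c) = φ (τ i) c := fun i => by
    letI : Algebra B L := (τ i).toRingHom.toAlgebra
    letI : Algebra (ResidueField (Bi i)) L := (ι i).toRingHom.toAlgebra
    haveI : IsScalarTower B (ResidueField (Bi i)) L := .of_algebraMap_eq fun b => rfl
    exact exists_algHom_factor kE (ResidueField (Bi i)) ⟨φ (τ i), hφ (τ i)⟩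
  choose χ hχ using hχ
  have hσi : ∀ i, ∃ σ : C →ₐ[B] Bi i, ∀ c, residue (Bi i) (σ c) = χ i c := fun i =>
    (Hens.existsUnique_algHom (χ i)).exists
  choose σi hσi using hσi
  let Φ := RingEquiv.ofBijective _ he.bijective_pi
  let σ : C →+* T := Φ.symm.toRingHom.comp (RingHom.pi fun i => (σi i).toRingHom)
  have hσ : ∀ i c, Ideal.Quotient.mk _ (σ c) = σi i c := fun i c =>
    congrFun (Φ.apply_symm_apply (fun i => σi i c)) i
  refine ⟨σ, ?_, fun τ₀ c => ?_⟩
  · ext b
    apply Φ.injective
    funext i
    refine (hσ i _).trans ?_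
    exact (σi i).commutes b
  · let p := tensorPoint (Hens.point A K) τ₀
    obtain ⟨i, hi⟩ : ∃ i, p (e i) = 1 := by
      by_contra hne
      push Not at hne
      have h0 : ∀ i, p (e i) = 0 := fun i =>
        ((IsIdempotentElem.iff_eq_zero_or_one).1 ((he.idem i).map p)).resolve_right (hne i)
      simpa [h0] using congrArg p he.complete
    let g : Bi i →+* L := Ideal.Quotient.lift _ p.toRingHom fun x hx => by
      obtain ⟨y, rfl⟩ := Ideal.mem_span_singleton.1 hx
      simp [hi]
    have hgE : ∀ x : E, g (algebraMap E (Bi i) x) = algebraMap K L (Hens.point A K x) := fun x => by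
      show p (x ⊗ₜ[A] 1) = _
      simp [p, tensorPoint]
    haveI : IsLocalHom g := by
      haveI : (RingHom.ker g).IsPrime := RingHom.ker_isPrime g
      have : (RingHom.ker g).IsMaximal := by
        refine Ideal.isMaximal_of_isIntegral_of_isMaximal_comap (R := E) _ ?_
        have : (RingHom.ker g).comap (algebraMap E (Bi i)) = maximalIdeal E := by
          ext x
          rw [Ideal.mem_comap, RingHom.mem_ker, hgE, map_eq_zero,
            Hens.mem_maximalIdeal_iff_point]
        rw [this]
        exact maximalIdeal.isMaximal E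
      refine ⟨fun z hz => ?_⟩
      by_contra hu
      exact hz.ne_zero ((IsLocalRing.eq_maximalIdeal this).ge ((mem_maximalIdeal z).2 hu))
    let g' : ResidueField (Bi i) →ₐ[kE] L :=
      { toRingHom := ResidueField.lift g
        commutes' := fun r => by
          obtain ⟨x, rfl⟩ := residue_surjective r
          rw [hkL]
          show ResidueField.lift g (algebraMap kE (ResidueField (Bi i)) (residue E x)) = _
          exact (ResidueField.lift_residue_apply g (algebraMap E (Bi i) x)).trans (hgE x) }
    have hgι : ∀ z, g z = ι i (residue _ z) := fun z => by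
      rw [← Subsingleton.elim g' (ι i)]
      exact (ResidueField.lift_residue_apply g z).symm
    have hτ : τ i = τ₀ := AlgHom.ext fun b => by
      refine Eq.trans (hgι _).symm ?_
      show p ((1 : E) ⊗ₜ[A] b) = τ₀ b
      simp [p, tensorPoint]
    calc p (σ c) = g (Ideal.Quotient.mk _ (σ c)) := rfl
      _ = ι i (residue _ (σi i c)) := by rw [hσ, hgι]
      _ = φ τ₀ c := by rw [hσi, hχ, hτ]

/-- Prescribed points of an étale algebra over a finite algebra are realized by a map to
`T ⊗ B` for an étale neighbourhood `T` of `K`. -/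
theorem exists_etale_split [IsSepClosed K] [Module.Finite A B] {C : Type u} [CommRing C]
    [Algebra B C] [Algebra.Etale B C] (φ : (B →ₐ[A] L) → (C →+* L))
    (hφ : ∀ τ b, φ τ (algebraMap B C b) = τ b) :
    ∃ (T : Type u) (_ : CommRing T) (_ : Algebra A T), Algebra.Etale A T ∧
      ∃ (π : T →ₐ[A] K) (h : C →+* T ⊗[A] B),
        h.comp (algebraMap B C) = Algebra.TensorProduct.includeRight.toRingHom ∧
        ∀ τ c, tensorPoint π τ (h c) = φ τ c := by
  obtain ⟨σ, hσ, hσφ⟩ := exists_section_etLoc (K := K) φ hφ
  obtain ⟨T, _, _, hT, η, h, hh, hhσ⟩ := exists_stage_factor σ hσ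
  refine ⟨T, _, _, hT, (Hens.point A K).comp η, h, hh, fun τ c => ?_⟩
  rw [← hσφ, ← hhσ]
  have : tensorPoint ((Hens.point A K).comp η) τ =
      (tensorPoint (Hens.point A K) τ).comp (stageMap η) :=
    Algebra.TensorProduct.ext' fun x b => by simp [tensorPoint, stageMap]
  rw [this]
  rfl

end Groth.Agent.EtaleSite
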