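import Groth.Agent.EtaleSite.Stalk
import Groth.Agent.EtaleSite.Points
import Groth.Agent.EtaleSite.Covers
import Groth.Prelude.Def_EtBase
import Mathlib.CategoryTheory.Sites.LocallyBijective
import Mathlib.CategoryTheory.Sites.Point.Conservative
import Mathlib.CategoryTheory.Sites.ConstantSheaf

/-!
# Constant sections of constant étale sheaves
-/

set_option autoImplicit false

universe u

open CategoryTheory CategoryTheory.Limits AlgebraicGeometry Opposite

noncomputable section

namespace Groth.Agent.EtaleSite.ConstSections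

variable {X : Scheme.{u}}

/-- The constant sheaf of a group. -/
abbrev cSheaf (X : Scheme.{u}) (M : AddCommGrpCat.{u + 1}) : EtCoh.Ab X :=
  (constantSheaf X.smallEtaleTopology AddCommGrpCat.{u + 1}).obj M

/-- The unit of sheafification of the constant presheaf. -/
abbrev etaConst (M : AddCommGrpCat.{u + 1}) :
    (Functor.const X.Etaleᵒᵖ).obj M ⟶ (cSheaf X M).obj :=
  toSheafify X.smallEtaleTopology _

/-- The constant section on an object. -/
def cst (W : X.Etale) {M : AddCommGrpCat.{u + 1}} (c : M) : EtCoh.sect (cSheaf X M) W :=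
  (etaConst M).app (op W) c

theorem map_cst {W V : X.Etale} (g : V ⟶ W) {M : AddCommGrpCat.{u + 1}} (c : M) :
    (cSheaf X M).obj.map g.op (cst W c) = cst V c :=
  (NatTrans.naturality_apply (etaConst M) g.op c).symm

theorem map_cst_hom {M N : AddCommGrpCat.{u + 1}} (h : M ⟶ N) (W : X.Etale) (c : M) :
    ((constantSheaf X.smallEtaleTopology AddCommGrpCat.{u + 1}).map h).hom.app (op W) (cst W c) =
      cst W (h c) := by
  have e := congrArg (fun (q : (Functor.const X.Etaleᵒᵖ).obj M ⟶ (cSheaf X N).obj) => q.app (op W))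
    (toSheafify_naturality X.smallEtaleTopology ((Functor.const X.Etaleᵒᵖ).map h))
  exact (ConcreteCategory.congr_hom e c).symm

theorem etaConst_locallyBijective (M : AddCommGrpCat.{u + 1}) :
    Presheaf.IsLocallyInjective X.smallEtaleTopology (etaConst (X := X) M) ∧
      Presheaf.IsLocallySurjective X.smallEtaleTopology (etaConst (X := X) M) :=
  (X.smallEtaleTopology.W_iff_isLocallyBijective _).1 (X.smallEtaleTopology.W_toSheafify _)

/-- Every section is constant on some neighbourhood of a geometric point. -/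
theorem exists_eq_cst {M : AddCommGrpCat.{u + 1}} {Ω : Type u} [Field Ω] [IsSepClosed Ω]
    (ξ : Spec (CommRingCat.of Ω) ⟶ X) (U : X.Etale)
    (x : (Scheme.pointSmallEtale ξ).fiber.obj U) (s : EtCoh.sect (cSheaf X M) U) :
    ∃ (V : X.Etale) (g : V ⟶ U) (y : (Scheme.pointSmallEtale ξ).fiber.obj V) (c : M),
      (Scheme.pointSmallEtale ξ).fiber.map g y = x ∧ (cSheaf X M).obj.map g.op s = cst V c := by
  have := (etaConst_locallyBijective (X := X) M).2
  obtain ⟨V, g, ⟨c, hc⟩, y, hy⟩ := (Scheme.pointSmallEtale ξ).jointly_surjective _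
    (Presheaf.imageSieve_mem X.smallEtaleTopology (etaConst M) s) x
  exact ⟨V, g, y, c, hy, hc.symm⟩

/-- Constant sections on a nonempty object determine their value. -/
theorem cst_injective {W : X.Etale} (w : W.left) {M : AddCommGrpCat.{u + 1}} {c d : M}
    (h : cst W c = cst W d) : c = d := by
  have := (etaConst_locallyBijective (X := X) M).1
  have hS := Presheaf.equalizerSieve_mem X.smallEtaleTopology (etaConst M) c d h
  obtain ⟨V, g, v, hg, -⟩ := Covers.exists_of_mem hS w
  exact hg

/-- The germ of a constant section. -/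
theorem germ_cst_injective {Ω : Type u} [Field Ω] [IsSepClosed Ω]
    (ξ : Spec (CommRingCat.of Ω) ⟶ X) (W : X.Etale)
    (x : (Scheme.pointSmallEtale ξ).fiber.obj W) {M : AddCommGrpCat.{u + 1}} {c d : M}
    (h : germ ξ (cSheaf X M) W x (cst W c) = germ ξ (cSheaf X M) W x (cst W d)) : c = d := by
  obtain ⟨V, g, y, -, e⟩ := (germ_eq_iff ξ _ W x _ _).1 h
  rw [map_cst, map_cst] at e
  exact cst_injective (y.left (default : Spec (CommRingCat.of Ω))) e

/-- The germ of a constant section does not depend on the neighbourhood. -/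
theorem germ_cst_eq {Ω : Type u} [Field Ω] [IsSepClosed Ω]
    (ξ : Spec (CommRingCat.of Ω) ⟶ X) (W W' : X.Etale)
    (x : (Scheme.pointSmallEtale ξ).fiber.obj W) (x' : (Scheme.pointSmallEtale ξ).fiber.obj W')
    {M : AddCommGrpCat.{u + 1}} (c : M) :
    germ ξ (cSheaf X M) W x (cst W c) = germ ξ (cSheaf X M) W' x' (cst W' c) := by
  obtain ⟨z, ⟨p₁, hp₁⟩, ⟨p₂, hp₂⟩, -⟩ :=
    IsCofilteredOrEmpty.cone_objs
      ((Scheme.pointSmallEtale ξ).fiber.elementsMk _ x)
      ((Scheme.pointSmallEtale ξ).fiber.elementsMk _ x')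
  have h1 := germ_res ξ (cSheaf X M) p₁ z.2 (cst W c)
  have h2 := germ_res ξ (cSheaf X M) p₂ z.2 (cst W' c)
  rw [map_cst] at h1 h2
  rw [hp₁] at h1
  rw [hp₂] at h2
  exact h1.symm.trans h2

/-- A nonempty étale scheme over an irreducible scheme has a point over the generic point. -/
theorem exists_point_over_genericPoint [IrreducibleSpace X] (W : X.Etale) (w : W.left) :
    ∃ w' : W.left, W.hom w' = genericPoint X := by
  have : Etale W.hom := W.prop
  have hopen : IsOpen (Set.range W.hom) := W.hom.isOpenMap.isOpen_range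
  exact (genericPoint_spec X).mem_open_set_iff hopen |>.2 ⟨W.hom w, trivial, ⟨w, rfl⟩⟩

end Groth.Agent.EtaleSite.ConstSections
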