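import Groth.Agent.EtaleSite.Stalk
import Mathlib.RingTheory.Etale.StandardEtale
import Mathlib.FieldTheory.IsAlgClosed.AlgebraicClosure
import Mathlib.AlgebraicGeometry.Morphisms.Etale

/-!
# Étale neighbourhoods containing a root of a separable polynomial
-/

universe u

open CategoryTheory AlgebraicGeometry Polynomial

namespace Groth.Agent.EtaleSite

/-- Adjoining a root of a separable monic polynomial gives a surjective étale cover. -/
theorem exists_etale_algebra_root {R : Type u} [CommRing R] (f : R[X]) (hf : f.Monic)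
    (hdeg : f.natDegree ≠ 0) (hsep : ∃ p₁ p₂, derivative f * p₁ + f * p₂ = 1) :
    ∃ (T : Type u) (_ : CommRing T) (_ : Algebra R T), Algebra.Etale R T ∧
      (∀ P : PrimeSpectrum R, ∃ Q : PrimeSpectrum T, PrimeSpectrum.comap (algebraMap R T) Q = P) ∧
      ∃ x : T, aeval x f = 0 := by
  obtain ⟨p₁, p₂, he⟩ := hsep
  let P : StandardEtalePair R := ⟨f, hf, 1, p₁, p₂, 1, by rw [he, pow_one]⟩
  refine ⟨P.Ring, inferInstance, inferInstance, inferInstance, fun q => ?_, P.X,
    StandardEtalePair.hasMap_X.1⟩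
  let κ := q.asIdeal.ResidueField
  let L := AlgebraicClosure κ
  letI : Algebra R L := ((algebraMap κ L).comp (algebraMap R κ)).toAlgebra
  have hd : (f.map (algebraMap R L)).degree ≠ 0 := fun h0 => hdeg (by
    have := natDegree_eq_of_degree_eq_some h0
    rwa [hf.natDegree_map] at this)
  obtain ⟨r, hr⟩ := IsAlgClosed.exists_root _ hd
  have hm : P.HasMap r := ⟨by
    show aeval r f = 0
    rwa [aeval_def, ← eval_map], by
    show IsUnit (aeval r (1 : R[X]))
    simp⟩
  refine ⟨⟨RingHom.ker (P.lift r hm).toRingHom, RingHom.ker_isPrime _⟩, PrimeSpectrum.ext ?_⟩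
  ext a
  show P.lift r hm (algebraMap R P.Ring a) = 0 ↔ a ∈ q.asIdeal
  rw [AlgHom.commutes]
  show algebraMap κ L (algebraMap R κ a) = 0 ↔ _
  rw [map_eq_zero_iff _ (algebraMap κ L).injective, Ideal.algebraMap_residueField_eq_zero]

/-- Locally for the étale topology, separable monic polynomials have roots. -/
theorem exists_etale_root {U : Scheme.{u}} (u : U) (f : Γ(U, ⊤)[X]) (hf : f.Monic)
    (hdeg : f.natDegree ≠ 0) (hsep : ∃ p₁ p₂, derivative f * p₁ + f * p₂ = 1) :
    ∃ (V : Scheme.{u}) (g : V ⟶ U) (_ : Etale g) (v : V) (x : Γ(V, ⊤)),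
      g v = u ∧ (f.map g.appTop.hom).eval x = 0 := by
  obtain ⟨R, j, hj, ⟨w, hw⟩, -⟩ := Scheme.exists_affine_mem_range_and_range_subset
    (x := u) (U := ⊤) (by trivial)
  let ρ : Γ(U, ⊤) →+* R := (Scheme.ΓSpecIso R).hom.hom.comp j.appTop.hom
  haveI : Nontrivial R := by
    by_contra hn
    rw [not_nontrivial_iff_subsingleton] at hn
    exact (show PrimeSpectrum R from w).isPrime.ne_top
      ((Ideal.eq_top_iff_one _).2 (Subsingleton.elim (0 : R) 1 ▸ zero_mem _))
  obtain ⟨p₁, p₂, he⟩ := hsep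
  obtain ⟨T, _, _, hT, hsurj, x, hx⟩ := exists_etale_algebra_root (f.map ρ) (hf.map ρ)
    (by rwa [hf.natDegree_map]) ⟨p₁.map ρ, p₂.map ρ, by
      rw [derivative_map, ← Polynomial.map_mul, ← Polynomial.map_mul, ← Polynomial.map_add, he,
        Polynomial.map_one]⟩
  let t : Spec (CommRingCat.of T) ⟶ Spec R := Spec.map (CommRingCat.ofHom (algebraMap R T))
  haveI : Etale t := (HasRingHomProperty.Spec_iff (P := @Etale)).2 (RingHom.etale_algebraMap.2 hT)
  obtain ⟨v, hv⟩ := hsurj w
  refine ⟨Spec (CommRingCat.of T), t ≫ j, inferInstance, v,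
    (Scheme.ΓSpecIso (CommRingCat.of T)).inv.hom x, (congrArg j hv).trans hw, ?_⟩
  have h2 : ∀ a, (t ≫ j).appTop.hom a =
      (Scheme.ΓSpecIso (CommRingCat.of T)).inv.hom (algebraMap R T (ρ a)) := fun a => by
    rw [Scheme.Hom.comp_appTop]
    have e := Scheme.ΓSpecIso_inv_naturality (CommRingCat.ofHom (algebraMap R T))
    show t.appTop.hom (j.appTop.hom a) = _
    have e2 : j.appTop.hom a = (Scheme.ΓSpecIso R).inv.hom (ρ a) :=
      (ConcreteCategory.congr_hom (Scheme.ΓSpecIso R).hom_inv_id (j.appTop.hom a)).symm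
    rw [e2]
    exact (ConcreteCategory.congr_hom e (ρ a)).symm
  have h3 : f.map (t ≫ j).appTop.hom = ((f.map ρ).map (algebraMap R T)).map
      (Scheme.ΓSpecIso (CommRingCat.of T)).inv.hom := by
    rw [Polynomial.map_map, Polynomial.map_map]
    exact congrArg (fun φ => f.map φ) (RingHom.ext h2)
  rw [h3, eval_map, eval₂_at_apply, eval_map, ← aeval_def, hx, map_zero]

end Groth.Agent.EtaleSite
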