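import Groth.Agent.EtaleSite.ConstSections
import Groth.Agent.EtaleSite.Clopen
import Groth.Agent.S18415
import Groth.Prelude.Def_W4c5etcohweilstudentAS
import Mathlib.Algebra.CharP.Basic
import Mathlib.FieldTheory.Finite.Basic

/-!
# The Artin–Schreier sequence `0 → ℤ/p → G_a → G_a → 0` on the small étale site
-/

set_option autoImplicit false
set_option backward.isDefEq.respectTransparency false

universe u

open CategoryTheory CategoryTheory.Limits AlgebraicGeometry Opposite

noncomputable section

namespace Groth.Agent.EtaleSite.ArtinSchreierKer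

open W4c5etcohweilstudent

variable {X : Scheme.{u}} (p : ℕ) [hp : Fact p.Prime] (h0 : (p : Γ(X, ⊤)) = 0)

/-- The prime field in the functions of an étale `X`-scheme. -/
def castHom (U : X.Etale) : ZMod p →+ Γ(U.left, ⊤) :=
  ZMod.lift p ⟨Int.castAddHom _, (congrArg _ rfl).trans
    ((Int.cast_natCast p).trans (natCast_eq_zero_etale p h0 U))⟩

theorem castHom_intCast (U : X.Etale) (m : ℤ) : castHom p h0 U (m : ZMod p) = (m : Γ(U.left, ⊤)) :=
  ZMod.lift_coe _ _ _

theorem castHom_map {U V : X.Etale} (g : V ⟶ U) (c : ZMod p) :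
    g.left.appTop (castHom p h0 U c) = castHom p h0 V c := by
  obtain ⟨m, rfl⟩ := ZMod.intCast_surjective c
  rw [castHom_intCast, castHom_intCast, map_intCast]

theorem castHom_pow (U : X.Etale) (c : ZMod p) : castHom p h0 U c ^ p - castHom p h0 U c = 0 := by
  obtain ⟨m, rfl⟩ := ZMod.intCast_surjective c
  have h : (((m : ℤ) ^ p - m : ℤ) : ZMod p) = 0 := by
    rw [Int.cast_sub, Int.cast_pow, ZMod.pow_card, sub_self]
  rw [castHom_intCast, ← Int.cast_pow, ← Int.cast_sub, ← castHom_intCast p h0 U, h, map_zero]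

theorem castHom_injective (U : X.Etale) (w : U.left) : Function.Injective (castHom p h0 U) := by
  haveI : Nontrivial Γ(U.left, ⊤) := (U.left.Γevaluation w).hom.domain_nontrivial
  haveI : CharP Γ(U.left, ⊤) p := (CharP.charP_iff_prime_eq_zero hp.out).2 (natCast_eq_zero_etale p h0 U)
  refine (injective_iff_map_eq_zero _).2 fun c hc => ?_
  obtain ⟨m, rfl⟩ := ZMod.intCast_surjective c
  rw [castHom_intCast, CharP.intCast_eq_zero_iff Γ(U.left, ⊤) p] at hc
  exact (ZMod.intCast_zmod_eq_zero_iff_dvd m p).2 hc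

/-- `ℤ/p` to the global functions. -/
def unitHom : AddCommGrpCat.of (ULift.{u + 1} (ZMod p)) ⟶ (EtCoh.Ga X).obj.obj (op (EtCoh.top X)) :=
  AddCommGrpCat.ofHom
    (((AddEquiv.ulift.symm : Γ((EtCoh.top X).left, ⊤) ≃+ ULift.{u + 1} Γ((EtCoh.top X).left, ⊤))
      ).toAddMonoidHom.comp ((castHom p h0 (EtCoh.top X)).comp AddEquiv.ulift.toAddMonoidHom))

/-- `ℤ/p → G_a`. -/
def incl : EtCoh.const X (ZMod p) ⟶ EtCoh.Ga X :=
  ((EtCore.constAdj X).homEquiv _ _).symm (unitHom p h0)

theorem incl_cst (U : X.Etale) (c : ULift.{u + 1} (ZMod p)) :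
    (incl p h0).hom.app (op U)
        (ConstSections.cst U (M := AddCommGrpCat.of (ULift.{u + 1} (ZMod p))) c) =
      (⟨castHom p h0 U c.down⟩ : ULift.{u + 1} Γ(U.left, ⊤)) := by
  have h1 : (EtCore.constAdj X).homEquiv _ _ (incl p h0) = unitHom p h0 := Equiv.apply_symm_apply _ _
  refine (congrArg ((incl p h0).hom.app (op U))
    (ConstSections.map_cst ((EtCore.topIsTerminal X).from U)
      (M := AddCommGrpCat.of (ULift.{u + 1} (ZMod p))) c).symm).trans
        ((NatTrans.naturality_apply (incl p h0).hom _ _).trans ?_)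
  refine (congrArg _ (ConcreteCategory.congr_hom h1 c)).trans ?_
  exact ULift.ext _ _ (castHom_map p h0 ((EtCore.topIsTerminal X).from U) c.down)

theorem exists_cst (U : X.Etale) (s : EtCoh.sect (EtCoh.const X (ZMod p)) U) (u : U.left) :
    ∃ (V : X.Etale) (g : V ⟶ U) (v : V.left) (c : ULift.{u + 1} (ZMod p)), g.left v = u ∧
      (EtCoh.const X (ZMod p)).obj.map g.op s = ConstSections.cst V c := by
  haveI := (ConstSections.etaConst_locallyBijective (X := X)
    (AddCommGrpCat.of (ULift.{u + 1} (ZMod p)))).2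
  obtain ⟨V, g, v, ⟨c, hc⟩, hv⟩ := Covers.exists_of_mem
    (Presheaf.imageSieve_mem X.smallEtaleTopology (ConstSections.etaConst _) s) u
  exact ⟨V, g, v, c, hv, hc.symm⟩

theorem incl_comp : incl p h0 ≫ artinSchreierEndo X p hp.out h0 = 0 := by
  refine ObjectProperty.hom_ext _ (NatTrans.ext (funext fun U => ?_))
  refine AddCommGrpCat.hom_ext (DFunLike.ext _ _ fun s => ?_)
  refine (EtCoh.Ga X).property.isSeparated U.unop
    (Presheaf.equalizerSieve (F := (EtCoh.Ga X).obj) _ _) (mem_topology_of_forall_exists _ fun u => ?_)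
    _ _ (fun V g hg => hg)
  obtain ⟨V, g, v, c, hv, hc⟩ := exists_cst p U.unop s u
  refine ⟨V, g, v, ?_, hv⟩
  refine (NatTrans.naturality_apply (incl p h0 ≫ artinSchreierEndo X p hp.out h0).hom g.op s).symm.trans ?_
  refine ((congrArg ((artinSchreierEndo X p hp.out h0).hom.app (op V))
    ((congrArg ((incl p h0).hom.app (op V)) hc).trans (incl_cst p h0 V c))).trans ?_)
  refine Eq.trans ?_ (map_zero ((EtCoh.Ga X).obj.map g.op).hom).symm
  exact ULift.ext _ _ (castHom_pow p h0 V c.down)

theorem injective_incl (U : X.Etale) : Function.Injective ((incl p h0).hom.app (op U)) := by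
  refine (injective_iff_map_eq_zero ((incl p h0).hom.app (op U)).hom).2 fun s hs => ?_
  refine (EtCoh.const X (ZMod p)).property.isSeparated U
    (Presheaf.equalizerSieve (F := (EtCoh.const X (ZMod p)).obj) _ _)
    (mem_topology_of_forall_exists _ fun u => ?_) _ _ (fun V g hg => hg)
  obtain ⟨V, g, v, c, hv, hc⟩ := exists_cst p U s u
  refine ⟨V, g, v, ?_, hv⟩
  have h1 : (⟨castHom p h0 V c.down⟩ : ULift.{u + 1} Γ(V.left, ⊤)) = ⟨0⟩ :=
    (incl_cst p h0 V c).symm.trans ((congrArg ((incl p h0).hom.app (op V)) hc.symm).trans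
      ((NatTrans.naturality_apply (incl p h0).hom g.op s).trans
        ((congrArg _ hs).trans (map_zero ((EtCoh.Ga X).obj.map g.op).hom))))
  have h2 : c = 0 := ULift.ext _ _ (castHom_injective p h0 V v
    ((congrArg ULift.down h1).trans (map_zero (castHom p h0 V)).symm))
  refine (hc.trans ?_).trans (map_zero ((EtCoh.const X (ZMod p)).obj.map g.op).hom).symm
  rw [h2]
  exact map_zero ((ConstSections.etaConst (X := X) _).app (op V)).hom

/-- Near each point a root of `x ^ p - x` is a constant. -/
theorem exists_open_cast (U : X.Etale) (a : Γ(U.left, ⊤)) (ha : a ^ p - a = 0) (u : U.left) :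
    ∃ (W : U.left.Opens) (c : ZMod p), u ∈ W ∧
      (pieceHom U W).left.appTop a = castHom p h0 (piece U W) c := by
  classical
  haveI : Nontrivial Γ(U.left, ⊤) := (U.left.Γevaluation u).hom.domain_nontrivial
  haveI : CharP Γ(U.left, ⊤) p := (CharP.charP_iff_prime_eq_zero hp.out).2 (natCast_eq_zero_etale p h0 U)
  let K := U.left.residueField u
  let ev := (U.left.Γevaluation u).hom
  haveI : CharP K p := (CharP.charP_iff_prime_eq_zero hp.out).2 (by
    rw [← map_natCast ev, natCast_eq_zero_etale p h0 U, map_zero])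
  let φ : ZMod p →+* Γ(U.left, ⊤) := ZMod.castHom (dvd_refl p) _
  have hprod : (∏ i : ZMod p, (a - φ i)) = 0 := by
    have hpoly : (∏ i : ZMod p, (Polynomial.X - Polynomial.C i) : Polynomial (ZMod p)) =
        Polynomial.X ^ p - Polynomial.X := by
      have hmonic : (Polynomial.X ^ p - Polynomial.X : Polynomial (ZMod p)).Monic :=
        Polynomial.monic_X_pow_sub (by rw [Polynomial.degree_X]; exact_mod_cast hp.out.one_lt)
      have hr : (Polynomial.X ^ p - Polynomial.X : Polynomial (ZMod p)).roots =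
          (Finset.univ : Finset (ZMod p)).val := by
        have h := FiniteField.roots_X_pow_card_sub_X (ZMod p)
        rwa [ZMod.card] at h
      have h := Polynomial.prod_multiset_X_sub_C_of_monic_of_roots_card_eq hmonic (by
        rw [hr, FiniteField.X_pow_card_sub_X_natDegree_eq (ZMod p) hp.out.one_lt]
        exact (Finset.card_univ).trans (ZMod.card p))
      rw [hr] at h
      exact h
    have h := congrArg (Polynomial.eval₂ φ a) hpoly
    simp only [Polynomial.eval₂_finsetProd, Polynomial.eval₂_sub, Polynomial.eval₂_X,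
      Polynomial.eval₂_C, Polynomial.eval₂_pow] at h
    exact h.trans ha
  obtain ⟨i, -, hi⟩ := Finset.prod_eq_zero_iff.1 ((map_prod ev _ _).symm.trans
    ((congrArg ev hprod).trans (map_zero ev)))
  let b : Γ(U.left, ⊤) := ∏ j ∈ Finset.univ.erase i, (a - φ j)
  refine ⟨U.left.basicOpen b, i, ?_, ?_⟩
  · refine (U.left.evaluation_ne_zero_iff_mem_basicOpen u (U := ⊤) trivial b).1
      (show ev b ≠ 0 from ?_)
    rw [map_prod, Finset.prod_ne_zero_iff]
    intro j hj hj0
    refine (Finset.mem_erase.1 hj).1 ?_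
    apply (ev.comp φ).injective
    rw [map_sub, sub_eq_zero] at hi hj0
    exact hj0.symm.trans hi
  let r := ((pieceHom U (U.left.basicOpen b)).left).appTop.hom
  have hu : IsUnit (r b) := by
    let W := U.left.basicOpen b
    have hle : W.ι ''ᵁ (⊤ : (W : Scheme.{u}).Opens) ≤ W := by simp
    have h : r b = (U.left.presheaf.map (homOfLE hle).op).hom
        ((U.left.presheaf.map (homOfLE (U.left.basicOpen_le b)).op).hom b) := by
      refine Eq.trans ?_ (ConcreteCategory.congr_hom (U.left.presheaf.map_comp _ _) b)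
      exact ConcreteCategory.congr_hom (Scheme.Opens.ι_appTop W) b
    rw [h]
    exact (RingedSpace.isUnit_res_basicOpen _ b).map _
  have hzero : r (a - φ i) = 0 := by
    refine hu.mul_left_eq_zero.1 ?_
    rw [← map_mul, Finset.mul_prod_erase Finset.univ (fun j => a - φ j) (Finset.mem_univ i), hprod, map_zero]
  obtain ⟨m, rfl⟩ := ZMod.intCast_surjective i
  rw [map_sub, map_intCast φ, map_intCast r, sub_eq_zero] at hzero
  rw [castHom_intCast]
  exact hzero

/-- The Artin–Schreier sequence. -/
def sc : ShortComplex (EtCoh.Ab X) :=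
  ShortComplex.mk (incl p h0) (artinSchreierEndo X p hp.out h0) (incl_comp p h0)

theorem shortExact : (sc p h0).ShortExact := by
  haveI : Epi (sc p h0).g := S18415.result p hp.out h0
  haveI hm : Mono (sc p h0).f := by
    haveI : Presheaf.IsLocallyInjective X.smallEtaleTopology (incl p h0).hom :=
      Presheaf.isLocallyInjective_of_injective _ _ fun U => injective_incl p h0 U.unop
    exact Sheaf.mono_of_isLocallyInjective (incl p h0)
  refine { exact := ?_ }
  rw [ShortComplex.exact_iff_epi_kernel_lift]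
  show Epi (kernel.lift _ (incl p h0) (incl_comp p h0))
  let ι := kernel.ι (artinSchreierEndo X p hp.out h0)
  have hι : ∀ V : X.Etale, Function.Injective (ι.hom.app (op V)) := fun V => by
    have : Mono ((sheafToPresheaf X.smallEtaleTopology AddCommGrpCat.{u + 1} ⋙
      (evaluation _ _).obj (op V)).map ι) := inferInstance
    exact (AddCommGrpCat.mono_iff_injective _).1 this
  suffices Sheaf.IsLocallySurjective (kernel.lift _ (incl p h0) (incl_comp p h0)) from inferInstance
  constructor
  intro U k
  refine mem_topology_of_forall_exists _ fun u => ?_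
  have hk : (artinSchreierEndo X p hp.out h0).hom.app (op U) (ι.hom.app (op U) k) =
      (⟨0⟩ : ULift.{u + 1} Γ(U.left, ⊤)) :=
    congrArg (fun q : kernel (artinSchreierEndo X p hp.out h0) ⟶ EtCoh.Ga X => q.hom.app (op U) k)
      (kernel.condition _)
  obtain ⟨W, c, hu, hW⟩ := exists_open_cast p h0 U
    (show ULift.{u + 1} Γ(U.left, ⊤) from ι.hom.app (op U) k).down (congrArg ULift.down hk) u
  refine ⟨piece U W, pieceHom U W, (⟨u, hu⟩ : W),
    ⟨ConstSections.cst (piece U W) (M := AddCommGrpCat.of (ULift.{u + 1} (ZMod p))) (ULift.up c), ?_⟩, rfl⟩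
  refine hι _ ?_
  refine ((ConcreteCategory.congr_hom (congrArg (fun q : EtCoh.const X (ZMod p) ⟶ EtCoh.Ga X =>
    q.hom.app (op (piece U W))) (kernel.lift_ι _ (incl p h0) (incl_comp p h0))) _).trans
      (incl_cst p h0 _ _)).trans ?_
  exact Eq.trans (ULift.ext _ _ hW.symm) (NatTrans.naturality_apply ι.hom (pieceHom U W).op k).symm

end Groth.Agent.EtaleSite.ArtinSchreierKer
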