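import Groth.Agent.EtaleSite.FiniteBC
import Mathlib.RingTheory.Etale.Pi

/-!
# Base change for direct images along integral morphisms

The stalk of a direct image along an integral morphism surjects onto the continuous families of
stalks above: idempotents of the geometric fibre descend to étale neighbourhoods of the base.
-/

set_option linter.style.haveILetI false

universe u

open CategoryTheory CategoryTheory.Limits AlgebraicGeometry Opposite TensorProduct

namespace Groth.Agent.EtaleSite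

section Algebra

variable {A B : Type u} [CommRing A] [CommRing B] [Algebra A B] {L : Type u} [Field L]
  [IsAlgClosed L] [Algebra A L]

/-- Two points of an integral algebra are separated by an idempotent over an étale neighbourhood. -/
theorem exists_etale_idempotent [Algebra.IsIntegral A B] (τ₁ τ₂ : B →ₐ[A] L) (hne : τ₁ ≠ τ₂) :
    ∃ (T : Type u) (_ : CommRing T) (_ : Algebra A T), Algebra.Etale A T ∧
      ∃ (π : T →ₐ[A] L) (e : T ⊗[A] B), e * (1 - e) = 0 ∧
        tensorPoint π τ₁ e = 1 ∧ tensorPoint π τ₂ e = 0 := by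
  classical
  obtain ⟨β, hβ⟩ : ∃ β, τ₁ β ≠ τ₂ β := by
    by_contra hc
    push Not at hc
    exact hne (AlgHom.ext hc)
  let B₀ : Subalgebra A B := Algebra.adjoin A {β}
  haveI : Algebra.FiniteType A B₀ := (Subalgebra.fg_iff_finiteType B₀).1 ⟨{β}, by simp [B₀]⟩
  haveI : Algebra.IsIntegral A B₀ :=
    ⟨fun x => (isIntegral_algHom_iff B₀.val Subtype.val_injective).1
      (Algebra.IsIntegral.isIntegral _)⟩
  haveI : Module.Finite A B₀ := Algebra.IsIntegral.finite
  haveI : Algebra.Etale B₀ (Bool → B₀) := inferInstance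
  let φ : (B₀ →ₐ[A] L) → ((Bool → B₀) →+* L) := fun τ =>
    if τ = τ₁.comp B₀.val then τ.toRingHom.comp (Pi.evalRingHom (fun _ => B₀) true)
    else τ.toRingHom.comp (Pi.evalRingHom (fun _ => B₀) false)
  have hφ : ∀ τ b, φ τ (algebraMap B₀ (Bool → B₀) b) = τ b := fun τ b => by
    simp only [φ]
    split_ifs <;> rfl
  obtain ⟨T, _, _, hT, π, h, -, hπ⟩ := exists_etale_split (K := L) (L := L) φ hφ
  let m : T ⊗[A] B₀ →ₐ[A] T ⊗[A] B := Algebra.TensorProduct.map (AlgHom.id A T) B₀.val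
  refine ⟨T, _, _, hT, π, m (h fun c => bif c then 1 else 0), ?_, ?_, ?_⟩
  · have : (fun c => bif c then 1 else 0 : Bool → B₀) * (fun c => bif c then 1 else 0) =
        fun c => bif c then 1 else 0 := funext fun c => by cases c <;> simp
    rw [mul_sub, mul_one, ← map_mul m, ← map_mul h, this, sub_self]
  all_goals
    have hm : ∀ (τ : B →ₐ[A] L) y, tensorPoint π τ (m y) = tensorPoint π (τ.comp B₀.val) y :=
      fun τ y => by
        induction y using TensorProduct.induction_on with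
        | zero => simp
        | add x y hx hy => simp [map_add, hx, hy]
        | tmul t x => simp [tensorPoint, m]
    rw [hm, hπ]
  · simp [φ]
  · have : τ₂.comp B₀.val ≠ τ₁.comp B₀.val := fun hc =>
      hβ (AlgHom.congr_fun hc ⟨β, Algebra.subset_adjoin rfl⟩).symm
    simp [φ, this]

end Algebra

section Scheme

variable {X Y : Scheme.{u}} (f : X ⟶ Y) [IsIntegralHom f] {L : Type u} [Field L] [IsAlgClosed L]
  (η : Spec (CommRingCat.of L) ⟶ Y)

set_option backward.isDefEq.respectTransparency.types false in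
/-- Two points over a geometric point are separated over an étale neighbourhood of it. -/
theorem exists_separation {ξ₁ ξ₂ : Spec (CommRingCat.of L) ⟶ X} (h₁ : ξ₁ ≫ f = η)
    (h₂ : ξ₂ ≫ f = η) (hne : ξ₁ ≠ ξ₂) :
    ∃ (V : Y.Etale) (φ : (Scheme.pointSmallEtale η).fiber.obj V)
      (W : Bool → ((EtCoh.bc f).obj V).left.Opens),
      (∀ a b, a ≠ b → Disjoint (W a) (W b)) ∧ (∀ x, ∃ a, x ∈ W a) ∧
        (bcPt f ξ₁ h₁ V φ).left (default : Spec (CommRingCat.of L)) ∈ W true ∧
        (bcPt f ξ₂ h₂ V φ).left (default : Spec (CommRingCat.of L)) ∈ W false := by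
  obtain ⟨A, B, ψ, j, hj, e, η₀, rfl, hB⟩ := exists_affine_chart f η
  have hψ : ψ.hom.IsIntegral :=
    (IsIntegralHom.SpecMap_iff).1 (MorphismProperty.of_isPullback hB inferInstance)
  obtain ⟨a, rfl⟩ := Spec.map_surjective η₀
  letI : Algebra A B := ψ.hom.toAlgebra
  haveI : Algebra.IsIntegral A B := ⟨hψ⟩
  letI : Algebra A L := a.hom.toAlgebra
  obtain ⟨b₁, hb₁⟩ := Spec.map_surjective (hB.lift ξ₁ (Spec.map a) h₁)
  obtain ⟨b₂, hb₂⟩ := Spec.map_surjective (hB.lift ξ₂ (Spec.map a) h₂)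
  have hw : ∀ (b : B ⟶ CommRingCat.of L) (ξ : Spec (CommRingCat.of L) ⟶ X)
      (h : ξ ≫ f = Spec.map a ≫ j), Spec.map b = hB.lift ξ (Spec.map a) h → ψ ≫ b = a :=
    fun b ξ h hb => Spec.map_injective (by rw [Spec.map_comp, hb, hB.lift_snd])
  let τ₁ : B →ₐ[A] L :=
    ⟨b₁.hom, fun r => RingHom.congr_fun (congrArg CommRingCat.Hom.hom (hw b₁ ξ₁ h₁ hb₁)) r⟩
  let τ₂ : B →ₐ[A] L :=
    ⟨b₂.hom, fun r => RingHom.congr_fun (congrArg CommRingCat.Hom.hom (hw b₂ ξ₂ h₂ hb₂)) r⟩
  have hτ : τ₁ ≠ τ₂ := fun hc => hne (by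
    have : b₁ = b₂ := CommRingCat.hom_ext (congrArg AlgHom.toRingHom hc)
    rw [← hB.lift_fst ξ₁ (Spec.map a) h₁, ← hB.lift_fst ξ₂ (Spec.map a) h₂, ← hb₁, ← hb₂, this])
  obtain ⟨T, _, _, hT, π, ε, hε, hε₁, hε₂⟩ := exists_etale_idempotent τ₁ τ₂ hτ
  haveI : Etale (Spec.map (CommRingCat.ofHom (algebraMap A T))) :=
    (HasRingHomProperty.Spec_iff (P := @Etale)).2 (RingHom.etale_algebraMap.2 hT)
  let t : Spec (CommRingCat.of T) ⟶ Spec A := Spec.map (CommRingCat.ofHom (algebraMap A T))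
  let V : Y.Etale := Scheme.Etale.mk (t ≫ j)
  let y : Spec (CommRingCat.of L) ⟶ Spec (CommRingCat.of T) :=
    Spec.map (CommRingCat.ofHom π.toRingHom)
  have hy₀ : y ≫ t = Spec.map a := by
    rw [← Spec.map_comp]
    exact congrArg Spec.map (CommRingCat.hom_ext (RingHom.ext π.commutes))
  have hy : y ≫ t ≫ j = Spec.map a ≫ j := by
    rw [← Category.assoc, hy₀]
  let φ : (Scheme.pointSmallEtale (Spec.map a ≫ j)).fiber.obj V :=
    (Over.homMk y hy : Over.mk (Spec.map a ≫ j) ⟶ (Scheme.Etale.forget Y).obj V)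
  let l : pullback (t ≫ j) f ⟶ Spec B :=
    hB.lift (pullback.snd _ _) (pullback.fst (t ≫ j) f ≫ t)
      (by rw [Category.assoc]; exact pullback.condition.symm)
  let m : pullback (t ≫ j) f ⟶ Spec (CommRingCat.of (T ⊗[A] B)) :=
    pullback.lift (pullback.fst (t ≫ j) f) l (hB.lift_snd _ _ _).symm ≫
      (pullbackSpecIso A T B).hom
  let W : Bool → ((EtCoh.bc f).obj V).left.Opens := fun c =>
    m ⁻¹ᵁ (PrimeSpectrum.basicOpen (cond c ε (1 - ε)) : (Spec (CommRingCat.of (T ⊗[A] B))).Opens)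
  have hpt : ∀ (b : B ⟶ CommRingCat.of L) (ξ : Spec (CommRingCat.of L) ⟶ X)
      (h : ξ ≫ f = Spec.map a ≫ j) (hb : Spec.map b = hB.lift ξ (Spec.map a) h) (τ : B →ₐ[A] L),
      τ.toRingHom = b.hom →
      (bcPt f ξ h V φ).left ≫ m = Spec.map (CommRingCat.ofHom (tensorPoint π τ).toRingHom) := by
    intro b ξ h hb τ hτb
    show pullback.lift y ξ (hy.trans h.symm) ≫ _ ≫ _ = _
    rw [← Category.assoc, ← cancel_mono (pullbackSpecIso A T B).inv, Category.assoc, Iso.hom_inv_id,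
      Category.comp_id]
    apply pullback.hom_ext
    · rw [Category.assoc, pullback.lift_fst, pullback.lift_fst, Category.assoc]
      erw [pullbackSpecIso_inv_fst, ← Spec.map_comp]
      refine congrArg Spec.map (CommRingCat.hom_ext (RingHom.ext fun x => ?_))
      show π x = tensorPoint π τ (x ⊗ₜ[A] 1)
      simp [tensorPoint]
    · rw [Category.assoc, pullback.lift_snd, Category.assoc]
      erw [pullbackSpecIso_inv_snd, ← Spec.map_comp]
      have e1 : pullback.lift y ξ (hy.trans h.symm) ≫ l = Spec.map b := by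
        rw [hb]
        refine hB.hom_ext ?_ ?_
        · rw [Category.assoc, hB.lift_fst, hB.lift_fst, pullback.lift_snd]
        · rw [Category.assoc, hB.lift_snd, hB.lift_snd, ← Category.assoc, pullback.lift_fst, hy₀]
      rw [e1]
      refine congrArg Spec.map (CommRingCat.hom_ext (RingHom.ext fun x => ?_))
      show b.hom x = tensorPoint π τ ((1 : T) ⊗ₜ[A] x)
      rw [← hτb]
      simp [tensorPoint]
  have hmem : ∀ (c : Bool) (ξ : Spec (CommRingCat.of L) ⟶ X) (h : ξ ≫ f = Spec.map a ≫ j)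
      (τ : B →ₐ[A] L),
      (bcPt f ξ h V φ).left ≫ m = Spec.map (CommRingCat.ofHom (tensorPoint π τ).toRingHom) →
      tensorPoint π τ (cond c ε (1 - ε)) = 1 →
      (bcPt f ξ h V φ).left (default : Spec (CommRingCat.of L)) ∈ W c := by
    intro c ξ h τ hm h1
    have e0 : m ((bcPt f ξ h V φ).left (default : Spec (CommRingCat.of L))) =
        Spec.map (CommRingCat.ofHom (tensorPoint π τ).toRingHom) default :=
      congrArg (fun k : Spec (CommRingCat.of L) ⟶ Spec (CommRingCat.of (T ⊗[A] B)) =>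
        k default) hm
    show m ((bcPt f ξ h V φ).left (default : Spec (CommRingCat.of L))) ∈
      PrimeSpectrum.basicOpen (cond c ε (1 - ε))
    rw [e0]
    intro hin
    have hin' : tensorPoint π τ (cond c ε (1 - ε)) ∈
        (default : Spec (CommRingCat.of L)).asIdeal := hin
    rw [h1] at hin'
    exact (default : Spec (CommRingCat.of L)).isPrime.ne_top ((Ideal.eq_top_iff_one _).2 hin')
  have hd : ∀ x : PrimeSpectrum (T ⊗[A] B),
      ¬(x ∈ PrimeSpectrum.basicOpen ε ∧ x ∈ PrimeSpectrum.basicOpen (1 - ε)) := fun x hx =>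
    (x.isPrime.mem_or_mem (show ε * (1 - ε) ∈ x.asIdeal from hε ▸ zero_mem _)).elim hx.1 hx.2
  refine ⟨V, φ, W, fun c d hcd => ?_, fun x => ?_,
    hmem true ξ₁ h₁ τ₁ (hpt b₁ ξ₁ h₁ hb₁ τ₁ rfl) hε₁,
    hmem false ξ₂ h₂ τ₂ (hpt b₂ ξ₂ h₂ hb₂ τ₂ rfl) (by simp [hε₂])⟩
  · refine disjoint_iff.2 (le_bot_iff.1 fun x hx => ?_)
    cases c <;> cases d
    · exact absurd rfl hcd
    · exact hd (m x) ⟨hx.2, hx.1⟩
    · exact hd (m x) ⟨hx.1, hx.2⟩
    · exact absurd rfl hcd
  · by_cases hx : m x ∈ PrimeSpectrum.basicOpen ε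
    · exact ⟨true, hx⟩
    · refine ⟨false, fun hx' => ?_⟩
      have h1 : ε ∈ (m x).asIdeal := not_not.1 hx
      exact (m x).isPrime.ne_top
        ((Ideal.eq_top_iff_one _).2 ((add_sub_cancel ε (1 : T ⊗[A] B)) ▸ add_mem h1 hx'))

set_option backward.isDefEq.respectTransparency.types false in
/-- Germs at a geometric point of the base can be chosen independently on the two sides of a
decomposition. -/
theorem exists_glue_germs (F : EtCoh.Ab X) (V : Y.Etale)
    (φ : (Scheme.pointSmallEtale η).fiber.obj V) (W : Bool → ((EtCoh.bc f).obj V).left.Opens)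
    (hd : ∀ a b, a ≠ b → Disjoint (W a) (W b)) (hc : ∀ x, ∃ a, x ∈ W a)
    (p : Bool → (EtCoh.stalk η).obj ((EtCoh.push f).obj F)) :
    ∃ q, ∀ (c : Bool) (ξ : Spec (CommRingCat.of L) ⟶ X) (h : ξ ≫ f = η),
      (bcPt f ξ h V φ).left (default : Spec (CommRingCat.of L)) ∈ W c →
        cmpAt f ξ h F q = cmpAt f ξ h F (p c) := by
  choose V₁ φ₁ s₁ hs₁ using fun c => exists_germ_eq η ((EtCoh.push f).obj F) (p c)
  let P := (Scheme.pointSmallEtale η).fiber
  let E : Bool → P.Elements := fun c => ⟨V₁ c, φ₁ c⟩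
  let M := IsCofiltered.min (IsCofiltered.min (E true) (E false)) (⟨V, φ⟩ : P.Elements)
  let a : ∀ c, M ⟶ E c := fun c => IsCofiltered.minToLeft _ _ ≫
    (match c with
      | true => IsCofiltered.minToLeft _ _
      | false => IsCofiltered.minToRight _ _)
  let b : M ⟶ (⟨V, φ⟩ : P.Elements) := IsCofiltered.minToRight _ _
  let W' : Bool → ((EtCoh.bc f).obj M.1).left.Opens := fun c => ((EtCoh.bc f).map b.1).left ⁻¹ᵁ W c
  obtain ⟨r, hr⟩ := exists_glue_disjoint (U := (EtCoh.bc f).obj M.1) F W'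
    (fun c d hcd => disjoint_iff.2 (le_bot_iff.1 fun x hx =>
      (hd c d hcd).le_bot (show ((EtCoh.bc f).map b.1).left x ∈ _ ⊓ _ from ⟨hx.1, hx.2⟩))) (fun x => hc _)
    (fun c => F.obj.map (pieceHom _ (W' c)).op
      (F.obj.map ((EtCoh.bc f).map (a c).1).op (s₁ c)))
  refine ⟨germ η ((EtCoh.push f).obj F) M.1 M.2 r, fun c ξ h hmem => ?_⟩
  have hl : (bcPt f ξ h M.1 M.2).left ≫ ((EtCoh.bc f).map b.1).left =
      (bcPt f ξ h V φ).left := by
    have e0 : M.2.left ≫ b.1.left = φ.left := congrArg (fun k => k.left) b.2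
    refine pullback.hom_ext ?_ ?_
    · refine (Category.assoc _ _ _).trans ((congrArg (_ ≫ ·) (pullback.lift_fst _ _ _)).trans ?_)
      refine (Category.assoc _ _ _).symm.trans ((congrArg (· ≫ b.1.left)
        (pullback.lift_fst _ _ _)).trans (e0.trans (pullback.lift_fst _ _ _).symm))
    · refine (Category.assoc _ _ _).trans ((congrArg (_ ≫ ·) (pullback.lift_snd _ _ _)).trans ?_)
      exact (pullback.lift_snd _ _ _).trans (pullback.lift_snd _ _ _).symm
  have hr' : Set.range (bcPt f ξ h M.1 M.2).left ⊆ Set.range (W' c).ι := by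
    rintro _ ⟨o, rfl⟩
    erw [Scheme.Opens.range_ι]
    rw [Subsingleton.elim (α := Spec (CommRingCat.of L)) o default]
    show (((EtCoh.bc f).map b.1).left) _ ∈ W c
    exact (congrArg (fun k : Spec (CommRingCat.of L) ⟶ ((EtCoh.bc f).obj V).left => k default)
      hl).symm ▸ hmem
  let ℓ := IsOpenImmersion.lift (W' c).ι (bcPt f ξ h M.1 M.2).left hr'
  have hℓ : ℓ ≫ (W' c).ι = (bcPt f ξ h M.1 M.2).left := IsOpenImmersion.lift_fac _ _ _
  let z : (Scheme.pointSmallEtale ξ).fiber.obj (piece ((EtCoh.bc f).obj M.1) (W' c)) :=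
    (Over.homMk ℓ (((Category.assoc _ _ _).symm.trans (congrArg (· ≫ _) hℓ)).trans
        (Over.w (bcPt f ξ h M.1 M.2))) :
      Over.mk ξ ⟶ (Scheme.Etale.forget X).obj (piece ((EtCoh.bc f).obj M.1) (W' c)))
  have hz : (Scheme.pointSmallEtale ξ).fiber.map (pieceHom ((EtCoh.bc f).obj M.1) (W' c)) z =
      bcPt f ξ h M.1 M.2 := Over.OverMorphism.ext hℓ
  rw [cmpAt_germ, ← hs₁ c, cmpAt_germ, ← hz, ← germ_res]
  refine (congrArg (germ ξ F _ z) (hr c)).trans ?_
  rw [germ_res, germ_res]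
  refine congrArg (fun w => germ ξ F _ w (s₁ c)) ?_
  rw [hz]
  refine Over.OverMorphism.ext (pullback.hom_ext ?_ ?_)
  · refine (Category.assoc _ _ _).trans ((congrArg (_ ≫ ·) (pullback.lift_fst _ _ _)).trans ?_)
    refine (Category.assoc _ _ _).symm.trans ((congrArg (· ≫ (a c).1.left)
      (pullback.lift_fst _ _ _)).trans ((congrArg (fun k => k.left) (a c).2).trans
        (pullback.lift_fst _ _ _).symm))
  · refine (Category.assoc _ _ _).trans ((congrArg (_ ≫ ·) (pullback.lift_snd _ _ _)).trans ?_)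
    exact (pullback.lift_snd _ _ _).trans (pullback.lift_snd _ _ _).symm

set_option maxHeartbeats 1000000 in
set_option backward.isDefEq.respectTransparency.types false in
/-- A germ at a point above `η` extends compatibly with any covering family. -/
theorem exists_cmpAt_of_family (F : EtCoh.Ab X) (ξ : Spec (CommRingCat.of L) ⟶ X) (hξ : ξ ≫ f = η)
    {ι : Type u} (Z : ι → X.Etale) (hZ : ∀ x : X, f x = η default → ∃ c z, (Z c).hom z = x)
    (t' : ∀ c, F.obj.obj (op (Z c))) (c₀ : ι) (x : (Scheme.pointSmallEtale ξ).fiber.obj (Z c₀)) :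
    ∃ p, cmpAt f ξ hξ F p = germ ξ F (Z c₀) x (t' c₀) := by
  let g : (∐ fun c => (Z c).left) ⟶ X := Sigma.desc fun c => (Z c).hom
  haveI : ∀ c, Etale (Z c).hom := fun c => (Z c).prop
  haveI : Etale g := etale_sigmaDesc _
  let x₁ : Spec (CommRingCat.of L) ⟶ (Z c₀).left := x.left
  let xU : Spec (CommRingCat.of L) ⟶ ∐ fun c => (Z c).left := x₁ ≫ Sigma.ι (fun c => (Z c).left) c₀
  have hxU : xU ≫ g = ξ :=
    (Category.assoc _ _ _).trans ((congrArg (x₁ ≫ ·)
      (Sigma.ι_desc (fun c => (Z c).hom) c₀)).trans (Over.w x))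
  obtain ⟨V, y, hy, h, hh, hφ⟩ := split_integral_point f η (𝟙 _) g
    (fun x' hx' => by
      obtain ⟨c, z, hz⟩ := hZ x' hx'
      exact ⟨Sigma.ι (fun c => (Z c).left) c z,
        (congrArg (fun q : (Z c).left ⟶ X => q z) (Sigma.ι_desc (fun c => (Z c).hom) c)).trans hz⟩)
    {xU} Set.subsingleton_singleton (fun z hz => by
      obtain rfl := Set.mem_singleton_iff.1 hz
      rw [hxU, hξ, Category.id_comp])
  obtain ⟨W, hd, hc, hk⟩ := exists_pieces h
  choose k hk using hk
  let k' : ∀ c, piece ((EtCoh.bc f).obj V) (W c) ⟶ Z c := fun c =>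
    MorphismProperty.Over.homMk (k c)
      (((congrArg (k c ≫ ·) (Sigma.ι_desc (fun c => (Z c).hom) c)).symm).trans
        ((Category.assoc _ _ _).symm.trans ((congrArg (· ≫ g) (hk c)).trans
          ((Category.assoc _ _ _).trans (congrArg ((W c).ι ≫ ·) hh))))) trivial
  obtain ⟨r, hr⟩ := exists_glue_disjoint (U := (EtCoh.bc f).obj V) F W hd hc
    (fun c => F.obj.map (k' c).op (t' c))
  let φ : (Scheme.pointSmallEtale η).fiber.obj V :=
    (Over.homMk y hy : Over.mk η ⟶ (Scheme.Etale.forget Y).obj V)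
  refine ⟨germ η ((EtCoh.push f).obj F) V φ r, ?_⟩
  rw [cmpAt_germ]
  let ℓ : Spec (CommRingCat.of L) ⟶ pullback V.hom f := pullback.lift y ξ (hy.trans hξ.symm)
  have hℓ : ℓ ≫ h = x₁ ≫ Sigma.ι (fun c => (Z c).left) c₀ := by
    refine Eq.trans ?_ (hφ xU rfl)
    refine congrArg (· ≫ h) (pullback.hom_ext ?_ ?_)
    · rw [pullback.lift_fst, pullback.lift_fst, Category.id_comp]
    · rw [pullback.lift_snd, pullback.lift_snd, hxU]
  have hr' : Set.range ℓ ⊆ Set.range (W c₀).ι := by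
    rintro _ ⟨o, rfl⟩
    obtain ⟨b, hb⟩ := hc (ℓ o)
    rw [Scheme.Opens.range_ι]
    by_cases hab : b = c₀
    · exact hab ▸ hb
    · exfalso
      have h1 : h (ℓ o) ∈ (Sigma.ι (fun c => (Z c).left) c₀).opensRange :=
        ⟨x₁ o, (congrArg (fun q => q o) hℓ).symm⟩
      have h2 : h (ℓ o) ∈ (Sigma.ι (fun c => (Z c).left) b).opensRange :=
        ⟨k b ⟨ℓ o, hb⟩, congrArg (fun q => q ⟨ℓ o, hb⟩) (hk b)⟩
      exact (disjoint_opensRange_sigmaι (fun c => (Z c).left) b c₀ hab).le_bot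
        (show h (ℓ o) ∈ _ ⊓ _ from ⟨h2, h1⟩)
  let l := IsOpenImmersion.lift (W c₀).ι ℓ hr'
  have hl : l ≫ (W c₀).ι = ℓ := IsOpenImmersion.lift_fac _ _ _
  let z : (Scheme.pointSmallEtale ξ).fiber.obj (piece ((EtCoh.bc f).obj V) (W c₀)) :=
    (Over.homMk l (((Category.assoc _ _ _).symm.trans (congrArg (· ≫ _) hl)).trans
        (pullback.lift_snd _ _ _)) :
      Over.mk ξ ⟶ (Scheme.Etale.forget X).obj (piece ((EtCoh.bc f).obj V) (W c₀)))
  have hz : (Scheme.pointSmallEtale ξ).fiber.map (pieceHom ((EtCoh.bc f).obj V) (W c₀)) z =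
      bcPt f ξ hξ V φ := Over.OverMorphism.ext hl
  have hlk : l ≫ k c₀ = x₁ := by
    refine (cancel_mono (Sigma.ι (fun c => (Z c).left) c₀)).1 ?_
    rw [Category.assoc, hk, ← Category.assoc, hl, hℓ]
  rw [← hz, ← germ_res]
  refine (congrArg (germ ξ F _ z) (hr c₀)).trans ?_
  rw [germ_res]
  exact congrArg (fun w => germ ξ F (Z c₀) w (t' c₀)) (Over.OverMorphism.ext hlk)

set_option backward.isDefEq.respectTransparency.types false in
/-- The comparison map at a single point is surjective. -/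
theorem surjective_cmpAt (F : EtCoh.Ab X) (ξ : Spec (CommRingCat.of L) ⟶ X) (hξ : ξ ≫ f = η) :
    Function.Surjective (cmpAt f ξ hξ F) := by
  intro q
  obtain ⟨U, x, t, rfl⟩ := exists_germ_eq ξ F q
  exact exists_cmpAt_of_family f η F ξ hξ
    (fun c : ULift.{u} Bool => match c with
      | ⟨true⟩ => U
      | ⟨false⟩ => Scheme.Etale.mk (𝟙 X))
    (fun x' _ => ⟨⟨false⟩, x', rfl⟩)
    (fun c => match c with
      | ⟨true⟩ => t
      | ⟨false⟩ => 0) ⟨true⟩ x

end Scheme

variable {X Y X' Y' : Scheme.{u}} (f : X ⟶ Y) (g : Y' ⟶ Y) (f' : X' ⟶ Y') (g' : X' ⟶ X)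
  {L : Type u} [Field L] [IsAlgClosed L] (η' : Spec (CommRingCat.of L) ⟶ Y')

/-- The point of the geometric fibre. -/
noncomputable abbrev fibPt (ξ' : Spec (CommRingCat.of L) ⟶ X') (h : ξ' ≫ f' = η') :
    Spec (CommRingCat.of L) ⟶ pullback f' η' :=
  pullback.lift ξ' (𝟙 _) (h.trans (Category.id_comp η').symm)

set_option backward.isDefEq.respectTransparency.types false in
theorem exists_fibPt [IsIntegralHom f'] (x : (pullback f' η' : Scheme.{u})) :
    ∃ ξ' h, fibPt f' η' ξ' h default = x := by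
  obtain ⟨s, hs, hsx⟩ := exists_point_over (pullback.snd f' η') (𝟙 _) x
    (Subsingleton.elim (α := Spec (CommRingCat.of L)) _ _)
  have hf : (s ≫ pullback.fst f' η') ≫ f' = η' := by
    rw [Category.assoc, pullback.condition, ← Category.assoc, hs, Category.id_comp]
  refine ⟨s ≫ pullback.fst f' η', hf, ?_⟩
  rw [show fibPt f' η' (s ≫ pullback.fst f' η') hf = s from
    pullback.hom_ext (pullback.lift_fst _ _ _) ((pullback.lift_snd _ _ _).trans hs.symm)]
  exact hsx

set_option backward.isDefEq.respectTransparency.types false in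
/-- The locus where an element of the stalk vanishes in the stalks above is open. -/
theorem exists_isOpen_cmpAt_eq_zero (G : EtCoh.Ab X')
    (d : (EtCoh.stalk η').obj ((EtCoh.push f').obj G)) :
    ∃ Z : Set (pullback f' η' : Scheme.{u}), IsOpen Z ∧
      ∀ ξ' h, fibPt f' η' ξ' h default ∈ Z ↔ cmpAt f' ξ' h G d = 0 := by
  obtain ⟨V, φ, s, rfl⟩ := exists_germ_eq η' ((EtCoh.push f').obj G) d
  let S : ((EtCoh.bc f').obj V).left → Prop := fun x =>
    ∃ (W : X'.Etale) (k : W ⟶ (EtCoh.bc f').obj V) (w : W.left),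
      G.obj.map k.op s = 0 ∧ k.left w = x
  have hS : IsOpen {x | S x} := by
    rw [isOpen_iff_forall_mem_open]
    rintro x ⟨W, k, w, hk, hw⟩
    haveI : Etale k.left := by
      haveI : Etale ((EtCoh.bc f').obj V).hom := ((EtCoh.bc f').obj V).prop
      haveI : Etale (k.left ≫ ((EtCoh.bc f').obj V).hom) := by
        rw [MorphismProperty.Over.w k]; exact W.prop
      exact Etale.of_comp k.left ((EtCoh.bc f').obj V).hom
    exact ⟨Set.range k.left, by rintro _ ⟨w', rfl⟩; exact ⟨W, k, w', hk, rfl⟩,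
      k.left.isOpenMap.isOpen_range, w, hw⟩
  let m : pullback f' η' ⟶ ((EtCoh.bc f').obj V).left :=
    pullback.lift (pullback.snd f' η' ≫ φ.left) (pullback.fst f' η')
      ((Category.assoc _ _ _).trans ((congrArg (_ ≫ ·) (Over.w φ)).trans pullback.condition.symm))
  refine ⟨m ⁻¹' {x | S x}, hS.preimage m.continuous, fun ξ' h => ?_⟩
  have hm : fibPt f' η' ξ' h ≫ m = (bcPt f' ξ' h V φ).left := by
    refine pullback.hom_ext ?_ ?_
    · refine (Category.assoc _ _ _).trans ((congrArg (_ ≫ ·) (pullback.lift_fst _ _ _)).trans ?_)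
      exact (Category.assoc _ _ _).symm.trans ((congrArg (· ≫ φ.left) (pullback.lift_snd _ _ _)).trans
        ((Category.id_comp _).trans (pullback.lift_fst _ _ _).symm))
    · exact (Category.assoc _ _ _).trans ((congrArg (_ ≫ ·) (pullback.lift_snd _ _ _)).trans
        ((pullback.lift_fst _ _ _).trans (pullback.lift_snd _ _ _).symm))
  show S (m (fibPt f' η' ξ' h default)) ↔ _
  rw [← Scheme.Hom.comp_apply, hm, cmpAt_germ]
  constructor
  · rintro ⟨W, k, w, hk, hw⟩
    haveI : Etale k.left := by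
      haveI : Etale ((EtCoh.bc f').obj V).hom := ((EtCoh.bc f').obj V).prop
      haveI : Etale (k.left ≫ ((EtCoh.bc f').obj V).hom) := by
        rw [MorphismProperty.Over.w k]; exact W.prop
      exact Etale.of_comp k.left ((EtCoh.bc f').obj V).hom
    obtain ⟨l, hl, -⟩ := Scheme.exists_fac_of_etale_of_isSepClosed k.left
      (bcPt f' ξ' h V φ).left w hw
    let z : (Scheme.pointSmallEtale ξ').fiber.obj W := (Over.homMk l (by
      show l ≫ W.hom = ξ'
      rw [← MorphismProperty.Over.w k, ← Category.assoc, hl]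
      exact Over.w (bcPt f' ξ' h V φ)) : Over.mk ξ' ⟶ (Scheme.Etale.forget X').obj W)
    rw [show bcPt f' ξ' h V φ = (Scheme.pointSmallEtale ξ').fiber.map k z from
      (Over.OverMorphism.ext hl).symm, ← germ_res, hk, map_zero]
  · intro h0
    have h0' : germ ξ' G ((EtCoh.bc f').obj V) (bcPt f' ξ' h V φ) s =
        germ ξ' G ((EtCoh.bc f').obj V) (bcPt f' ξ' h V φ) 0 := h0.trans (map_zero _).symm
    obtain ⟨W, k, z, hz, hk⟩ := (germ_eq_iff ξ' G _ _ _ _).1 h0'
    exact ⟨W, k, z.left (default : Spec (CommRingCat.of L)), hk.trans (map_zero _),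
      congrArg (fun q => q.left (default : Spec (CommRingCat.of L))) hz⟩

variable (F : EtCoh.Ab X)

/-- The subsets of the geometric fibre along which germs can be patched. -/
def CanPatch (w : g' ≫ f = f' ≫ g) (C : Set (pullback f' η' : Scheme.{u})) : Prop :=
  ∀ p₁ p₂ : (EtCoh.stalk (η' ≫ g)).obj ((EtCoh.push f).obj F),
    ∃ p, ∀ ξ' (h : ξ' ≫ f' = η'),
      (fibPt f' η' ξ' h default ∈ C →
        cmpAt f (ξ' ≫ g') (by rw [Category.assoc, w, ← Category.assoc, h]) F p =
          cmpAt f (ξ' ≫ g') (by rw [Category.assoc, w, ← Category.assoc, h]) F p₁) ∧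
      (fibPt f' η' ξ' h default ∉ C →
        cmpAt f (ξ' ≫ g') (by rw [Category.assoc, w, ← Category.assoc, h]) F p =
          cmpAt f (ξ' ≫ g') (by rw [Category.assoc, w, ← Category.assoc, h]) F p₂)

variable {f g f' g' η' F}

theorem CanPatch.inter {w : g' ≫ f = f' ≫ g} {C D : Set (pullback f' η' : Scheme.{u})}
    (hC : CanPatch f g f' g' η' F w C) (hD : CanPatch f g f' g' η' F w D) :
    CanPatch f g f' g' η' F w (C ∩ D) := fun p₁ p₂ => by
  obtain ⟨q, hq⟩ := hD p₁ p₂
  obtain ⟨p, hp⟩ := hC q p₂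
  refine ⟨p, fun ξ' h => ⟨fun hm => ((hp ξ' h).1 hm.1).trans ((hq ξ' h).1 hm.2), fun hm => ?_⟩⟩
  by_cases hc : fibPt f' η' ξ' h default ∈ C
  · exact ((hp ξ' h).1 hc).trans ((hq ξ' h).2 fun hd => hm ⟨hc, hd⟩)
  · exact (hp ξ' h).2 hc

theorem canPatch_univ {w : g' ≫ f = f' ≫ g} : CanPatch f g f' g' η' F w Set.univ :=
  fun p₁ _ => ⟨p₁, fun _ _ => ⟨fun _ => rfl, fun h => absurd trivial h⟩⟩

variable [IsIntegralHom f] [IsIntegralHom f']

set_option backward.isDefEq.respectTransparency.types false in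
/-- Two points of the geometric fibre are separated by a clopen subset admitting patching. -/
theorem exists_canPatch_separating (h : IsPullback g' f' f g)
    {x y : (pullback f' η' : Scheme.{u})} (hxy : x ≠ y) :
    ∃ C, IsClopen C ∧ CanPatch f g f' g' η' F h.w C ∧ x ∈ C ∧ y ∉ C := by
  obtain ⟨ξ₁, h₁, rfl⟩ := exists_fibPt f' η' x
  obtain ⟨ξ₂, h₂, rfl⟩ := exists_fibPt f' η' y
  have hξ : ∀ ξ' : Spec (CommRingCat.of L) ⟶ X', ξ' ≫ f' = η' → (ξ' ≫ g') ≫ f = η' ≫ g :=
    fun ξ' e => by rw [Category.assoc, h.w, ← Category.assoc, e]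
  have hne : ξ₁ ≫ g' ≠ ξ₂ ≫ g' := fun hc => hxy (by
    have : ξ₁ = ξ₂ := h.hom_ext hc (h₁.trans h₂.symm)
    subst this
    rfl)
  obtain ⟨V, φ, W, hd, hcov, hW₁, hW₂⟩ :=
    exists_separation f (η' ≫ g) (hξ ξ₁ h₁) (hξ ξ₂ h₂) hne
  let κ : pullback f' η' ⟶ ((EtCoh.bc f).obj V).left :=
    pullback.lift (pullback.snd f' η' ≫ φ.left) (pullback.fst f' η' ≫ g') (by
      refine (Category.assoc _ _ _).trans ((congrArg (_ ≫ ·) (Over.w φ)).trans ?_)
      show pullback.snd f' η' ≫ η' ≫ g = _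
      rw [Category.assoc, h.w, pullback.condition_assoc])
  have hκ : ∀ ξ' (e : ξ' ≫ f' = η'), κ (fibPt f' η' ξ' e default) =
      (bcPt f (ξ' ≫ g') (hξ ξ' e) V φ).left (default : Spec (CommRingCat.of L)) := fun ξ' e => by
    rw [← Scheme.Hom.comp_apply]
    refine congrArg (fun k : Spec (CommRingCat.of L) ⟶ ((EtCoh.bc f).obj V).left => k default)
      (pullback.hom_ext ?_ ?_)
    · exact (Category.assoc _ _ _).trans ((congrArg (_ ≫ ·) (pullback.lift_fst _ _ _)).trans
        ((Category.assoc _ _ _).symm.trans ((congrArg (· ≫ φ.left) (pullback.lift_snd _ _ _)).trans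
          ((Category.id_comp _).trans (pullback.lift_fst _ _ _).symm))))
    · exact (Category.assoc _ _ _).trans ((congrArg (_ ≫ ·) (pullback.lift_snd _ _ _)).trans
        ((Category.assoc _ _ _).symm.trans ((congrArg (· ≫ g') (pullback.lift_fst _ _ _)).trans
          (pullback.lift_snd _ _ _).symm)))
  have hnot : ∀ z, z ∉ W true ↔ z ∈ W false := fun z => by
    obtain ⟨c, hc⟩ := hcov z
    constructor
    · intro hz; cases c
      · exact hc
      · exact absurd hc hz
    · exact fun hf ht => (hd true false (by decide)).le_bot (show z ∈ _ ⊓ _ from ⟨ht, hf⟩)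
  refine ⟨κ ⁻¹' (W true : Set _), ⟨?_, (W true).isOpen.preimage κ.continuous⟩, fun p₁ p₂ => ?_,
    by rw [Set.mem_preimage, hκ]; exact hW₁, by rw [Set.mem_preimage, hκ]; exact (hnot _).2 hW₂⟩
  · rw [← isOpen_compl_iff]
    have : (κ ⁻¹' (W true : Set _))ᶜ = κ ⁻¹' (W false : Set _) := Set.ext fun z => hnot (κ z)
    rw [this]
    exact (W false).isOpen.preimage κ.continuous
  obtain ⟨q, hq⟩ := exists_glue_germs f (η' ≫ g) F V φ W hd hcov fun c => bif c then p₁ else p₂
  refine ⟨q, fun ξ' e => ⟨fun hm => hq true _ _ ?_, fun hm => hq false _ _ ?_⟩⟩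
  · rw [← hκ ξ' e]; exact hm
  · rw [← hκ ξ' e]; exact (hnot _).1 hm

variable (f g f' g')

set_option backward.isDefEq.respectTransparency.types false in
omit [IsAlgClosed L] in
/-- Base change along integral morphisms. -/
theorem isIso_baseChange0_integral (h : IsPullback g' f' f g) (F : EtCoh.Ab X) :
    IsIso (EtCoh.baseChange0 f g f' g' h.w F) := by
  classical
  refine isIso_of_stalk _ fun Ω _ _ η₀ => ?_
  let L := AlgebraicClosure Ω
  let σ : Spec (CommRingCat.of L) ⟶ Spec (CommRingCat.of Ω) :=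
    Spec.map (CommRingCat.ofHom (algebraMap Ω L))
  refine (NatIso.isIso_map_iff (stalkExtIso σ η₀) _).2 ?_
  let η' := σ ≫ η₀
  let e := (stalkPullIso g η').app ((EtCoh.push f).obj F)
  let T := (EtCoh.stalk η').map (EtCoh.baseChange0 f g f' g' h.w F)
  suffices Function.Bijective T from (ConcreteCategory.isIso_iff_bijective _).2 this
  have hee : ∀ q, e.inv (e.hom q) = q := fun q => congrArg (fun k => k q) e.hom_inv_id
  have hξ : ∀ ξ' : Spec (CommRingCat.of L) ⟶ X', ξ' ≫ f' = η' → (ξ' ≫ g') ≫ f = η' ≫ g :=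
    fun ξ' e => by rw [Category.assoc, h.w, ← Category.assoc, e]
  have key : ∀ (p : (EtCoh.stalk (η' ≫ g)).obj ((EtCoh.push f).obj F))
      (ξ' : Spec (CommRingCat.of L) ⟶ X') (h' : ξ' ≫ f' = η'),
      cmpAt f' ξ' h' ((EtCoh.pull g').obj F) (T (e.inv p)) =
      (stalkPullIso g' ξ').inv.app F (cmpAt f (ξ' ≫ g') (hξ ξ' h') F p) := fun p ξ' h' =>
    cmpAt_baseChange0 f g f' g' h.w ξ' F h' _ p
  constructor
  · rw [injective_iff_map_eq_zero]
    intro q hq
    have : e.hom q = 0 := eq_zero_of_cmpAt f (η' ≫ g) F _ fun ξ hξ' => by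
      let ξ' := h.lift ξ η' hξ'
      have hk := key (e.hom q) ξ' (h.lift_snd _ _ _)
      rw [hee, hq, map_zero] at hk
      have := congrArg ((stalkPullIso g' ξ').hom.app F) hk
      rw [map_zero, ← ConcreteCategory.comp_apply, Iso.inv_hom_id_app,
        ConcreteCategory.id_apply] at this
      have haux : ∀ ξ₁ (_ : ξ₁ = ξ) (h₁ : ξ₁ ≫ f = η' ≫ g),
          cmpAt f ξ₁ h₁ F (e.hom q) = 0 → cmpAt f ξ hξ' F (e.hom q) = 0 := by
        rintro _ rfl _ h0
        exact h0
      exact haux (ξ' ≫ g') (h.lift_fst _ _ _) _ this.symm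
    rw [← hee q, this, map_zero]
  intro r
  let G := (EtCoh.pull g').obj F
  let P := (pullback f' η' : Scheme.{u})
  -- the points of the fibre at which `p` has the required image
  let good : (EtCoh.stalk (η' ≫ g)).obj ((EtCoh.push f).obj F) → P → Prop := fun p x =>
    ∀ ξ' h', fibPt f' η' ξ' h' default = x → cmpAt f' ξ' h' G (T (e.inv p)) = cmpAt f' ξ' h' G r
  have hcongr : ∀ p q ξ' (h' : ξ' ≫ f' = η'),
      cmpAt f (ξ' ≫ g') (hξ ξ' h') F p = cmpAt f (ξ' ≫ g') (hξ ξ' h') F q →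
      cmpAt f' ξ' h' G (T (e.inv p)) = cmpAt f' ξ' h' G (T (e.inv q)) := fun p q ξ' h' hpq => by
    rw [key, key, hpq]
  haveI : IsAffine P := isAffine_of_isAffineHom (pullback.snd f' η')
  haveI : CompactSpace P := inferInstance
  have hloc : ∀ x : P, ∃ (C : Set P) (p : (EtCoh.stalk (η' ≫ g)).obj ((EtCoh.push f).obj F)),
      IsClopen C ∧ CanPatch f g f' g' η' F h.w C ∧ x ∈ C ∧ ∀ z ∈ C, good p z := by
    intro x
    obtain ⟨ξ₀, h₀, rfl⟩ := exists_fibPt f' η' x
    obtain ⟨p, hp⟩ := surjective_cmpAt f (η' ≫ g) F (ξ₀ ≫ g') (hξ ξ₀ h₀)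
      ((stalkPullIso g' ξ₀).hom.app F (cmpAt f' ξ₀ h₀ G r))
    obtain ⟨Z, hZo, hZ⟩ := exists_isOpen_cmpAt_eq_zero f' η' G (T (e.inv p) - r)
    have hx : fibPt f' η' ξ₀ h₀ default ∈ Z := (hZ ξ₀ h₀).2 (by
      rw [map_sub, sub_eq_zero, key, hp]
      exact ConcreteCategory.congr_hom ((stalkPullIso g' ξ₀).hom_inv_id_app F) _)
    choose C hC hCp hxC hyC using fun y : (Zᶜ : Set P) =>
      exists_canPatch_separating (F := F) h (fun hc : fibPt f' η' ξ₀ h₀ default = y.1 =>
        y.2 (hc ▸ hx))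
    obtain ⟨t, ht⟩ := hZo.isClosed_compl.isCompact.elim_finite_subcover (fun y => (C y)ᶜ)
      (fun y => (hC y).compl.isOpen) (fun y hy => Set.mem_iUnion.2 ⟨⟨y, hy⟩, hyC ⟨y, hy⟩⟩)
    refine ⟨⋂ y ∈ t, C y, p, isClopen_biInter_finset fun y _ => hC y, ?_,
      Set.mem_iInter₂.2 fun y _ => hxC y, fun z hz ξ' h' hz' => ?_⟩
    · clear ht
      induction t using Finset.induction with
      | empty => simpa using canPatch_univ
      | insert a t ha ih => rw [Finset.set_biInter_insert]; exact (hCp a).inter ih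
    · have hzZ : z ∈ Z := by
        by_contra hn
        obtain ⟨y, hy, hzy⟩ := Set.mem_iUnion₂.1 (ht hn)
        exact hzy (Set.mem_iInter₂.1 hz y hy)
      have := (hZ ξ' h').1 (hz'.symm ▸ hzZ)
      rwa [map_sub, sub_eq_zero] at this
  choose C p hC hCp hxC hgood using hloc
  obtain ⟨t, ht⟩ := isCompact_univ.elim_finite_subcover C (fun x => (hC x).isOpen)
    fun x _ => Set.mem_iUnion.2 ⟨x, hxC x⟩
  suffices ∀ t : Finset P, ∃ q, ∀ z ∈ ⋃ x ∈ t, C x, good q z by
    obtain ⟨q, hq⟩ := this t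
    refine ⟨e.inv q, sub_eq_zero.1 (eq_zero_of_cmpAt f' η' G _ fun ξ' h' => ?_)⟩
    rw [map_sub, sub_eq_zero]
    exact hq _ (ht trivial) ξ' h' rfl
  intro t
  induction t using Finset.induction with
  | empty => exact ⟨0, fun z hz => absurd hz (by simp)⟩
  | insert a t ha ih =>
    obtain ⟨q, hq⟩ := ih
    obtain ⟨q', hq'⟩ := hCp a (p a) q
    refine ⟨q', fun z hz ξ' h' hz' => ?_⟩
    by_cases hza : z ∈ C a
    · exact (hcongr _ _ ξ' h' ((hq' ξ' h').1 (hz'.symm ▸ hza))).trans (hgood a z hza ξ' h' hz')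
    · refine (hcongr _ _ ξ' h' ((hq' ξ' h').2 (hz'.symm ▸ hza))).trans (hq z ?_ ξ' h' hz')
      rw [Finset.set_biUnion_insert] at hz
      exact hz.resolve_left hza

end Groth.Agent.EtaleSite
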