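import Groth.Prelude.Def_EtBase
import Mathlib.Algebra.Homology.ShortComplex.ExactFunctor
import Mathlib.Algebra.Homology.ShortComplex.Ab
import Mathlib.CategoryTheory.Preadditive.AdditiveFunctor

/-!
# Stalks on the small étale site

Exactness of `EtCoh.stalk`, and the fact that stalks at geometric points detect zero sections,
monomorphisms, epimorphisms, isomorphisms, zero objects and exactness.
-/

universe u

open CategoryTheory CategoryTheory.Limits AlgebraicGeometry Opposite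

namespace Groth.Agent.EtaleSite

instance instAB5AddCommGrp : AB5OfSize.{u, u} AddCommGrpCat.{u + 1} :=
  AB5OfSize_of_univLE.{u, u, u + 1, u + 1} _

instance instPreservesFilteredColimitsForgetAddCommGrp :
    PreservesFilteredColimitsOfSize.{u, u} (forget AddCommGrpCat.{u + 1}) :=
  preservesFilteredColimitsOfSize_of_univLE.{u + 1, u + 1} _

variable {X : Scheme.{u}}

instance preservesFiniteLimits_stalk {Ω : Type u} [Field Ω] [IsSepClosed Ω]
    (ξ : Spec (CommRingCat.of Ω) ⟶ X) : PreservesFiniteLimits (EtCoh.stalk ξ) :=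
  inferInstance

instance additive_stalk {Ω : Type u} [Field Ω] [IsSepClosed Ω]
    (ξ : Spec (CommRingCat.of Ω) ⟶ X) : (EtCoh.stalk ξ).Additive :=
  Functor.additive_of_preserves_binary_products _

/-- The germ at `x` of sections over `U`. -/
noncomputable abbrev germ {Ω : Type u} [Field Ω] [IsSepClosed Ω]
    (ξ : Spec (CommRingCat.of Ω) ⟶ X) (F : EtCoh.Ab X) (U : X.Etale)
    (x : (Scheme.pointSmallEtale ξ).fiber.obj U) :
    F.obj.obj (op U) ⟶ (EtCoh.stalk ξ).obj F :=
  (Scheme.pointSmallEtale ξ).toPresheafFiber U x F.obj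

section Germ

variable {Ω : Type u} [Field Ω] [IsSepClosed Ω] (ξ : Spec (CommRingCat.of Ω) ⟶ X)

theorem germ_naturality {F G : EtCoh.Ab X} (a : F ⟶ G) (U : X.Etale)
    (x : (Scheme.pointSmallEtale ξ).fiber.obj U) (s : F.obj.obj (op U)) :
    (EtCoh.stalk ξ).map a (germ ξ F U x s) = germ ξ G U x (a.hom.app (op U) s) :=
  (Scheme.pointSmallEtale ξ).toPresheafFiber_naturality_apply a.hom U x s

theorem germ_res (F : EtCoh.Ab X) {V U : X.Etale} (g : V ⟶ U)
    (y : (Scheme.pointSmallEtale ξ).fiber.obj V) (s : F.obj.obj (op U)) :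
    germ ξ F V y (F.obj.map g.op s) =
      germ ξ F U ((Scheme.pointSmallEtale ξ).fiber.map g y) s :=
  (Scheme.pointSmallEtale ξ).toPresheafFiber_w_apply g y F.obj s

theorem exists_germ_eq (F : EtCoh.Ab X) (p : ↑((EtCoh.stalk ξ).obj F)) :
    ∃ (U : X.Etale) (x : (Scheme.pointSmallEtale ξ).fiber.obj U) (s : F.obj.obj (op U)),
      germ ξ F U x s = p :=
  (Scheme.pointSmallEtale ξ).toPresheafFiber_jointly_surjective p

theorem germ_eq_iff (F : EtCoh.Ab X) (U : X.Etale)
    (x : (Scheme.pointSmallEtale ξ).fiber.obj U) (s t : F.obj.obj (op U)) :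
    germ ξ F U x s = germ ξ F U x t ↔
      ∃ (V : X.Etale) (g : V ⟶ U) (y : (Scheme.pointSmallEtale ξ).fiber.obj V),
        (Scheme.pointSmallEtale ξ).fiber.map g y = x ∧ F.obj.map g.op s = F.obj.map g.op t :=
  (Scheme.pointSmallEtale ξ).toPresheafFiber_eq_iff' U x s t

end Germ

/-- A sieve of the small étale site that reaches every point is covering. -/
theorem mem_topology_of_forall_exists {U : X.Etale} (S : Sieve U)
    (h : ∀ u : U.left, ∃ (V : X.Etale) (g : V ⟶ U) (v : V.left), S g ∧ g.left v = u) :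
    S ∈ X.smallEtaleTopology U := by
  obtain ⟨ι, Z, f, rfl⟩ := S.exists_eq_ofArrows
  rw [Scheme.ofArrows_mem_smallEtaleTopology_iff]
  ext u
  simp only [Set.mem_iUnion, Set.mem_range, Set.mem_univ, iff_true]
  obtain ⟨V, g, v, ⟨W, p, q, ⟨i⟩, rfl⟩, rfl⟩ := h u
  exact ⟨i, p.left v, rfl⟩

/-- The geometric point over a point of a scheme, with values in a separable closure of its
residue field. -/
noncomputable def geomPointAt (U : Scheme.{u}) (x : U) :
    Spec (CommRingCat.of (SeparableClosure (U.residueField x))) ⟶ U :=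
  Spec.map (CommRingCat.ofHom (algebraMap (U.residueField x) (SeparableClosure (U.residueField x))))
    ≫ U.fromSpecResidueField x

theorem geomPointAt_apply (U : Scheme.{u}) (x : U)
    (a : Spec (CommRingCat.of (SeparableClosure (U.residueField x)))) :
    geomPointAt U x a = x := by
  rw [geomPointAt, Scheme.Hom.comp_apply]
  exact Scheme.fromSpecResidueField_apply _ _

/-- Criterion for a property of morphisms to `U` to hold on a covering sieve: it holds near
every geometric point of `U`. -/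
theorem mem_topology_of_forall_geomPoint {U : X.Etale} (S : Sieve U)
    (h : ∀ (Ω : Type u) [Field Ω] [IsSepClosed Ω] (ξ : Spec (CommRingCat.of Ω) ⟶ X)
      (x : (Scheme.pointSmallEtale ξ).fiber.obj U),
        ∃ (V : X.Etale) (g : V ⟶ U) (y : (Scheme.pointSmallEtale ξ).fiber.obj V),
          S g ∧ (Scheme.pointSmallEtale ξ).fiber.map g y = x) :
    S ∈ X.smallEtaleTopology U := by
  refine mem_topology_of_forall_exists S fun u => ?_
  let ζ := geomPointAt U.left u
  obtain ⟨V, g, y, hg, hy⟩ := h _ (ζ ≫ U.hom)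
    (Over.homMk ζ rfl : Over.mk (ζ ≫ U.hom) ⟶ (Scheme.Etale.forget X).obj U)
  let a : Spec (CommRingCat.of (SeparableClosure (U.left.residueField u))) := default
  refine ⟨V, g, y.left a, hg, ?_⟩
  have e : y.left ≫ g.left = ζ := congrArg (fun k => k.left) hy
  exact (congrArg (fun k => k a) e).trans (geomPointAt_apply U.left u a)

/-- A section all whose germs vanish is zero; equality version. -/
theorem sect_ext {F : EtCoh.Ab X} {U : X.Etale} (s t : F.obj.obj (op U))
    (h : ∀ (Ω : Type u) [Field Ω] [IsSepClosed Ω] (ξ : Spec (CommRingCat.of Ω) ⟶ X)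
      (x : (Scheme.pointSmallEtale ξ).fiber.obj U), germ ξ F U x s = germ ξ F U x t) :
    s = t := by
  have hS : Presheaf.equalizerSieve (F := F.obj) s t ∈ X.smallEtaleTopology U := by
    refine mem_topology_of_forall_geomPoint _ fun Ω _ _ ξ x => ?_
    obtain ⟨V, g, y, hy, e⟩ := (germ_eq_iff ξ F U x s t).1 (h Ω ξ x)
    exact ⟨V, g, y, e, hy⟩
  exact F.property.isSeparated _ _ hS s t fun V g hg => hg

theorem hom_ext_of_stalk {F G : EtCoh.Ab X} {a b : F ⟶ G}
    (h : ∀ (Ω : Type u) [Field Ω] [IsSepClosed Ω] (ξ : Spec (CommRingCat.of Ω) ⟶ X),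
      (EtCoh.stalk ξ).map a = (EtCoh.stalk ξ).map b) : a = b := by
  ext U s
  refine sect_ext (U := U.unop) _ _ fun Ω _ _ ξ x => ?_
  rw [← germ_naturality, ← germ_naturality, h]

theorem injective_app_of_stalk {F G : EtCoh.Ab X} (a : F ⟶ G)
    (h : ∀ (Ω : Type u) [Field Ω] [IsSepClosed Ω] (ξ : Spec (CommRingCat.of Ω) ⟶ X),
      Function.Injective ((EtCoh.stalk ξ).map a)) (U : X.Etaleᵒᵖ) :
    Function.Injective (a.hom.app U) := by
  intro s t hst
  refine sect_ext (U := U.unop) _ _ fun Ω _ _ ξ x => h Ω ξ ?_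
  rw [germ_naturality, germ_naturality, hst]

theorem mono_of_stalk {F G : EtCoh.Ab X} (a : F ⟶ G)
    (h : ∀ (Ω : Type u) [Field Ω] [IsSepClosed Ω] (ξ : Spec (CommRingCat.of Ω) ⟶ X),
      Function.Injective ((EtCoh.stalk ξ).map a)) : Mono a := by
  have : ∀ U, Mono (a.hom.app U) := fun U =>
    (AddCommGrpCat.mono_iff_injective _).2 (injective_app_of_stalk a h U)
  have : Mono a.hom := NatTrans.mono_of_mono_app _
  exact (sheafToPresheaf _ _).mono_of_mono_map this

theorem isLocallySurjective_of_stalk {F G : EtCoh.Ab X} (a : F ⟶ G)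
    (h : ∀ (Ω : Type u) [Field Ω] [IsSepClosed Ω] (ξ : Spec (CommRingCat.of Ω) ⟶ X),
      Function.Surjective ((EtCoh.stalk ξ).map a)) : Sheaf.IsLocallySurjective a := by
  constructor
  intro U t
  refine mem_topology_of_forall_geomPoint _ fun Ω _ _ ξ x => ?_
  obtain ⟨p, hp⟩ := h Ω ξ (germ ξ G U x t)
  obtain ⟨V, y, s, rfl⟩ := exists_germ_eq ξ F p
  rw [germ_naturality] at hp
  -- a common refinement of the two neighbourhoods
  obtain ⟨z, ⟨p₁, hp₁⟩, ⟨p₂, hp₂⟩, -⟩ :=
    IsCofilteredOrEmpty.cone_objs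
      ((Scheme.pointSmallEtale ξ).fiber.elementsMk _ x)
      ((Scheme.pointSmallEtale ξ).fiber.elementsMk _ y)
  have hz : germ ξ G z.1 z.2 (G.obj.map p₂.op (a.hom.app _ s)) =
      germ ξ G z.1 z.2 (G.obj.map p₁.op t) := by
    rw [germ_res, germ_res, hp₁, hp₂]
    exact hp
  obtain ⟨W, g, w, hw, hst⟩ := (germ_eq_iff ξ G z.1 z.2 _ _).1 hz
  refine ⟨W, g ≫ p₁, w, ⟨F.obj.map (g ≫ p₂).op s, ?_⟩, ?_⟩
  · rw [NatTrans.naturality_apply, op_comp, op_comp, Functor.map_comp, Functor.map_comp]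
    exact hst
  · rw [Functor.map_comp]
    exact (congrArg _ hw).trans hp₁

theorem epi_of_stalk {F G : EtCoh.Ab X} (a : F ⟶ G)
    (h : ∀ (Ω : Type u) [Field Ω] [IsSepClosed Ω] (ξ : Spec (CommRingCat.of Ω) ⟶ X),
      Function.Surjective ((EtCoh.stalk ξ).map a)) : Epi a :=
  have := isLocallySurjective_of_stalk a h
  inferInstance

theorem isIso_of_stalk {F G : EtCoh.Ab X} (a : F ⟶ G)
    (h : ∀ (Ω : Type u) [Field Ω] [IsSepClosed Ω] (ξ : Spec (CommRingCat.of Ω) ⟶ X),
      IsIso ((EtCoh.stalk ξ).map a)) : IsIso a :=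
  have := mono_of_stalk a fun Ω _ _ ξ =>
    have := h Ω ξ
    (ConcreteCategory.bijective_of_isIso ((EtCoh.stalk ξ).map a)).1
  have := epi_of_stalk a fun Ω _ _ ξ =>
    have := h Ω ξ
    (ConcreteCategory.bijective_of_isIso ((EtCoh.stalk ξ).map a)).2
  isIso_of_mono_of_epi a

theorem isZero_iff_stalk (F : EtCoh.Ab X) :
    IsZero F ↔ ∀ (Ω : Type u) [Field Ω] [IsSepClosed Ω] (ξ : Spec (CommRingCat.of Ω) ⟶ X),
      IsZero ((EtCoh.stalk ξ).obj F) := by
  refine ⟨fun h Ω _ _ ξ => (EtCoh.stalk ξ).map_isZero h, fun h => ?_⟩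
  rw [IsZero.iff_id_eq_zero]
  exact hom_ext_of_stalk fun Ω _ _ ξ => (h Ω ξ).eq_of_src _ _

theorem mono_iff_stalk {F G : EtCoh.Ab X} (a : F ⟶ G) :
    Mono a ↔ ∀ (Ω : Type u) [Field Ω] [IsSepClosed Ω] (ξ : Spec (CommRingCat.of Ω) ⟶ X),
      Function.Injective ((EtCoh.stalk ξ).map a) :=
  ⟨fun _ Ω _ _ ξ => (AddCommGrpCat.mono_iff_injective _).1 inferInstance, mono_of_stalk a⟩

theorem epi_iff_stalk {F G : EtCoh.Ab X} (a : F ⟶ G) :
    Epi a ↔ ∀ (Ω : Type u) [Field Ω] [IsSepClosed Ω] (ξ : Spec (CommRingCat.of Ω) ⟶ X),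
      Function.Surjective ((EtCoh.stalk ξ).map a) :=
  ⟨fun _ Ω _ _ ξ => (AddCommGrpCat.epi_iff_surjective _).1 inferInstance, epi_of_stalk a⟩

theorem exact_iff_stalk (S : ShortComplex (EtCoh.Ab X)) :
    S.Exact ↔ ∀ (Ω : Type u) [Field Ω] [IsSepClosed Ω] (ξ : Spec (CommRingCat.of Ω) ⟶ X),
      (S.map (EtCoh.stalk ξ)).Exact := by
  refine ⟨fun h Ω _ _ ξ => h.map _, fun h => ?_⟩
  rw [ShortComplex.exact_iff_isZero_homology, isZero_iff_stalk]
  intro Ω _ _ ξ
  exact ((ShortComplex.exact_iff_isZero_homology _).1 (h Ω ξ)).of_iso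
    (S.mapHomologyIso (EtCoh.stalk ξ)).symm

end Groth.Agent.EtaleSite
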