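import Groth.Agent.EtaleSite.CechPre
import Mathlib.CategoryTheory.Limits.Constructions.Over.Products
import Mathlib.CategoryTheory.Limits.Constructions.FiniteProductsOfBinaryProducts
import Mathlib.CategoryTheory.Limits.Preserves.Shapes.Products

/-!
# Čech complexes and functors preserving fibre products
-/

set_option autoImplicit false

universe w v v' u u'

open CategoryTheory CategoryTheory.Limits Opposite

noncomputable section

namespace Groth.Agent.EtaleSite.CechPre

variable {C : Type u} [Category.{v} C] {D : Type u'} [Category.{v'} D] (G : C ⥤ D)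
  [PreservesLimitsOfShape WalkingCospan G] {U : C}

/-- Over categories: a functor preserving fibre products preserves finite products. -/
theorem preservesFiniteProducts_post [HasFiniteProducts (Over U)] :
    PreservesFiniteProducts (Over.post (X := U) G) := by
  have hb : PreservesLimitsOfShape (Discrete WalkingPair) (Over.post (X := U) G) :=
    ⟨fun {K} => by
      suffices PreservesLimit (pair (K.obj ⟨WalkingPair.left⟩) (K.obj ⟨WalkingPair.right⟩))
          (Over.post (X := U) G) from
        preservesLimit_of_iso_diagram _ (diagramIsoPair K).symm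
      refine preservesLimit_of_preserves_limit_cone (prodIsProd _ _) ?_
      refine (isLimitMapConeBinaryFanEquiv _ _ _).symm ?_
      have h := Over.isPullback_of_binaryFan_isLimit _
        (prodIsProd (K.obj ⟨WalkingPair.left⟩) (K.obj ⟨WalkingPair.right⟩))
      have h' := (h.map G).isLimit
      exact (CategoryTheory.Limits.IsLimit.pullbackConeEquivBinaryFanFunctor h').ofIsoLimit
        (BinaryFan.ext (Over.isoMk (Iso.refl _) (by
          refine (Category.id_comp _).trans ?_
          exact (congrArg G.map (Over.w
            (prod.fst : K.obj ⟨WalkingPair.left⟩ ⨯ K.obj ⟨WalkingPair.right⟩ ⟶ _))).symm.trans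
              (G.map_comp _ _)))
          (Over.OverMorphism.ext (Category.id_comp _).symm)
          (Over.OverMorphism.ext (Category.id_comp _).symm))⟩
  have ht : PreservesLimitsOfShape (Discrete.{0} PEmpty) (Over.post (X := U) G) := by
    have : HasTerminal (Over (G.obj U)) := Over.mkIdTerminal.hasTerminal
    have : PreservesLimit (Functor.empty.{0} (Over U)) (Over.post (X := U) G) :=
      preservesLimit_of_preserves_limit_cone (Over.mkIdTerminal (X := U)) <|
        (isLimitMapConeEmptyConeEquiv _ _).symm
          (IsTerminal.ofIso Over.mkIdTerminal (Over.isoMk (Iso.refl _) (by simp [Over.post])))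
    exact preservesLimitsOfShape_pempty_of_preservesTerminal _
  exact PreservesFiniteProducts.of_preserves_binary_and_terminal (Over.post (X := U) G)

variable [HasFiniteProducts (Over U)] [HasFiniteProducts (Over (G.obj U))] {ι : Type w}
  (Uf : ι → Over U)

/-- The transported family. -/
abbrev postFam : ι → Over (G.obj U) := fun i => (Over.post G).obj (Uf i)

/-- The comparison of iterated fibre products. -/
def objIso {n : ℕ} (a : Fin (n + 1) → ι) : G.obj (obj Uf a) ≅ obj (postFam G Uf) a :=
  have := preservesFiniteProducts_post G (U := U)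
  (Over.forget _).mapIso (PreservesProduct.iso (Over.post G) (Uf ∘ a))

lemma objIso_π {n : ℕ} (a : Fin (n + 1) → ι) (k : Fin (n + 1)) :
    (objIso G Uf a).hom ≫ π (postFam G Uf) a k = G.map (π Uf a k) := by
  have := preservesFiniteProducts_post G (U := U)
  rw [objIso, Functor.mapIso_hom, PreservesProduct.iso_hom, π]
  exact congrArg CommaMorphism.left (piComparison_comp_π (Over.post G) (Uf ∘ a) k)

lemma objIso_face {n : ℕ} (a : Fin (n + 2) → ι) (k : Fin (n + 2)) :
    G.map (face Uf a k) ≫ (objIso G Uf (a ∘ k.succAbove)).hom =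
      (objIso G Uf a).hom ≫ face (postFam G Uf) a k :=
  hom_ext (postFam G Uf) fun j =>
    ((Category.assoc _ _ _).trans
      ((congrArg (G.map (face Uf a k) ≫ ·) (objIso_π G Uf _ j)).trans
        ((G.map_comp _ _).symm.trans (congrArg G.map (face_π Uf a k j))))).trans
      ((objIso_π G Uf a (k.succAbove j)).symm.trans
        ((congrArg ((objIso G Uf a).hom ≫ ·) (face_π (postFam G Uf) a k j)).symm.trans
          (Category.assoc _ _ _).symm))

/-- The degreewise comparison. -/
def cxIsoX (P : Dᵒᵖ ⥤ AddCommGrpCat.{w}) (n : ℕ) :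
    (EtCech.cechComplex (postFam G Uf) P).X n ≅ (EtCech.cechComplex Uf (G.op ⋙ P)).X n :=
  Pi.mapIso fun (a : Fin (n + 1) → ι) => P.mapIso (objIso G Uf a).op

lemma comp_cxIsoX (P : Dᵒᵖ ⥤ AddCommGrpCat.{w}) {n : ℕ} (a : Fin (n + 1) → ι)
    (x : (EtCech.cechComplex (postFam G Uf) P).X n) :
    comp Uf (G.op ⋙ P) a ((cxIsoX G Uf P n).hom x) =
      P.map (objIso G Uf a).hom.op (comp (postFam G Uf) P a x) :=
  ConcreteCategory.congr_hom
    (Limits.Pi.map_π (fun b : Fin (n + 1) → ι => (P.mapIso (objIso G Uf b).op).hom) a) x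

/-- The Čech complex of a restricted presheaf. -/
theorem nonempty_cechComplex_iso (P : Dᵒᵖ ⥤ AddCommGrpCat.{w}) :
    Nonempty (EtCech.cechComplex (postFam G Uf) P ≅ EtCech.cechComplex Uf (G.op ⋙ P)) := by
  refine ⟨HomologicalComplex.Hom.isoOfComponents (cxIsoX G Uf P) ?_⟩
  rintro n _ rfl
  ext c
  refine comp_ext Uf _ fun a => ?_
  refine (comp_d_apply Uf (G.op ⋙ P) a ((cxIsoX G Uf P n).hom c)).trans ?_
  refine Eq.trans ?_ (comp_cxIsoX G Uf P a
    ((EtCech.cechComplex (postFam G Uf) P).d n (n + 1) c)).symm
  rw [comp_d_apply, map_sum]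
  refine Finset.sum_congr rfl fun k _ => ?_
  rw [comp_cxIsoX, map_zsmul]
  congr 1
  refine ((ConcreteCategory.congr_hom (P.map_comp (objIso G Uf (a ∘ k.succAbove)).hom.op
    (G.map (face Uf a k)).op) _).symm.trans ?_).trans
    (ConcreteCategory.congr_hom (P.map_comp (face (postFam G Uf) a k).op (objIso G Uf a).hom.op) _)
  exact congrArg (fun q : G.obj (obj Uf a) ⟶ obj (postFam G Uf) (a ∘ k.succAbove) =>
    P.map q.op (comp (postFam G Uf) P (a ∘ k.succAbove) c)) (objIso_face G Uf a k)

end Groth.Agent.EtaleSite.CechPre
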