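import Groth.Agent.EtaleSite.PushFiber
import Groth.Prelude.Def_PBC
import Mathlib.CategoryTheory.Adjunction.FullyFaithful

/-!
# Full faithfulness and essential image of direct images along universally injective integral maps
-/

set_option linter.style.haveILetI false

universe u

open CategoryTheory CategoryTheory.Limits AlgebraicGeometry Opposite

namespace Groth.Agent.EtaleSite

variable {X Y : Scheme.{u}} (f : X ⟶ Y) [IsIntegralHom f]

/-- A finite morphism has finitely many points over a geometric point. -/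
theorem finite_points [IsFinite f] {L : Type u} [Field L] [IsAlgClosed L]
    (η : Spec (CommRingCat.of L) ⟶ Y) :
    Finite {ξ : Spec (CommRingCat.of L) ⟶ X // ξ ≫ f = η} := by
  obtain ⟨A, B, ψ, j, hj, e, η₀, rfl, hB⟩ := exists_affine_chart f η
  have hψ : ψ.hom.Finite :=
    (IsFinite.SpecMap_iff ψ).1 (MorphismProperty.of_isPullback hB inferInstance)
  obtain ⟨a, rfl⟩ := Spec.map_surjective η₀
  letI : Algebra A B := ψ.hom.toAlgebra
  haveI : Module.Finite A B := hψ
  letI : Algebra A L := a.hom.toAlgebra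
  haveI := finite_algHom (A := A) (B := B) L
  let Φ : (B →ₐ[A] L) → {ξ : Spec (CommRingCat.of L) ⟶ X // ξ ≫ f = Spec.map a ≫ j} := fun τ =>
    ⟨Spec.map (CommRingCat.ofHom τ.toRingHom) ≫ e, by
      rw [Category.assoc, hB.w, ← Category.assoc, ← Spec.map_comp]
      congr 2
      exact CommRingCat.hom_ext (RingHom.ext τ.commutes)⟩
  refine Finite.of_surjective Φ fun ⟨ξ, hξ⟩ => ?_
  obtain ⟨b, hb⟩ := Spec.map_surjective (hB.lift ξ (Spec.map a) hξ)
  have hb' : ψ ≫ b = a := Spec.map_injective (by rw [Spec.map_comp, hb]; exact hB.lift_snd _ _ _)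
  refine ⟨⟨b.hom, fun r => RingHom.congr_fun (congrArg CommRingCat.Hom.hom hb') r⟩, Subtype.ext ?_⟩
  show Spec.map b ≫ e = ξ
  rw [hb]; exact hB.lift_fst _ _ _

variable [UniversallyInjective f]

/-- Direct image along an integral universally injective morphism is fully faithful. -/
noncomputable def fullyFaithfulPush : (EtCoh.push f).FullyFaithful :=
  haveI : ∀ F, IsIso ((EtCoh.pullPushAdj f).counit.app F) := isIso_counit f
  haveI : IsIso (EtCoh.pullPushAdj f).counit := NatIso.isIso_of_isIso_app _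
  (EtCoh.pullPushAdj f).fullyFaithfulROfIsIsoCounit

/-- The unit is an isomorphism on sheaves supported in the image. -/
theorem isIso_unit_of_supp (G : EtCoh.Ab Y) (hG : EtPBC.supp G ⊆ Set.range f.base) :
    IsIso ((EtCoh.pullPushAdj f).unit.app G) := by
  refine isIso_of_stalk _ fun Ω _ _ η => ?_
  by_cases hη : η default ∈ Set.range f
  · let L := AlgebraicClosure Ω
    let σ : Spec (CommRingCat.of L) ⟶ Spec (CommRingCat.of Ω) :=
      Spec.map (CommRingCat.ofHom (algebraMap Ω L))
    obtain ⟨x, hx⟩ := hη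
    obtain ⟨ξ, hξ, -⟩ := exists_point_over f (σ ≫ η) x
      (hx.trans (congrArg η (Subsingleton.elim (α := Spec (CommRingCat.of Ω)) _ _)))
    haveI := isIso_counit f ((EtCoh.pull f).obj G)
    haveI : IsIso ((EtCoh.pull f).map ((EtCoh.pullPushAdj f).unit.app G)) :=
      haveI : IsIso ((EtCoh.pull f).map ((EtCoh.pullPushAdj f).unit.app G) ≫
          (EtCoh.pullPushAdj f).counit.app ((EtCoh.pull f).obj G)) :=
        Eq.mpr (congrArg (fun k => IsIso k) ((EtCoh.pullPushAdj f).left_triangle_components G))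
          (IsIso.id ((EtCoh.pull f).obj G))
      IsIso.of_isIso_comp_right _ ((EtCoh.pullPushAdj f).counit.app ((EtCoh.pull f).obj G))
    haveI : IsIso ((EtCoh.pull f ⋙ EtCoh.stalk ξ).map ((EtCoh.pullPushAdj f).unit.app G)) :=
      inferInstanceAs (IsIso ((EtCoh.stalk ξ).map _))
    have h1 : IsIso ((EtCoh.stalk (ξ ≫ f)).map ((EtCoh.pullPushAdj f).unit.app G)) :=
      (NatIso.isIso_map_iff (stalkPullIso f ξ) _).1 inferInstance
    rw [hξ] at h1
    exact (NatIso.isIso_map_iff (stalkExtIso σ η) _).2 h1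
  · refine IsZero.isIso ?_ (isZero_stalk_push f η hη _) _
    by_contra hne
    refine hη (hG ⟨Ω, _, ‹_›, η, ?_, hne⟩)
    ext a
    constructor
    · rintro ⟨b, rfl⟩
      exact congrArg η (Subsingleton.elim _ _)
    · rintro rfl
      exact ⟨_, rfl⟩

theorem essImage_push_iff (G : EtCoh.Ab Y) :
    (EtCoh.push f).essImage G ↔ EtPBC.supp G ⊆ Set.range f.base := by
  refine ⟨fun ⟨F, ⟨e⟩⟩ y ⟨Ω, _, _, η, hη, hne⟩ => ?_, fun hG => ?_⟩
  · by_contra hy
    refine hne ((isZero_stalk_push f η ?_ F).of_iso ((EtCoh.stalk η).mapIso e.symm))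
    have : η default = y := hη.le ⟨_, rfl⟩
    rwa [this]
  · haveI := isIso_unit_of_supp f G hG
    exact ⟨_, ⟨(asIso ((EtCoh.pullPushAdj f).unit.app G)).symm⟩⟩

end Groth.Agent.EtaleSite
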