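import Groth.Agent.EtaleSite.SetPushFiber
import Mathlib.CategoryTheory.Limits.Types.Products
import Mathlib.CategoryTheory.Limits.Preserves.Shapes.Terminal
import Mathlib.FieldTheory.IsAlgClosed.AlgebraicClosure

/-!
# Terminal sheaves of sets and the essential image of direct images
-/

set_option linter.style.haveILetI false

universe u

open CategoryTheory CategoryTheory.Limits AlgebraicGeometry Opposite

namespace Groth.Agent.EtaleSite.SetPush

open SetStalk (stalkSh stalkPullShIso)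

variable {X Y : Scheme.{u}} {Ω : Type u} [Field Ω] [IsSepClosed Ω]

/-- Stalks of the terminal sheaf are singletons. -/
theorem unique_stalk_terminal (ξ : Spec (CommRingCat.of Ω) ⟶ X) :
    Nonempty ((stalkSh ξ).obj (⊤_ EtDesc.Sh X)) ∧ Subsingleton ((stalkSh ξ).obj (⊤_ EtDesc.Sh X)) := by
  let hu : ∀ U : X.Etale, Unique ((⊤_ EtDesc.Sh X).obj.obj (op U)) := fun U =>
    Types.isTerminalEquivUnique _ (IsTerminal.isTerminalObj
      (sheafToPresheaf X.smallEtaleTopology (Type (u + 1)) ⋙ (evaluation _ _).obj (op U))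
      _ terminalIsTerminal)
  constructor
  · obtain ⟨φ, -⟩ := exists_fiber_point ξ (EtCoh.top X) (ξ default) rfl
    exact ⟨SetStalk.germ ξ _ (EtCoh.top X) φ (hu _).default⟩
  · refine ⟨fun p q => ?_⟩
    obtain ⟨V, φ, s, t, rfl, rfl⟩ := exists_germ_eq_pair ξ (⊤_ EtDesc.Sh X) p q
    rw [(hu V).uniq s, (hu V).uniq t]

/-- A sheaf is terminal exactly when its stalks are singletons. -/
theorem isIso_terminal_iff (G : EtDesc.Sh X) :
    IsIso (terminal.from G) ↔ ∀ (Ω : Type u) [Field Ω] [IsSepClosed Ω]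
      (ξ : Spec (CommRingCat.of Ω) ⟶ X),
      Nonempty ((stalkSh ξ).obj G) ∧ Subsingleton ((stalkSh ξ).obj G) := by
  refine ⟨fun h Ω _ _ ξ => ?_, fun h => SetStalk.isIso_of_stalk _ fun Ω _ _ ξ => ?_⟩
  · let e : (stalkSh ξ).obj G ≃ (stalkSh ξ).obj (⊤_ EtDesc.Sh X) :=
      ((stalkSh ξ).mapIso (asIso (terminal.from G))).toEquiv
    obtain ⟨h₁, h₂⟩ := unique_stalk_terminal ξ
    exact ⟨h₁.map e.symm, e.subsingleton⟩
  · obtain ⟨h₁, h₂⟩ := h Ω ξ
    obtain ⟨h₃, h₄⟩ := unique_stalk_terminal ξ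
    exact ⟨fun a b _ => Subsingleton.elim a b, fun b => ⟨h₁.some, Subsingleton.elim _ _⟩⟩

/-- Enlarging the field does not change stalks. -/
noncomputable def stalkShExtIso {Ω' : Type u} [Field Ω'] [IsSepClosed Ω']
    (σ : Spec (CommRingCat.of Ω') ⟶ Spec (CommRingCat.of Ω))
    (ξ : Spec (CommRingCat.of Ω) ⟶ X) : stalkSh ξ ≅ stalkSh (σ ≫ ξ) :=
  sheafFiberIsoOfPointIso (A := Type (u + 1)) (pointExtIso σ ξ)

variable (f : X ⟶ Y) [IsIntegralHom f] [UniversallyInjective f]

/-- The unit is an isomorphism on sheaves with singleton stalks outside the image. -/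
theorem isIso_unit_of_unique (G : EtDesc.Sh Y)
    (hG : ∀ (Ω : Type u) [Field Ω] [IsSepClosed Ω] (η : Spec (CommRingCat.of Ω) ⟶ Y),
      η default ∉ Set.range f →
        Nonempty ((stalkSh η).obj G) ∧ Subsingleton ((stalkSh η).obj G)) :
    IsIso ((EtDesc.adjSh f).unit.app G) := by
  refine SetStalk.isIso_of_stalk _ fun Ω _ _ η => ?_
  by_cases hη : η default ∈ Set.range f
  · let L := AlgebraicClosure Ω
    let σ : Spec (CommRingCat.of L) ⟶ Spec (CommRingCat.of Ω) :=
      Spec.map (CommRingCat.ofHom (algebraMap Ω L))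
    obtain ⟨x, hx⟩ := hη
    obtain ⟨ξ, hξ, -⟩ := exists_point_over f (σ ≫ η) x
      (hx.trans (congrArg η (Subsingleton.elim (α := Spec (CommRingCat.of Ω)) _ _)))
    haveI := isIso_counit f ((EtDesc.pullSh f).obj G)
    haveI : IsIso ((EtDesc.pullSh f).map ((EtDesc.adjSh f).unit.app G)) :=
      haveI : IsIso ((EtDesc.pullSh f).map ((EtDesc.adjSh f).unit.app G) ≫
          (EtDesc.adjSh f).counit.app ((EtDesc.pullSh f).obj G)) :=
        Eq.mpr (congrArg (fun k => IsIso k) ((EtDesc.adjSh f).left_triangle_components G))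
          (IsIso.id ((EtDesc.pullSh f).obj G))
      IsIso.of_isIso_comp_right _ ((EtDesc.adjSh f).counit.app ((EtDesc.pullSh f).obj G))
    haveI : IsIso ((EtDesc.pullSh f ⋙ stalkSh ξ).map ((EtDesc.adjSh f).unit.app G)) :=
      inferInstanceAs (IsIso ((stalkSh ξ).map _))
    have h1 : IsIso ((stalkSh (ξ ≫ f)).map ((EtDesc.adjSh f).unit.app G)) :=
      (NatIso.isIso_map_iff (stalkPullShIso f ξ) _).1 inferInstance
    rw [hξ] at h1
    exact (CategoryTheory.isIso_iff_bijective _).1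
      ((NatIso.isIso_map_iff (stalkShExtIso σ η) _).2 h1)
  · obtain ⟨h₁, h₂⟩ := hG Ω η hη
    obtain ⟨h₃, h₄⟩ := unique_stalk_push f η hη ((EtDesc.pullSh f).obj G)
    exact ⟨fun a b _ => h₂.elim a b, fun b => ⟨h₁.some, h₄.elim _ _⟩⟩

end Groth.Agent.EtaleSite.SetPush
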