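import Groth.Agent.EtaleSite.SH
import Groth.Agent.EtaleSite.SetPushImage
import Mathlib.RingTheory.LocalRing.ResidueField.Basic

/-!
# Sheaves of sets on strictly henselian local schemes and on separably closed fields
-/

set_option linter.style.haveILetI false

universe u

open CategoryTheory CategoryTheory.Limits AlgebraicGeometry Opposite Polynomial

namespace Groth.Agent.EtaleSite.SetSH

open SetStalk (stalkSh stalkPullShIso)

variable (R : Type u) [CommRing R] [HenselianLocalRing R] [IsSepClosed (IsLocalRing.ResidueField R)]

theorem bijective_germ_top (F : EtDesc.Sh (Spec (CommRingCat.of R))) :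
    Function.Bijective
      (SetStalk.germ (closedPt R) F (EtCoh.top (Spec (CommRingCat.of R))) (topPoint R)) := by
  constructor
  · intro a b h
    obtain ⟨V, g, y, hy, hab⟩ := (SetStalk.germ_eq_iff _ F _ _ a b).1 h
    obtain ⟨s, hs⟩ := exists_from_top R V y
    have e : s ≫ g = 𝟙 _ := (EtCore.topIsTerminal _).hom_ext _ _
    have := congrArg (F.obj.map s.op) hab
    rw [← ConcreteCategory.comp_apply, ← ConcreteCategory.comp_apply, ← Functor.map_comp,
      ← op_comp, e, op_id, CategoryTheory.Functor.map_id] at this
    exact this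
  · intro p
    obtain ⟨V, y, t, rfl⟩ := SetStalk.exists_germ_eq _ F p
    obtain ⟨s, rfl⟩ := exists_from_top R V y
    exact ⟨F.obj.map s.op t, SetStalk.germ_res _ F s _ t⟩

/-- Global sections functor on sheaves of sets. -/
noncomputable abbrev gsecSh : EtDesc.Sh (Spec (CommRingCat.of R)) ⥤ Type (u + 1) :=
  (sheafSections (Spec (CommRingCat.of R)).smallEtaleTopology (Type (u + 1))).obj
    (op (EtCoh.top (Spec (CommRingCat.of R))))

/-- On a strictly henselian local scheme global sections are the stalk at the closed point. -/
noncomputable def gsecShIsoStalk : gsecSh R ≅ stalkSh (closedPt R) :=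
  NatIso.ofComponents
    (fun F =>
      haveI : IsIso (SetStalk.germ (closedPt R) F (EtCoh.top (Spec (CommRingCat.of R))) (topPoint R)) :=
        (CategoryTheory.isIso_iff_bijective _).2 (bijective_germ_top R F)
      asIso (SetStalk.germ (closedPt R) F (EtCoh.top (Spec (CommRingCat.of R))) (topPoint R)))
    fun {F G} a => by
      ext s
      exact (SetStalk.germ_naturality _ a _ _ s).symm

omit [HenselianLocalRing R] [IsSepClosed (IsLocalRing.ResidueField R)] in
theorem isSepClosed_of_equiv {k k' : Type u} [Field k] [Field k'] (e : k ≃+* k') [IsSepClosed k] :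
    IsSepClosed k' :=
  IsSepClosed.of_exists_root _ fun p _ hirr hsep => by
    obtain ⟨x, hx⟩ := IsSepClosed.exists_root (p.map e.symm.toRingHom)
      (by rw [degree_map]; exact (hirr.degree_pos).ne') hsep.map
    refine ⟨e x, e.symm.injective ?_⟩
    have h2 : (p.map e.symm.toRingHom).eval (e.symm (e x)) = e.symm (p.eval (e x)) :=
      eval_map_apply e.symm.toRingHom (e x)
    rw [map_zero, ← h2, e.symm_apply_apply]
    exact hx

end Groth.Agent.EtaleSite.SetSH

namespace Groth.Agent.EtaleSite.SetSH

open SetStalk (stalkSh stalkPullShIso)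

variable (k : Type u) [Field k] [IsSepClosed k]

instance isSepClosed_residueField : IsSepClosed (IsLocalRing.ResidueField k) :=
  isSepClosed_of_equiv (RingEquiv.ofBijective (IsLocalRing.residue k)
    ⟨RingHom.injective _, IsLocalRing.residue_surjective⟩)

instance surjective_closedPt : Surjective (closedPt k) :=
  ⟨fun _ => ⟨default, Subsingleton.elim (α := Spec (CommRingCat.of k)) _ _⟩⟩

/-- On a separably closed field the stalk functor is an equivalence. -/
theorem isEquivalence_stalk : (stalkSh (closedPt k)).IsEquivalence := by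
  let adj := (Scheme.pointSmallEtale (closedPt k)).skyscraperSheafAdjunction (A := Type (u + 1))
  have hrefl : ∀ {F G : EtDesc.Sh (Spec (CommRingCat.of k))} (a : F ⟶ G),
      IsIso ((stalkSh (closedPt k)).map a) → IsIso a := fun {F G} a ha =>
    have hb : ∀ (Ω : Type u) [Field Ω] [IsSepClosed Ω]
        (ζ : Spec (CommRingCat.of Ω) ⟶ Spec (CommRingCat.of (IsLocalRing.ResidueField k))),
        Function.Bijective ((stalkSh (ζ ≫ closedPt k)).map a) := fun Ω _ _ ζ =>
      (CategoryTheory.isIso_iff_bijective _).1
        ((NatIso.isIso_map_iff (SetPush.stalkShExtIso ζ (closedPt k)) a).1 ha)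
    have := SetStalk.mono_of_stalk_of_surjective (closedPt k) a fun Ω _ _ ζ => (hb Ω ζ).1
    have := SetStalk.epi_of_stalk_of_surjective (closedPt k) a fun Ω _ _ ζ => (hb Ω ζ).2
    isIso_of_mono_of_epi a
  haveI : ∀ M, IsIso (adj.counit.app M) := fun M => by
    let S := (Scheme.pointSmallEtale (closedPt k)).skyscraperSheafFunctor.obj M
    have h1 := skyscraper_homEquiv_π (Scheme.pointSmallEtale (closedPt k)) S M (adj.counit.app M)
      (EtCoh.top (Spec (CommRingCat.of k))) (topPoint k)
    have hu : adj.homEquiv S M (adj.counit.app M) = 𝟙 S :=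
      (adj.homEquiv_unit _ _ _).trans (adj.right_triangle_components M)
    rw [hu] at h1
    have h2 : SetStalk.germ (closedPt k) S (EtCoh.top (Spec (CommRingCat.of k))) (topPoint k) ≫
        adj.counit.app M = Pi.π (fun _ : (Scheme.pointSmallEtale (closedPt k)).fiber.obj
          (EtCoh.top (Spec (CommRingCat.of k))) => M) (topPoint k) :=
      h1.symm.trans (Category.id_comp _)
    haveI : Unique ((Scheme.pointSmallEtale (closedPt k)).fiber.obj
        (EtCoh.top (Spec (CommRingCat.of k)))) :=
      { default := topPoint k
        uniq := fun φ => Over.OverMorphism.ext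
          (((Category.comp_id _).symm).trans (Over.w φ)) }
    haveI : IsIso (Pi.π (fun _ : (Scheme.pointSmallEtale (closedPt k)).fiber.obj
          (EtCoh.top (Spec (CommRingCat.of k))) => M) (topPoint k)) :=
      ⟨Pi.lift fun _ => 𝟙 M, Pi.hom_ext _ _ fun j => by
        obtain rfl : j = topPoint k := Subsingleton.elim _ _
        rw [Category.assoc, Pi.lift_π, Category.comp_id, Category.id_comp], Pi.lift_π _ _⟩
    haveI : IsIso (SetStalk.germ (closedPt k) S (EtCoh.top (Spec (CommRingCat.of k))) (topPoint k)) :=
      (CategoryTheory.isIso_iff_bijective _).2 (bijective_germ_top k S)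
    exact IsIso.of_isIso_fac_left (f := SetStalk.germ (closedPt k) S (EtCoh.top (Spec (CommRingCat.of k))) (topPoint k))
      (hh := by assumption) h2
  haveI : ∀ F, IsIso (adj.unit.app F) := fun F => hrefl _ (by
    haveI : IsIso ((stalkSh (closedPt k)).map (adj.unit.app F) ≫
        adj.counit.app ((stalkSh (closedPt k)).obj F)) :=
      Eq.mpr (congrArg (fun m => IsIso m) (adj.left_triangle_components F)) (IsIso.id _)
    have := IsIso.of_isIso_comp_right ((stalkSh (closedPt k)).map (adj.unit.app F))
      (adj.counit.app ((stalkSh (closedPt k)).obj F))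
    exact this)
  exact adj.toEquivalence.isEquivalence_functor

theorem isEquivalence_gsec : (gsecSh k).IsEquivalence :=
  haveI := isEquivalence_stalk k
  Functor.isEquivalence_of_iso (gsecShIsoStalk k).symm

variable (k' : Type u) [Field k'] [IsSepClosed k'] [Algebra k k']

theorem isEquivalence_pull :
    (EtDesc.pullSh (Spec.map (CommRingCat.ofHom (algebraMap k k')))).IsEquivalence := by
  have := isEquivalence_stalk k
  have := isEquivalence_stalk k'
  let σ : Spec (CommRingCat.of (IsLocalRing.ResidueField k')) ⟶
      Spec (CommRingCat.of (IsLocalRing.ResidueField k)) :=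
    Spec.map (CommRingCat.ofHom (IsLocalRing.ResidueField.map (algebraMap k k')))
  have e : σ ≫ closedPt k = closedPt k' ≫ Spec.map (CommRingCat.ofHom (algebraMap k k')) := by
    rw [← Spec.map_comp, ← Spec.map_comp]
    congr 1
  let i := SetPush.stalkShExtIso σ (closedPt k)
  rw [e] at i
  have : (EtDesc.pullSh (Spec.map (CommRingCat.ofHom (algebraMap k k'))) ⋙
      stalkSh (closedPt k')).IsEquivalence :=
    Functor.isEquivalence_of_iso (i ≪≫ (stalkPullShIso _ (closedPt k')).symm)
  exact Functor.isEquivalence_of_comp_right _ (stalkSh (closedPt k'))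

end Groth.Agent.EtaleSite.SetSH
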