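import Groth.Agent.EtaleSite.PullPentagon

/-!
# Relative cohomology `T ↦ H^q(T, F|_T)` as a functor on schemes over `Y`
-/

set_option linter.style.haveILetI false

universe u

open CategoryTheory CategoryTheory.Limits AlgebraicGeometry Opposite

namespace Groth.Agent.EtaleSite.HpullFunctor

theorem HpullVia_apply {A B D : Scheme.{u}} (f : A ⟶ B) (t : B ⟶ D) (f₀ : A ⟶ D) (w : f ≫ t = f₀)
    (G : EtCoh.Ab D) (q : ℕ) (e : EtCoh.H B ((EtCoh.pull t).obj G) q) :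
    EtCore.HpullVia f t f₀ w G q e = (EtCore.Hpull f ((EtCoh.pull t).obj G) q e).comp
      (Abelian.Ext.mk₀ (((EtCore.pullComp f t).symm ≪≫ EtCore.pullCongr w).app G).hom) (add_zero q) :=
  rfl

/-- Composing two pullback maps followed by changes of coefficients. -/
theorem Hpull_comp_comp {A B C : Scheme.{u}} (a : A ⟶ B) (b : B ⟶ C) {X : EtCoh.Ab C}
    {Y₁ : EtCoh.Ab B} {Z : EtCoh.Ab A} (q : ℕ) (e : EtCoh.H C X q)
    (i₁ : (EtCoh.pull b).obj X ⟶ Y₁) (i₂ : (EtCoh.pull a).obj Y₁ ⟶ Z)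
    (i₃ : (EtCoh.pull (a ≫ b)).obj X ⟶ Z)
    (hc : (EtCore.pullComp a b).hom.app X ≫ ((EtCoh.pull a).map i₁ ≫ i₂ :
      (EtCoh.pull a).obj ((EtCoh.pull b).obj X) ⟶ Z) = i₃) :
    (EtCore.Hpull a Y₁ q ((EtCore.Hpull b X q e).comp (Abelian.Ext.mk₀ i₁) (add_zero q))).comp
        (Abelian.Ext.mk₀ i₂) (add_zero q) =
      (EtCore.Hpull (a ≫ b) X q e).comp (Abelian.Ext.mk₀ i₃) (add_zero q) := by
  subst hc
  rw [HpullSeq.Hpull_postcomp, ← HpullComp.Hpull_comp]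
  simp only [Abelian.Ext.comp_assoc_of_second_deg_zero, Abelian.Ext.mk₀_comp_mk₀]
  exact congrArg (fun k => (EtCore.Hpull (a ≫ b) X q e).comp (Abelian.Ext.mk₀ k) (add_zero q))
    (Category.assoc _ _ _)

theorem via_coef {A B C D : Scheme.{u}} (a : A ⟶ B) (b : B ⟶ C) (t : C ⟶ D)
    (t₂ : A ⟶ D) (h₂ : a ≫ b ≫ t = t₂) (h₃ : (a ≫ b) ≫ t = t₂) (G : EtCoh.Ab D) :
    (EtCore.pullComp a b).hom.app ((EtCoh.pull t).obj G) ≫
      ((EtCoh.pull a).map (((EtCore.pullComp b t).symm ≪≫ EtCore.pullCongr rfl).app G).hom ≫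
        (((EtCore.pullComp a (b ≫ t)).symm ≪≫ EtCore.pullCongr h₂).app G).hom :
        (EtCoh.pull a).obj ((EtCoh.pull b).obj ((EtCoh.pull t).obj G)) ⟶ (EtCoh.pull t₂).obj G) =
      (((EtCore.pullComp (a ≫ b) t).symm ≪≫ EtCore.pullCongr h₃).app G).hom := by
  subst h₂
  have hp := pullComp_assoc a b t G
  simp only [EtCore.pullCongr, eqToIso_refl, Iso.trans_refl, Iso.app_hom, Iso.symm_hom]
  have h : (((EtCore.pullComp (a ≫ b) t).app G) ≪≫ ((EtCore.pullComp a b).app ((EtCoh.pull t).obj G))) =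
      (((EtCore.pullComp a (b ≫ t)).app G) ≪≫ (EtCoh.pull a).mapIso ((EtCore.pullComp b t).app G)) :=
    Iso.ext hp
  have h' := congrArg Iso.inv h
  exact ((congrArg (_ ≫ ·) h'.symm).trans ((Category.assoc _ _ _).symm.trans
    ((congrArg (· ≫ _) (Iso.hom_inv_id_app _ _)).trans (Category.id_comp _))))

/-- `HpullVia` composes. -/
theorem HpullVia_comp {A B C D : Scheme.{u}} (a : A ⟶ B) (b : B ⟶ C) (t : C ⟶ D) (t₁ : B ⟶ D)
    (t₂ : A ⟶ D) (h₁ : b ≫ t = t₁) (h₂ : a ≫ t₁ = t₂) (h₃ : (a ≫ b) ≫ t = t₂) (G : EtCoh.Ab D) (q : ℕ)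
    (e : EtCoh.H C ((EtCoh.pull t).obj G) q) :
    EtCore.HpullVia a t₁ t₂ h₂ G q (EtCore.HpullVia b t t₁ h₁ G q e) =
      EtCore.HpullVia (a ≫ b) t t₂ h₃ G q e := by
  subst h₁
  rw [HpullVia_apply, HpullVia_apply, HpullVia_apply]
  exact Hpull_comp_comp a b q e _ _ _ (via_coef a b t t₂ h₂ h₃ G)

/-- `HpullVia` along the identity is the identity. -/
theorem HpullVia_id {B D : Scheme.{u}} (t : B ⟶ D) (G : EtCoh.Ab D) (q : ℕ) (w : 𝟙 B ≫ t = t)
    (e : EtCoh.H B ((EtCoh.pull t).obj G) q) : EtCore.HpullVia (𝟙 B) t t w G q e = e := by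
  have hb : Function.Bijective (EtCore.HpullVia (𝟙 B) t t w G q) :=
    (HpullComp.HF_map_bijective
      (((EtCore.pullComp (𝟙 B) t).symm ≪≫ EtCore.pullCongr w).app G).hom).comp
      (HpullComp.Hpull_id_bijective q ((EtCoh.pull t).obj G))
  apply hb.1
  exact HpullVia_comp (𝟙 B) (𝟙 B) t t t w w w G q e

/-- Relative cohomology as a functor. -/
noncomputable def Hfun (Y : Scheme.{u}) (F : EtCoh.Ab Y) (q : ℕ) :
    (Over Y)ᵒᵖ ⥤ AddCommGrpCat.{u + 1} where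
  obj T := AddCommGrpCat.of (EtCoh.H T.unop.left ((EtCoh.pull T.unop.hom).obj F) q)
  map {T T'} a := AddCommGrpCat.ofHom
    (EtCore.HpullVia a.unop.left T.unop.hom T'.unop.hom (Over.w a.unop) F q)
  map_id T := AddCommGrpCat.hom_ext (AddMonoidHom.ext fun e => HpullVia_id _ _ _ _ e)
  map_comp {T T' T''} a a' := AddCommGrpCat.hom_ext (AddMonoidHom.ext fun e =>
    (HpullVia_comp a'.unop.left a.unop.left T.unop.hom T'.unop.hom T''.unop.hom
      (Over.w a.unop) (Over.w a'.unop) (Over.w (a'.unop ≫ a.unop)) F q e).symm)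

/-- Relative cohomology over the base itself is cohomology. -/
noncomputable def HfunBaseIso (Y : Scheme.{u}) (F : EtCoh.Ab Y) (q : ℕ) :
    (Hfun Y F q).obj (op (Over.mk (𝟙 Y))) ≅ AddCommGrpCat.of (EtCoh.H Y F q) :=
  (EtCoh.HF Y q).mapIso ((HpullComp.pullId Y).app F)

end Groth.Agent.EtaleSite.HpullFunctor
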