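import Groth.Prelude.Def_SGA4b
import Groth.Agent.EtaleSite.HpullComp

/-!
Units of the inverse image/direct image adjunction for sheaves of sets and composition.
-/

universe u

open CategoryTheory CategoryTheory.Limits AlgebraicGeometry Opposite

namespace Groth.Agent.EtaleSite.UnitComp

variable {X Y Z : Scheme.{u}}

theorem isIso_comp_iff' {C : Type*} [Category C] {A B D : C} (a : A ⟶ B) (b : B ⟶ D) [IsIso b] :
    IsIso (a ≫ b) ↔ IsIso a :=
  ⟨fun _ => IsIso.of_isIso_comp_right a b, fun _ => inferInstance⟩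

theorem isIso_unit_comp_iff (g : X ⟶ Y) (h : Y ⟶ Z) (F : EtDesc.Sh Z) :
    IsIso ((EtDesc.adjSh (g ≫ h)).unit.app F) ↔
      IsIso ((EtDesc.adjSh h).unit.app F ≫
        (EtDesc.pushSh h).map ((EtDesc.adjSh g).unit.app ((EtDesc.pullSh h).obj F))) := by
  have e := Adjunction.unit_leftAdjointUniq_hom_app (EtDesc.adjSh (g ≫ h))
    (((EtDesc.adjSh h).comp (EtDesc.adjSh g)).ofNatIsoRight (EtDesc.pushCompSh h g)) F
  rw [← isIso_comp_iff' _ ((EtDesc.pushSh (g ≫ h)).map ((EtDesc.pullCompSh g h).hom.app F))]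
  rw [show (EtDesc.adjSh (g ≫ h)).unit.app F ≫
      (EtDesc.pushSh (g ≫ h)).map ((EtDesc.pullCompSh g h).hom.app F) =
      (((EtDesc.adjSh h).comp (EtDesc.adjSh g)).ofNatIsoRight (EtDesc.pushCompSh h g)).unit.app F from e,
    ← isIso_comp_iff' ((EtDesc.adjSh h).unit.app F ≫
        (EtDesc.pushSh h).map ((EtDesc.adjSh g).unit.app ((EtDesc.pullSh h).obj F)))
      ((EtDesc.pushCompSh h g).hom.app _)]
  simp [Adjunction.ofNatIsoRight, Adjunction.homEquiv_unit]

/-- Direct image along the identity. -/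
noncomputable def pushShId (X : Scheme.{u}) : EtDesc.pushSh (𝟙 X) ≅ 𝟭 (EtDesc.Sh X) :=
  Functor.sheafPushforwardContinuousId' (HpullComp.bcId X) (Type (u + 1)) X.smallEtaleTopology

theorem isIso_unit_id (F : EtDesc.Sh X) : IsIso ((EtDesc.adjSh (𝟙 X)).unit.app F) := by
  have : (EtDesc.pushSh (𝟙 X)).IsEquivalence := Functor.isEquivalence_of_iso (pushShId X).symm
  have : (EtDesc.pullSh (𝟙 X)).IsEquivalence :=
    (EtDesc.adjSh (𝟙 X)).isEquivalence_left_of_isEquivalence_right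
  infer_instance

theorem faithful_push_of_isIso (φ : X ⟶ Y) [IsIso φ] : (EtDesc.pushSh φ).Faithful := by
  have : (EtDesc.pushSh (φ ≫ inv φ)).Faithful := by
    have : (EtDesc.pushSh (𝟙 X)).Faithful :=
      Functor.Faithful.of_iso (pushShId X).symm
    rwa [IsIso.hom_inv_id]
  have := Functor.Faithful.of_iso (EtDesc.pushCompSh (inv φ) φ).symm
  exact Functor.Faithful.of_comp (EtDesc.pushSh φ) (EtDesc.pushSh (inv φ))

theorem isIso_unit_of_isIso (φ : X ⟶ Y) [IsIso φ] (F : EtDesc.Sh Y) :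
    IsIso ((EtDesc.adjSh φ).unit.app F) := by
  have h1 : ∀ G : EtDesc.Sh Y, IsIso ((EtDesc.adjSh (inv φ ≫ φ)).unit.app G) := by
    rw [IsIso.inv_hom_id]; exact isIso_unit_id
  have h2 : ∀ G : EtDesc.Sh X, IsIso ((EtDesc.adjSh (φ ≫ inv φ)).unit.app G) := by
    rw [IsIso.hom_inv_id]; exact isIso_unit_id
  have hm : ∀ G : EtDesc.Sh Y, Mono ((EtDesc.adjSh φ).unit.app G) := fun G => by
    have := (isIso_unit_comp_iff (inv φ) φ G).1 (h1 G)
    exact mono_of_mono _ ((EtDesc.pushSh φ).map ((EtDesc.adjSh (inv φ)).unit.app _))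
  have he : ∀ G : EtDesc.Sh X,
      Epi ((EtDesc.adjSh φ).unit.app ((EtDesc.pullSh (inv φ)).obj G)) := fun G => by
    have := (isIso_unit_comp_iff φ (inv φ) G).1 (h2 G)
    have : Epi ((EtDesc.pushSh (inv φ)).map
        ((EtDesc.adjSh φ).unit.app ((EtDesc.pullSh (inv φ)).obj G))) :=
      epi_of_epi ((EtDesc.adjSh (inv φ)).unit.app G) _
    have := faithful_push_of_isIso (inv φ)
    exact (EtDesc.pushSh (inv φ)).epi_of_epi_map (by assumption)
  let a : F ≅ (EtDesc.pullSh (inv φ)).obj ((EtDesc.pullSh φ).obj F) :=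
    (@asIso _ _ _ _ _ (isIso_unit_id F) ≪≫ (pushShId Y).app _) ≪≫
      (EtDesc.pullCongrSh (IsIso.inv_hom_id φ).symm).app F ≪≫ (EtDesc.pullCompSh (inv φ) φ).app F
  have := hm ((EtDesc.pullSh (inv φ)).obj ((EtDesc.pullSh φ).obj F))
  have := he ((EtDesc.pullSh φ).obj F)
  have : IsIso ((EtDesc.adjSh φ).unit.app ((EtDesc.pullSh (inv φ)).obj ((EtDesc.pullSh φ).obj F))) :=
    isIso_of_mono_of_epi _
  exact (NatTrans.isIso_app_iff_of_iso (EtDesc.adjSh φ).unit a).2 this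

end Groth.Agent.EtaleSite.UnitComp
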