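import Groth.Agent.EtaleSite.PushFiber
import Groth.Prelude.Def_BigSite
import Mathlib.AlgebraicGeometry.ZariskisMainTheorem

/-!
# Conditions (A) and (C) on morphisms
-/

set_option linter.style.haveILetI false

universe u

open CategoryTheory CategoryTheory.Limits AlgebraicGeometry Opposite

namespace Groth.Agent.EtaleSite

variable {X Y : Scheme.{u}} (f : X ⟶ Y)

/-- An étale scheme over an integral `Y`-scheme covering the fibre through one of its points `a`
receives the base change of an étale neighbourhood, with `a` in the image. -/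
theorem split_at_point [IsIntegralHom f] {U : Scheme.{u}} (g : U ⟶ X) [Etale g] (a : U)
    (hU : ∀ x : X, f x = f (g a) → x ∈ Set.range g) :
    ∃ (V : Y.Etale) (h : pullback V.hom f ⟶ U), h ≫ g = pullback.snd _ _ ∧ a ∈ Set.range h := by
  let L := AlgebraicClosure (U.residueField a)
  let x : Spec (CommRingCat.of L) ⟶ U :=
    Spec.map (CommRingCat.ofHom (algebraMap (U.residueField a) L)) ≫ U.fromSpecResidueField a
  have hx : x (default : Spec (CommRingCat.of L)) = a := by
    rw [Scheme.Hom.comp_apply]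
    exact Scheme.fromSpecResidueField_apply _ _
  let η : Spec (CommRingCat.of L) ⟶ Y := (x ≫ g) ≫ f
  obtain ⟨V, y, hy, h, hh, hφ⟩ := split_integral_point f η (𝟙 _) g
    (fun z hz => hU z (by
      rw [hz, Scheme.Hom.comp_apply, Scheme.Hom.comp_apply, hx]))
    {x} Set.subsingleton_singleton (fun z hz => by
      obtain rfl := Set.mem_singleton_iff.1 hz
      exact (Category.id_comp _).symm)
  refine ⟨V, h, hh, _, (congrArg (fun k => k default) (hφ x rfl)).trans hx⟩

/-- Morphisms on disjoint open pieces glue. -/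
theorem exists_hom_of_disjoint {P T : Scheme.{u}} {μ : Type u} (O : μ → P.Opens)
    (hd : ∀ a b, a ≠ b → Disjoint (O a) (O b)) (hc : ∀ x : P, ∃ a, x ∈ O a)
    (k : ∀ a, (O a : Scheme.{u}) ⟶ T) :
    ∃ h : P ⟶ T, ∀ a, (O a).ι ≫ h = k a := by
  let 𝒰 : P.OpenCover := P.openCoverOfIsOpenCover O (.mk (eq_top_iff.2 fun x _ => by
    obtain ⟨a, ha⟩ := hc x
    exact TopologicalSpace.Opens.mem_iSup.2 ⟨a, ha⟩))
  refine ⟨𝒰.glueMorphisms k fun a b => ?_, fun a => 𝒰.ι_glueMorphisms k _ a⟩
  by_cases hab : a = b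
  · subst hab
    haveI : Mono (𝒰.f a) := inferInstanceAs (Mono (O a).ι)
    rw [(cancel_mono (𝒰.f a)).1 pullback.condition]
  · haveI : IsEmpty ↑(pullback (𝒰.f a) (𝒰.f b)) := ⟨fun z => by
      have e := congrArg (fun q : _ ⟶ P => q z) (pullback.condition (f := 𝒰.f a) (g := 𝒰.f b))
      exact (hd a b hab).le_bot (show (O a).ι (pullback.fst (𝒰.f a) (𝒰.f b) z) ∈ O a ⊓ O b from
        ⟨(pullback.fst (𝒰.f a) (𝒰.f b) z).2, e ▸ (pullback.snd (𝒰.f a) (𝒰.f b) z).2⟩)⟩
    exact (isInitialOfIsEmpty (X := pullback (𝒰.f a) (𝒰.f b))).hom_ext _ _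

/-- Integral morphisms satisfy condition (A). -/
theorem propA_of_isIntegralHom [IsIntegralHom f] : BigSite.PropA f := by
  intro U g _ a
  let F : ULift.{u} Bool → Scheme.{u} := fun b => Bool.rec X U b.down
  let g₀ : ∀ b : ULift.{u} Bool, F b ⟶ X := fun b => match b with
    | ⟨true⟩ => g
    | ⟨false⟩ => 𝟙 X
  have hg₀ : ∀ b : ULift.{u} Bool, Etale (g₀ b) := by
    rintro ⟨_ | _⟩
    · exact inferInstanceAs (Etale (𝟙 X))
    · exact ‹Etale g›
  haveI : Etale (Sigma.desc g₀) := @etale_sigmaDesc (ULift.{u} Bool) F X g₀ hg₀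
  let iU : U ⟶ ∐ F := Sigma.ι F ⟨true⟩
  haveI : IsOpenImmersion iU := inferInstanceAs (IsOpenImmersion (Sigma.ι F ⟨true⟩))
  have hiU : iU ≫ Sigma.desc g₀ = g := Sigma.ι_desc g₀ ⟨true⟩
  obtain ⟨V, h, hh, z, hz⟩ := split_at_point f (Sigma.desc g₀) (iU a) fun x _ =>
    ⟨Sigma.ι F ⟨false⟩ x,
      congrArg (fun k : X ⟶ X => k x) (Sigma.ι_desc g₀ ⟨false⟩)⟩
  let s : pullback f V.hom ⟶ pullback V.hom f := (pullbackSymmetry f V.hom).hom
  let W : (pullback f V.hom).Opens := (s ≫ h) ⁻¹ᵁ iU.opensRange
  have hcl : IsClosed (iU.opensRange : Set ↥(∐ F)) := by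
    have : (iU.opensRange : Set ↥(∐ F)) = (Set.range (Sigma.ι F ⟨false⟩))ᶜ := by
      ext p
      constructor
      · intro hp hp'
        exact (disjoint_opensRange_sigmaι F ⟨true⟩ ⟨false⟩ (by simp)).le_bot
          (show p ∈ _ ⊓ _ from ⟨hp, hp'⟩)
      · intro hp
        have h1 := (sigmaOpenCover F).covers p
        revert h1
        generalize (sigmaOpenCover F).idx p = b
        match b with
        | ⟨true⟩ => exact id
        | ⟨false⟩ => exact fun h1 => absurd h1 hp
    rw [this]
    exact (Sigma.ι F ⟨false⟩).isOpenEmbedding.isOpen_range.isClosed_compl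
  let k : (W : Scheme.{u}) ⟶ U := IsOpenImmersion.lift iU (W.ι ≫ s ≫ h) (by
    rintro _ ⟨w, rfl⟩
    exact w.2)
  have hk : k ≫ iU = W.ι ≫ s ≫ h := IsOpenImmersion.lift_fac _ _ _
  refine ⟨V.left, V.hom, V.prop, W, hcl.preimage (s ≫ h).continuous, k, ?_, ?_⟩
  · rw [← hiU, ← Category.assoc, hk, Category.assoc, Category.assoc, hh]
    exact congrArg (W.ι ≫ ·) (pullbackSymmetry_hom_comp_snd _ _)
  · let z' := (pullbackSymmetry f V.hom).inv z
    have hz' : s z' = z := congrArg (fun k : pullback V.hom f ⟶ pullback V.hom f => k z) (pullbackSymmetry f V.hom).inv_hom_id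
    have hw : z' ∈ W := ⟨a, by
      show iU a = h (s z')
      rw [hz', hz]⟩
    refine ⟨⟨z', hw⟩, iU.isOpenEmbedding.injective ?_⟩
    show (k ≫ iU) ⟨z', hw⟩ = iU a
    rw [hk]
    show h (s z') = _
    rw [hz', hz]

/-- Integral morphisms that are closed embeddings satisfy condition (C). -/
theorem propC_of_isClosedEmbedding [IsIntegralHom f] (hf : Function.Injective f.base) :
    BigSite.PropC f := by
  intro U g _
  choose V h hh hz using fun a : U => split_at_point f g a fun x hx => ⟨a, (hf hx).symm⟩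
  let F : U → Scheme.{u} := fun a => (V a).left
  let v : (∐ F) ⟶ Y := Sigma.desc fun a => (V a).hom
  haveI : ∀ a, Etale (V a).hom := fun a => (V a).prop
  haveI : Etale v := etale_sigmaDesc _
  have hv : ∀ a, Sigma.ι F a ≫ v = (V a).hom := fun a => Sigma.ι_desc _ a
  let O : U → (pullback f v).Opens := fun a => pullback.snd f v ⁻¹ᵁ (Sigma.ι F a).opensRange
  let l : ∀ a, (O a : Scheme.{u}) ⟶ F a := fun a =>
    IsOpenImmersion.lift (Sigma.ι F a) ((O a).ι ≫ pullback.snd f v) (by
      rintro _ ⟨w, rfl⟩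
      exact w.2)
  have hl : ∀ a, l a ≫ Sigma.ι F a = (O a).ι ≫ pullback.snd f v :=
    fun a => IsOpenImmersion.lift_fac _ _ _
  let m : ∀ a, (O a : Scheme.{u}) ⟶ pullback (V a).hom f := fun a =>
    pullback.lift (l a) ((O a).ι ≫ pullback.fst f v) (by
      rw [← hv a, ← Category.assoc, hl, Category.assoc, Category.assoc, pullback.condition])
  obtain ⟨H, hH⟩ := exists_hom_of_disjoint O
    (fun a b hab => disjoint_iff.2 <| le_bot_iff.1 fun x hx =>
      (disjoint_opensRange_sigmaι F a b hab).le_bot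
        (show pullback.snd f v x ∈ _ ⊓ _ from ⟨hx.1, hx.2⟩))
    (fun x => ⟨(sigmaOpenCover F).idx (pullback.snd f v x),
      (sigmaOpenCover F).covers (pullback.snd f v x)⟩)
    (fun a => m a ≫ h a)
  refine ⟨∐ F, v, inferInstance, H, ?_, ⟨fun a => ?_⟩⟩
  · refine (Scheme.openCoverOfIsOpenCover _ O (.mk (eq_top_iff.2 fun x _ =>
      TopologicalSpace.Opens.mem_iSup.2 ⟨(sigmaOpenCover F).idx (pullback.snd f v x),
        (sigmaOpenCover F).covers (pullback.snd f v x)⟩))).hom_ext _ _ fun a => ?_
    exact ((reassoc_of% (hH a)) g).trans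
      ((congrArg (m a ≫ ·) (hh a)).trans (pullback.lift_snd _ _ _))
  · obtain ⟨z, hz⟩ := hz a
    let p : pullback (V a).hom f ⟶ pullback f v :=
      pullback.lift (pullback.snd _ _) (pullback.fst _ _ ≫ Sigma.ι F a)
        (by rw [Category.assoc, hv, pullback.condition])
    let p' : pullback (V a).hom f ⟶ (O a : Scheme.{u}) := IsOpenImmersion.lift (O a).ι p (by
      rw [Scheme.Opens.range_ι]
      rintro _ ⟨w, rfl⟩
      exact ⟨pullback.fst (V a).hom f w,
        (congrArg (fun k : pullback (V a).hom f ⟶ ∐ F => k w)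
          (show p ≫ pullback.snd f v = pullback.fst (V a).hom f ≫ Sigma.ι F a from
            pullback.lift_snd _ _ _)).symm⟩)
    have hp' : p' ≫ (O a).ι = p := IsOpenImmersion.lift_fac _ _ _
    have hm : p' ≫ m a = 𝟙 _ := by
      apply pullback.hom_ext
      · rw [← cancel_mono (Sigma.ι F a)]
        simp only [Category.assoc, m, pullback.lift_fst, hl, reassoc_of% hp', Category.id_comp, p,
          pullback.lift_snd]
      · simp only [Category.assoc, m, pullback.lift_snd, reassoc_of% hp', Category.id_comp, p,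
          pullback.lift_fst]
    refine ⟨p z, ?_⟩
    have : p ≫ H = h a := by
      rw [← hp', Category.assoc, hH, ← Category.assoc, hm, Category.id_comp]
    exact (congrArg (fun k : pullback (V a).hom f ⟶ U => k z) this).trans hz

set_option backward.isDefEq.respectTransparency.types false in
/-- Separated locally quasi-finite morphisms satisfy condition (A). -/
theorem propA_of_locallyQuasiFinite [IsSeparated f] [LocallyQuasiFinite f]
    [LocallyOfFiniteType f] : BigSite.PropA f := by
  intro U g _ a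
  obtain ⟨T, t, ht, -, W₁, W₂, w, hcompl, hfin, hw⟩ :=
    exists_etale_isCompl_of_quasiFiniteAt f rfl (f.quasiFiniteAt (g a))
  let i : (W₁ : Scheme.{u}) ⟶ pullback f t := W₁.ι
  let q : (W₁ : Scheme.{u}) ⟶ T := i ≫ pullback.snd f t
  haveI : IsFinite q := hfin
  let r : (W₁ : Scheme.{u}) ⟶ X := i ≫ pullback.fst f t
  obtain ⟨c, hc₁, hc₂⟩ := Scheme.Pullback.exists_preimage_pullback (f := g) (g := r) a w hw.symm
  obtain ⟨T', t', ht', W', hW'cl, k, hk, b, hb⟩ :=
    propA_of_isIntegralHom q (pullback g r) (pullback.snd g r) c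
  -- transport `W'` into `X ×_Y T'`
  let j : pullback q t' ⟶ pullback f (t' ≫ t) :=
    pullback.lift (pullback.fst q t' ≫ r) (pullback.snd q t') (by
      simp only [r, q, Category.assoc, pullback.condition]
      rw [← Category.assoc i, ← pullback.condition_assoc])
  let n : pullback f (t' ≫ t) ⟶ pullback f t :=
    pullback.lift (pullback.fst _ _) (pullback.snd _ _ ≫ t')
      (by rw [Category.assoc, pullback.condition])
  have hn₂ : IsPullback n (pullback.snd f (t' ≫ t)) (pullback.snd f t) t' := by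
    refine IsPullback.of_right ?_ (pullback.lift_snd _ _ _) (IsPullback.of_hasPullback f t)
    rw [show n ≫ pullback.fst f t = pullback.fst f (t' ≫ t) from pullback.lift_fst _ _ _]
    exact IsPullback.of_hasPullback f (t' ≫ t)
  have sq : IsPullback (pullback.fst q t') j i n := by
    refine IsPullback.of_bot ?_ ?_ hn₂
    · rw [show j ≫ pullback.snd f (t' ≫ t) = pullback.snd q t' from pullback.lift_snd _ _ _]
      exact IsPullback.of_hasPullback q t'
    · apply pullback.hom_ext
      · simp only [Category.assoc, n, j, pullback.lift_fst, r]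
      · simp only [Category.assoc, n, j, pullback.lift_snd, pullback.lift_snd_assoc]
        rw [← pullback.condition]
  haveI : IsOpenImmersion j :=
    MorphismProperty.of_isPullback (P := @IsOpenImmersion) sq (inferInstanceAs (IsOpenImmersion W₁.ι))
  have hrj : IsClosed (Set.range j) := by
    have h1 : Set.range j = n ⁻¹' (W₁ : Set ↥(pullback f t)) := by
      ext x
      constructor
      · rintro ⟨z, rfl⟩
        have := congrArg (fun k : pullback q t' ⟶ pullback f t => k z) sq.w
        show n (j z) ∈ W₁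
        exact this ▸ (pullback.fst q t' z).2
      · intro hx
        obtain ⟨z, -, hz⟩ :=
          Scheme.Pullback.exists_preimage_pullback (f := i) (g := n) ⟨n x, hx⟩ x rfl
        refine ⟨sq.isoPullback.inv z, ?_⟩
        rw [← hz, ← Scheme.Hom.comp_apply, IsPullback.isoPullback_inv_snd]
    rw [h1]
    refine IsClosed.preimage n.continuous ?_
    have : (W₁ : Set ↥(pullback f t)) = (W₂ : Set ↥(pullback f t))ᶜ :=
      eq_compl_iff_isCompl.mpr (hcompl.map TopologicalSpace.Opens.frameHom)
    rw [this]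
    exact W₂.2.isClosed_compl
  refine ⟨T', t' ≫ t, inferInstance, j ''ᵁ W', ?_, (j.isoImage W').inv ≫ k ≫ pullback.fst g r, ?_, ?_⟩
  · exact (Topology.IsClosedEmbedding.mk j.isOpenEmbedding.isEmbedding hrj).isClosedMap _ hW'cl
  · rw [Category.assoc, Category.assoc, pullback.condition, reassoc_of% hk,
      show pullback.fst q t' ≫ r = j ≫ pullback.fst f (t' ≫ t) from
        (pullback.lift_fst _ _ _).symm]
    rw [← Category.assoc W'.ι, ← Scheme.Hom.isoImage_hom_ι, Category.assoc, Iso.inv_hom_id_assoc]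
  · refine ⟨(j.isoImage W').hom b, ?_⟩
    rw [← Scheme.Hom.comp_apply, Iso.hom_inv_id_assoc, Scheme.Hom.comp_apply, hb, hc₁]

end Groth.Agent.EtaleSite
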