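import Groth.Agent.EtaleSite.CechDelta
import Mathlib.CategoryTheory.Sites.LocallySurjective
import Mathlib.CategoryTheory.Sites.Whiskering

/-!
# Sections of a quotient sheaf lift when first Čech cohomology vanishes
-/

set_option autoImplicit false

universe v u

open CategoryTheory CategoryTheory.Limits Opposite

noncomputable section

namespace Groth.Agent.EtaleSite.CechPre

variable {C : Type (max u v)} [Category.{v} C] {U : C} [HasFiniteProducts (Over U)]

/-- The family of all arrows of a sieve. -/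
abbrev sieveFam (R : Sieve U) : (Σ W : C, {g : W ⟶ U // R.arrows g}) → Over U :=
  fun i => Over.mk i.2.1

section Map

variable {ι : Type (max u v)} (Uf : ι → Over U) {P Q : Cᵒᵖ ⥤ AddCommGrpCat.{max u v}}

/-- The map of cochains. -/
def cmap (φ : P ⟶ Q) (n : ℕ) : (EtCech.cechComplex Uf P).X n →+ (EtCech.cechComplex Uf Q).X n :=
  (((cx Uf).map φ).f n).hom

lemma comp_cmap (φ : P ⟶ Q) {n : ℕ} (a : Fin (n + 1) → ι) (c : (EtCech.cechComplex Uf P).X n) :
    comp Uf Q a (cmap Uf φ n c) = φ.app _ (comp Uf P a c) :=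
  comp_map Uf φ a c

lemma d_cmap (φ : P ⟶ Q) (n : ℕ) (c : (EtCech.cechComplex Uf P).X n) :
    (EtCech.cechComplex Uf Q).d n (n + 1) (cmap Uf φ n c) =
      cmap Uf φ (n + 1) ((EtCech.cechComplex Uf P).d n (n + 1) c) :=
  ConcreteCategory.congr_hom (((cx Uf).map φ).comm n (n + 1)) c

lemma d_d (n : ℕ) (c : (EtCech.cechComplex Uf P).X n) :
    (EtCech.cechComplex Uf P).d (n + 1) (n + 1 + 1) ((EtCech.cechComplex Uf P).d n (n + 1) c) = 0 :=
  (ConcreteCategory.congr_hom ((EtCech.cechComplex Uf P).d_comp_d n (n + 1) (n + 1 + 1)) c).trans rfl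

end Map

set_option maxHeartbeats 1000000 in
theorem surjective_sections {J : GrothendieckTopology C}
    (S : ShortComplex (Cᵒᵖ ⥤ AddCommGrpCat.{max u v}))
    (h₂ : Presheaf.IsSheaf J S.X₂) (h₃ : Presheaf.IsSheaf J S.X₃)
    (hinj : ∀ W, Function.Injective (S.f.app W))
    (hex : ∀ (W) (x : S.X₂.obj W), S.g.app W x = 0 → ∃ y, S.f.app W y = x)
    (hls : ∀ s : S.X₃.obj (op U), Presheaf.imageSieve S.g s ∈ J U)
    (hH : ∀ R ∈ J U, IsZero (EtCech.cechH (sieveFam R) S.X₁ 1)) :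
    Function.Surjective (S.g.app (op U)) := by
  intro s
  let R := Presheaf.imageSieve S.g s
  let Y := sieveFam R
  have ht : ∀ i : (Σ W : C, {g : W ⟶ U // R.arrows g}), ∃ t : S.X₂.obj (op i.1),
      S.g.app (op i.1) t = S.X₃.map i.2.1.op s := fun i => i.2.2
  choose t htt using ht
  let c : (EtCech.cechComplex Y S.X₂).X 0 :=
    mk Y S.X₂ fun a => S.X₂.map (π Y a 0).op (t (a 0))
  let c₃ : (EtCech.cechComplex Y S.X₃).X 0 :=
    mk Y S.X₃ fun a => S.X₃.map (∏ᶜ (Y ∘ a)).hom.op s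
  have hgc : cmap Y S.g 0 c = c₃ := by
    refine comp_ext Y _ fun a => ?_
    rw [comp_cmap, comp_mk, comp_mk]
    refine (NatTrans.naturality_apply S.g _ _).trans ?_
    refine (congrArg (S.X₃.map (π Y a 0).op) (htt (a 0))).trans ?_
    refine (ConcreteCategory.congr_hom (S.X₃.map_comp (a 0).2.1.op (π Y a 0).op) s).symm.trans ?_
    exact congrArg (fun q : obj Y a ⟶ U => S.X₃.map q.op s) (π_hom Y a 0)
  have hd₃ : (EtCech.cechComplex Y S.X₃).d 0 (0 + 1) c₃ = 0 := by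
    refine comp_ext Y _ fun b => ?_
    have hk : ∀ k : Fin 2, S.X₃.map (face Y b k).op (comp Y S.X₃ (b ∘ k.succAbove) c₃) =
        S.X₃.map (∏ᶜ (Y ∘ b)).hom.op s := fun k => by
      rw [comp_mk, ← ConcreteCategory.comp_apply, ← Functor.map_comp, ← op_comp]
      refine congrArg (fun q : obj Y b ⟶ U => S.X₃.map q.op s) ?_
      exact (congrArg (face Y b k ≫ ·) (π_hom Y (b ∘ k.succAbove) 0)).symm.trans
        ((Category.assoc _ _ _).symm.trans
          ((congrArg (· ≫ (Y (b (k.succAbove 0))).hom) (face_π Y b k 0)).trans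
            (π_hom Y b (k.succAbove 0))))
    rw [comp_d_apply, Fin.sum_univ_two, hk, hk, map_zero]
    simp
  have hgdc : cmap Y S.g 1 ((EtCech.cechComplex Y S.X₂).d 0 1 c) = 0 :=
    (d_cmap Y S.g 0 c).symm.trans ((congrArg _ hgc).trans hd₃)
  have hz : ∀ b : Fin 2 → _, ∃ y : S.X₁.obj (op (obj Y b)),
      S.f.app _ y = comp Y S.X₂ b ((EtCech.cechComplex Y S.X₂).d 0 1 c) := fun b =>
    hex _ _ ((comp_cmap Y S.g b _).symm.trans ((congrArg (comp Y S.X₃ b) hgdc).trans (map_zero _)))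
  choose z hz using hz
  let zc : (EtCech.cechComplex Y S.X₁).X 1 := mk Y S.X₁ z
  have hfz : cmap Y S.f 1 zc = (EtCech.cechComplex Y S.X₂).d 0 1 c :=
    comp_ext Y _ fun b => by rw [comp_cmap, comp_mk, hz]
  have hdz : (EtCech.cechComplex Y S.X₁).d 1 (1 + 1) zc = 0 := by
    refine comp_ext Y _ fun b => hinj _ ?_
    rw [← comp_cmap, map_zero, map_zero, ← d_cmap, hfz]
    exact (congrArg (comp Y S.X₂ b) (d_d Y 0 c)).trans (map_zero _)
  obtain ⟨y, hy⟩ : ∃ y, (EtCech.cechComplex Y S.X₁).d 0 1 y = zc := by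
    have h := (HomologicalComplex.exactAt_iff_isZero_homology (EtCech.cechComplex Y S.X₁) 1).2
      (hH R (hls s))
    rw [HomologicalComplex.exactAt_iff' _ 0 1 2 (by simp) (by simp), ShortComplex.ab_exact_iff] at h
    exact h zc hdz
  let c' : (EtCech.cechComplex Y S.X₂).X 0 := c - cmap Y S.f 0 y
  have hdc' : (EtCech.cechComplex Y S.X₂).d 0 (0 + 1) c' = 0 :=
    (map_sub ((EtCech.cechComplex Y S.X₂).d 0 (0 + 1)).hom c (cmap Y S.f 0 y)).trans
      (sub_eq_zero.2 ((hfz.symm.trans (congrArg (cmap Y S.f 1) hy.symm)).trans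
        (d_cmap Y S.f 0 y).symm))
  have hgc' : ∀ a, S.g.app _ (comp Y S.X₂ a c') = S.X₃.map (∏ᶜ (Y ∘ a)).hom.op s := fun a => by
    have h0 : S.g.app (op (obj Y a)) (S.f.app (op (obj Y a)) (comp Y S.X₁ a y)) = 0 := by
      rw [← ConcreteCategory.comp_apply, ← NatTrans.comp_app, S.zero]
      rfl
    have h1 : comp Y S.X₂ a c' = comp Y S.X₂ a c - S.f.app _ (comp Y S.X₁ a y) :=
      (map_sub (comp Y S.X₂ a).hom c (cmap Y S.f 0 y)).trans
        (congrArg (comp Y S.X₂ a c - ·) (comp_cmap Y S.f a y))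
    rw [h1, map_sub, h0, sub_zero, ← comp_cmap, hgc, comp_mk]
  let φ := psi Y S.X₂ c'
  let one : ∀ (W W' : C) (g : W ⟶ U) (hg : R.arrows g) (q : W' ⟶ W), Tup Y W' 0 :=
    fun W W' g hg q => ⟨fun _ => ⟨⟨W, g, hg⟩, q⟩, fun _ => rfl⟩
  let x : Presieve.FamilyOfElements (S.X₂ ⋙ forget AddCommGrpCat.{max u v}) R.arrows :=
    fun W g hg => φ.app (op W) (gen Y (one W W g hg (𝟙 W)))
  have hx : ∀ {W W' : C} (g : W ⟶ U) (hg : R.arrows g) (q : W' ⟶ W),
      S.X₂.map q.op (x g hg) = φ.app (op W') (gen Y (one W W' g hg q)) := fun g hg q => by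
    refine (NatTrans.naturality_apply φ q.op _).symm.trans ?_
    rw [free_map_gen]
    exact congrArg (fun e => φ.app _ (gen Y e))
      (Subtype.ext (funext fun _ => Sigma.ext rfl (heq_of_eq (Category.comp_id q))))
  have hcomp : x.Compatible := by
    intro W₁ W₂ W' q₁ q₂ g₁ g₂ hg₁ hg₂ hq
    refine (hx g₁ hg₁ q₁).trans (Eq.trans ?_ (hx g₂ hg₂ q₂).symm)
    let T : Tup Y W' 1 := ⟨Fin.cons ⟨⟨W₁, g₁, hg₁⟩, q₁⟩ (fun _ => ⟨⟨W₂, g₂, hg₂⟩, q₂⟩),
      fun k => by fin_cases k; exacts [rfl, hq.symm]⟩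
    have h := congrArg (fun (e : free Y 1 ⟶ S.X₂) => e.app (op W') (gen Y T))
      ((dFree_psi Y S.X₂ c').trans ((congrArg (psi Y S.X₂) hdc').trans (psi_zero Y S.X₂ 1)))
    simp only [NatTrans.comp_app, ConcreteCategory.comp_apply, dFree_gen, map_sum,
      map_zsmul] at h
    change _ = (0 : S.X₂.obj (op W')) at h
    rw [Fin.sum_univ_two] at h
    simp only [Fin.val_zero, pow_zero, one_smul, Fin.val_one, pow_one, neg_smul] at h
    have e0 : tupFace Y 0 T = one W₂ W' g₂ hg₂ q₂ :=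
      Subtype.ext (funext fun j => by fin_cases j; rfl)
    have e1 : tupFace Y 1 T = one W₁ W' g₁ hg₁ q₁ :=
      Subtype.ext (funext fun j => by fin_cases j; rfl)
    rw [e0, e1, add_neg_eq_zero] at h
    exact h.symm
  have hs₂ := ((isSheaf_iff_isSheaf_of_type _ _).1
    ((Presheaf.isSheaf_iff_isSheaf_forget J S.X₂ (forget AddCommGrpCat.{max u v})).1 h₂)) R (hls s)
  refine ⟨hs₂.amalgamate x hcomp, ?_⟩
  refine ((((isSheaf_iff_isSheaf_of_type _ _).1
    ((Presheaf.isSheaf_iff_isSheaf_forget J S.X₃ (forget AddCommGrpCat.{max u v})).1 h₃)) R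
    (hls s)).isSeparatedFor).ext fun W g hg => ?_
  change S.X₃.map g.op _ = S.X₃.map g.op s
  rw [← NatTrans.naturality_apply]
  refine (congrArg (S.g.app (op W)) (hs₂.valid_glue hcomp g hg)).trans ?_
  change S.g.app (op W) (φ.app (op W) (gen Y (one W W g hg (𝟙 W)))) = _
  rw [psi_gen, NatTrans.naturality_apply, hgc', ← ConcreteCategory.comp_apply, ← Functor.map_comp,
    ← op_comp]
  refine congrArg (fun q : W ⟶ U => S.X₃.map q.op s) ?_
  let T₀ := one W W g hg (𝟙 W)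
  exact (congrArg (toObj Y T₀ ≫ ·) (π_hom Y (fun k => (T₀.1 k).1) 0)).symm.trans
    ((Category.assoc _ _ _).symm.trans
      ((congrArg (· ≫ (Y (T₀.1 0).1).hom) (toObj_π Y T₀ 0)).trans (Category.id_comp g)))

end Groth.Agent.EtaleSite.CechPre
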