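import Groth.Agent.EtaleSite.OpenImm
import Groth.Agent.EtaleSite.Points
import Mathlib.CategoryTheory.Sites.Point.Skyscraper

/-!
# Stalks of the extension by zero along an étale morphism

`(j_! F)_ξ` is the sum of the stalks `F_u` over the lifts `u` of `ξ`.
-/

universe u

open CategoryTheory CategoryTheory.Limits AlgebraicGeometry Opposite

noncomputable section

namespace Groth.Agent.EtaleSite

variable {U X : Scheme.{u}} (j : U ⟶ X) [Etale j] {Ω : Type u} [Field Ω] [IsSepClosed Ω]
  (ξ : Spec (CommRingCat.of Ω) ⟶ X)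

/-- The lifts of a geometric point along `j`. -/
abbrev PtLift : Type u := {u : Spec (CommRingCat.of Ω) ⟶ U // u ≫ j = ξ}

variable {j ξ}

/-- The morphism underlying a point of a composite. -/
def liftLeft {W : U.Etale}
    (t : (Scheme.pointSmallEtale ξ).fiber.obj ((EtShriek.compEtale j).obj W)) :
    Spec (CommRingCat.of Ω) ⟶ W.left :=
  (show Over.mk ξ ⟶ _ from t).left

theorem liftLeft_w {W : U.Etale}
    (t : (Scheme.pointSmallEtale ξ).fiber.obj ((EtShriek.compEtale j).obj W)) :
    liftLeft t ≫ W.hom ≫ j = ξ :=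
  Over.w (show Over.mk ξ ⟶ _ from t)

/-- The lift determined by a point of a composite. -/
def liftOf {W : U.Etale}
    (t : (Scheme.pointSmallEtale ξ).fiber.obj ((EtShriek.compEtale j).obj W)) : PtLift j ξ :=
  ⟨liftLeft t ≫ W.hom, (Category.assoc _ _ _).trans (liftLeft_w t)⟩

/-- The point of `W` over the lift. -/
def ptOf {W : U.Etale}
    (t : (Scheme.pointSmallEtale ξ).fiber.obj ((EtShriek.compEtale j).obj W)) :
    (Scheme.pointSmallEtale (liftOf t).1).fiber.obj W :=
  (Over.homMk (liftLeft t) rfl : Over.mk (liftOf t).1 ⟶ (Scheme.Etale.forget U).obj W)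

/-- A point of `W` over a lift is a point of the composite over `ξ`. -/
def upPt (u : PtLift j ξ) {W : U.Etale} (w : (Scheme.pointSmallEtale u.1).fiber.obj W) :
    (Scheme.pointSmallEtale ξ).fiber.obj ((EtShriek.compEtale j).obj W) :=
  (Over.homMk (show Over.mk u.1 ⟶ _ from w).left (by
    change (show Over.mk u.1 ⟶ _ from w).left ≫ W.hom ≫ j = ξ
    exact (Category.assoc _ _ _).symm.trans
      ((congrArg (· ≫ j) (Over.w (show Over.mk u.1 ⟶ _ from w))).trans u.2)) :
    Over.mk ξ ⟶ (Scheme.Etale.forget X).obj ((EtShriek.compEtale j).obj W))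

omit [Etale j] in
theorem germ_comp_congr (F : EtCoh.Ab U) {M : AddCommGrpCat.{u + 1}}
    (c : ∀ u : PtLift j ξ, (EtCoh.stalk u.1).obj F ⟶ M) {W : U.Etale} {u₁ u₂ : PtLift j ξ}
    (hu : u₁ = u₂) (w₁ : (Scheme.pointSmallEtale u₁.1).fiber.obj W)
    (w₂ : (Scheme.pointSmallEtale u₂.1).fiber.obj W)
    (hw : (show Over.mk u₁.1 ⟶ _ from w₁).left = (show Over.mk u₂.1 ⟶ _ from w₂).left) :
    germ u₁.1 F W w₁ ≫ c u₁ = germ u₂.1 F W w₂ ≫ c u₂ := by
  subst hu
  rw [show w₁ = w₂ from Over.OverMorphism.ext hw]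

variable (j ξ) [EtShriek.JCont j] (F : EtCoh.Ab U)

/-- `F_u ⟶ (j_! F)_ξ`. -/
def stalkIncl (u : PtLift j ξ) :
    (EtCoh.stalk u.1).obj F ⟶ (EtCoh.stalk ξ).obj ((EtShriek.extZero j).obj F) :=
  (Scheme.pointSmallEtale u.1).presheafFiberDesc
    (fun W w => ((EtShriek.extZeroAdj j).unit.app F).hom.app (op W) ≫
      germ ξ ((EtShriek.extZero j).obj F) ((EtShriek.compEtale j).obj W) (upPt u w))
    (fun {W W'} g w => by
      refine ((Category.assoc _ _ _).symm.trans ((congrArg
        (· ≫ germ ξ ((EtShriek.extZero j).obj F) ((EtShriek.compEtale j).obj W) (upPt u w))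
        (((EtShriek.extZeroAdj j).unit.app F).hom.naturality g.op)).trans
          (Category.assoc _ _ _))).trans (congrArg
            (((EtShriek.extZeroAdj j).unit.app F).hom.app (op W') ≫ ·) ?_)
      refine ((Scheme.pointSmallEtale ξ).toPresheafFiber_w ((EtShriek.compEtale j).map g)
        (upPt u w) ((EtShriek.extZero j).obj F).obj).trans ?_
      rfl)

theorem germ_stalkIncl (u : PtLift j ξ) (W : U.Etale)
    (w : (Scheme.pointSmallEtale u.1).fiber.obj W) :
    germ u.1 F W w ≫ stalkIncl j ξ F u =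
      ((EtShriek.extZeroAdj j).unit.app F).hom.app (op W) ≫
        germ ξ ((EtShriek.extZero j).obj F) ((EtShriek.compEtale j).obj W) (upPt u w) :=
  GrothendieckTopology.Point.toPresheafFiber_presheafFiberDesc _ _ _ _ _

variable {M : AddCommGrpCat.{u + 1}}

/-- Morphisms out of the stalk of `j_! F`. -/
def transpose :
    ((EtCoh.stalk ξ).obj ((EtShriek.extZero j).obj F) ⟶ M) ≃
      (F ⟶ (EtShriek.restrAlong j).obj ((Scheme.pointSmallEtale ξ).skyscraperSheafFunctor.obj M)) :=
  ((Scheme.pointSmallEtale ξ).skyscraperSheafAdjunction.homEquiv _ _).trans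
    ((EtShriek.extZeroAdj j).homEquiv _ _)

theorem transpose_app_π (f : (EtCoh.stalk ξ).obj ((EtShriek.extZero j).obj F) ⟶ M) (W : U.Etale)
    (t : (Scheme.pointSmallEtale ξ).fiber.obj ((EtShriek.compEtale j).obj W)) :
    (transpose j ξ F f).hom.app (op W) ≫ Pi.π (fun _ => M) t =
      ((EtShriek.extZeroAdj j).unit.app F).hom.app (op W) ≫
        germ ξ ((EtShriek.extZero j).obj F) ((EtShriek.compEtale j).obj W) t ≫ f := by
  rw [transpose, Equiv.trans_apply, Adjunction.homEquiv_unit]
  refine (Category.assoc _ _ _).trans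
    (congrArg (((EtShriek.extZeroAdj j).unit.app F).hom.app (op W) ≫ ·) ?_)
  show ((((Scheme.pointSmallEtale ξ).skyscraperSheafAdjunction.homEquiv
    ((EtShriek.extZero j).obj F) M) f).hom.app (op ((EtShriek.compEtale j).obj W))) ≫ _ = _
  erw [GrothendieckTopology.Point.skyscraperSheafAdjunction_homEquiv_apply_hom,
    GrothendieckTopology.Point.skyscraperPresheafHomEquiv_apply_app]
  exact Pi.lift_π (f := fun _ => M) _ t

/-- The map to skyscrapers given by a family of maps on the stalks. -/
def descSheafHom (c : ∀ u : PtLift j ξ, (EtCoh.stalk u.1).obj F ⟶ M) :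
    F ⟶ (EtShriek.restrAlong j).obj ((Scheme.pointSmallEtale ξ).skyscraperSheafFunctor.obj M) where
  hom :=
    { app := fun W => Pi.lift fun t => germ (liftOf t).1 F W.unop (ptOf t) ≫ c (liftOf t)
      naturality := fun W W' g => by
        change F.obj.map g ≫ Pi.lift _ = Pi.lift _ ≫ Pi.lift _
        refine Pi.hom_ext _ _ fun t => ?_
        simp only [Category.assoc]
        erw [Pi.lift_π, Pi.lift_π, Pi.lift_π, ← Category.assoc]
        refine (congrArg (· ≫ c (liftOf t))
          ((Scheme.pointSmallEtale (liftOf t).1).toPresheafFiber_w g.unop (ptOf t) F.obj)).trans ?_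
        refine germ_comp_congr F c (Subtype.ext ?_) _ _ rfl
        exact ((Category.assoc _ _ _).trans
          (congrArg (liftLeft t ≫ ·) (MorphismProperty.Over.w g.unop))).symm }

/-- The stalk of `j_! F` is the sum of the stalks at the lifts. -/
def isColimitStalkIncl :
    IsColimit (Cofan.mk ((EtCoh.stalk ξ).obj ((EtShriek.extZero j).obj F)) (stalkIncl j ξ F)) :=
  Cofan.IsColimit.mk _ (fun s => (transpose j ξ F).symm (descSheafHom j ξ F s.inj))
    (fun s u => by
      refine (Scheme.pointSmallEtale u.1).presheafFiber_hom_ext fun W w => ?_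
      change germ u.1 F W w ≫ stalkIncl j ξ F u ≫ _ = germ u.1 F W w ≫ s.inj u
      refine ((Category.assoc _ _ _).symm.trans ((congrArg (· ≫ _) (germ_stalkIncl j ξ F u W w)).trans
        ((Category.assoc _ _ _).trans ((transpose_app_π j ξ F _ W (upPt u w)).symm)))).trans ?_
      rw [Equiv.apply_symm_apply]
      refine (Pi.lift_π _ _).trans (germ_comp_congr F s.inj (Subtype.ext ?_) _ _ rfl)
      exact Over.w (show Over.mk u.1 ⟶ _ from w))
    (fun s f hf => by
      rw [Equiv.eq_symm_apply]
      refine ObjectProperty.hom_ext _ (NatTrans.ext (funext fun W => ?_))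
      change _ = Pi.lift _
      refine Pi.hom_ext (f := fun _ => s.pt) _ _ fun t => ?_
      refine (transpose_app_π j ξ F f W.unop t).trans (Eq.trans ?_ (Pi.lift_π (f := fun _ => s.pt) _ t).symm)
      rw [← hf]
      change _ = germ (liftOf t).1 F W.unop (ptOf t) ≫ stalkIncl j ξ F (liftOf t) ≫ f
      exact ((Category.assoc _ _ _).symm.trans
        ((congrArg (· ≫ f) (germ_stalkIncl j ξ F (liftOf t) W.unop (ptOf t))).trans
          (Category.assoc _ _ _))).symm)

/-- `(j_! F)_ξ ≅ ∐_u F_u`. -/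
def stalkExtZeroCoprodIso :
    (EtCoh.stalk ξ).obj ((EtShriek.extZero j).obj F) ≅
      ∐ fun u : PtLift j ξ => (EtCoh.stalk u.1).obj F :=
  (isColimitStalkIncl j ξ F).coconePointUniqueUpToIso (coproductIsCoproduct _)

end Groth.Agent.EtaleSite
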