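import Groth.Agent.EtaleSite.Flasque
import Groth.Agent.EtaleSite.Covers
import Groth.Agent.LimLib.Glue
import Mathlib.GroupTheory.FreeAbelianGroup

/-!
# Restriction of sections along open immersions for injective and flasque sheaves
-/

set_option autoImplicit false

universe u

open CategoryTheory CategoryTheory.Limits AlgebraicGeometry Opposite

noncomputable section

namespace Groth.Agent.EtaleSite.OpenRestrict

variable {X : Scheme.{u}}

/-- The free presheaf on an object. -/
def freeP (T : X.Etale) : X.Etaleᵒᵖ ⥤ AddCommGrpCat.{u + 1} where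
  obj W := AddCommGrpCat.of (FreeAbelianGroup (ULift.{u + 1} (W.unop ⟶ T)))
  map q := AddCommGrpCat.ofHom (FreeAbelianGroup.map fun t => ULift.up (q.unop ≫ t.down))
  map_id W := by
    ext x
    simp
  map_comp q q' := by
    ext x
    simp

/-- Morphisms out of a free presheaf. -/
def liftP (T : X.Etale) (P : X.Etaleᵒᵖ ⥤ AddCommGrpCat.{u + 1}) (s : P.obj (op T)) : freeP T ⟶ P where
  app W := AddCommGrpCat.ofHom (FreeAbelianGroup.lift fun t => P.map t.down.op s)
  naturality W W' q := AddCommGrpCat.hom_ext <| FreeAbelianGroup.lift_ext _ _ fun t => by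
    change FreeAbelianGroup.lift _ (FreeAbelianGroup.map _ (FreeAbelianGroup.of t)) =
      P.map q (FreeAbelianGroup.lift _ (FreeAbelianGroup.of t))
    rw [FreeAbelianGroup.map_of_apply, FreeAbelianGroup.lift_apply_of,
      FreeAbelianGroup.lift_apply_of]
    exact ConcreteCategory.congr_hom (P.map_comp t.down.op q) s

lemma liftP_of (T : X.Etale) (P : X.Etaleᵒᵖ ⥤ AddCommGrpCat.{u + 1}) (s : P.obj (op T))
    (W : X.Etale) (t : W ⟶ T) :
    (liftP T P s).app (op W) (FreeAbelianGroup.of (ULift.up t)) = P.map t.op s :=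
  FreeAbelianGroup.lift_apply_of _ _

/-- Functoriality of the free presheaf. -/
def mapP {V U : X.Etale} (g : V ⟶ U) : freeP V ⟶ freeP U where
  app W := AddCommGrpCat.ofHom (FreeAbelianGroup.map fun t => ULift.up (t.down ≫ g))
  naturality W W' q := AddCommGrpCat.hom_ext <| FreeAbelianGroup.lift_ext _ _ fun t => by
    change FreeAbelianGroup.map _ (FreeAbelianGroup.map _ (FreeAbelianGroup.of t)) =
      FreeAbelianGroup.map _ (FreeAbelianGroup.map _ (FreeAbelianGroup.of t))
    simp [FreeAbelianGroup.map_of_apply]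

theorem map_injective {α β : Type*} {f : α → β} (hf : Function.Injective f) :
    Function.Injective (FreeAbelianGroup.map f) := by
  rcases isEmpty_or_nonempty α with h | h
  · intro a b _
    have : ∀ c : FreeAbelianGroup α, c = 0 := fun c => by
      have e : AddMonoidHom.id (FreeAbelianGroup α) = 0 :=
        FreeAbelianGroup.lift_ext _ _ fun x => isEmptyElim x
      exact DFunLike.congr_fun e c
    rw [this a, this b]
  · refine Function.LeftInverse.injective (g := FreeAbelianGroup.map (Function.invFun f)) fun a => ?_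
    rw [← FreeAbelianGroup.map_comp_apply, Function.invFun_comp hf, FreeAbelianGroup.map_id_apply]

theorem mono_of_isOpenImmersion {V U : X.Etale} (g : V ⟶ U) [IsOpenImmersion g.left] : Mono g :=
  ⟨fun a b h => MorphismProperty.Over.Hom.ext
    ((cancel_mono g.left).1 (congrArg (fun k => k.left) h :))⟩

/-- Injective sheaves have surjective restrictions along open immersions. -/
theorem surjective_of_injective (I : EtCoh.Ab X) [Injective I] {U V : X.Etale} (g : V ⟶ U)
    [IsOpenImmersion g.left] : Function.Surjective (I.obj.map g.op) := by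
  intro s
  have : Injective I.obj := Injective.injective_of_adjoint
    (sheafificationAdjunction X.smallEtaleTopology AddCommGrpCat.{u + 1}) I
  have := mono_of_isOpenImmersion g
  have : Mono (mapP g) := by
    have : ∀ W, Mono ((mapP g).app W) := fun W =>
      (AddCommGrpCat.mono_iff_injective _).2 (map_injective fun a b h =>
        ULift.down_injective ((cancel_mono g).1 (congrArg ULift.down h)))
    exact NatTrans.mono_of_mono_app _
  let ψ := Injective.factorThru (liftP V I.obj s) (mapP g)
  refine ⟨ψ.app (op U) (FreeAbelianGroup.of (ULift.up (𝟙 U))), ?_⟩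
  rw [← NatTrans.naturality_apply]
  have h := congrArg (fun (e : freeP V ⟶ I.obj) => e.app (op V) (FreeAbelianGroup.of (ULift.up (𝟙 V))))
    (Injective.comp_factorThru (liftP V I.obj s) (mapP g))
  refine Eq.trans ?_ (h.trans ((liftP_of V I.obj s V (𝟙 V)).trans
    (ConcreteCategory.congr_hom (I.obj.map_id (op V)) s)))
  change ψ.app (op V) (FreeAbelianGroup.map _ (FreeAbelianGroup.of _)) =
    ψ.app (op V) (FreeAbelianGroup.map _ (FreeAbelianGroup.of _))
  rw [FreeAbelianGroup.map_of_apply, FreeAbelianGroup.map_of_apply]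
  simp

set_option maxHeartbeats 1000000 in
/-- Flasque sheaves have surjective restrictions along open immersions. -/
theorem surjective_of_isFlasque (F : EtCoh.Ab X) (hF : Flasque.IsFlasque F) {U V : X.Etale}
    (g : V ⟶ U) [IsOpenImmersion g.left] : Function.Surjective (F.obj.map g.op) := by
  intro s
  let S : ShortComplex (EtCoh.Ab X) :=
    ShortComplex.mk (Injective.ι F) (cokernel.π _) (cokernel.condition _)
  have : Epi S.g := coequalizer.π_epi
  have hS : S.ShortExact := { exact := ShortComplex.exact_cokernel _ }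
  have hI : Injective S.X₂ := inferInstanceAs (Injective (Injective.under F))
  have hinj : ∀ T : X.Etale, Function.Injective (S.f.hom.app (op T)) := fun T =>
    (AddCommGrpCat.mono_iff_injective _).1
      (((evaluation _ AddCommGrpCat.{u + 1}).obj (op T)).map_mono
        ((sheafToPresheaf X.smallEtaleTopology AddCommGrpCat.{u + 1}).map S.f))
  have hfg : ∀ (T : X.Etale) (a : S.X₁.obj.obj (op T)),
      S.g.hom.app (op T) (S.f.hom.app (op T) a) = 0 := fun T a =>
    ConcreteCategory.congr_hom (congrArg (fun (k : S.X₁ ⟶ S.X₃) => k.hom.app (op T)) S.zero) a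
  have hex : ∀ (T : X.Etale) (y : S.X₂.obj.obj (op T)), S.g.hom.app (op T) y = 0 →
      ∃ a, S.f.hom.app (op T) a = y := fun T y hy => by
    have h := (hS.exact.map_of_mono_of_preservesKernel
      (sheafToPresheaf X.smallEtaleTopology AddCommGrpCat.{u + 1} ⋙
        (evaluation _ AddCommGrpCat.{u + 1}).obj (op T)) hS.mono_f inferInstance)
    exact (ShortComplex.ab_exact_iff _).1 h y hy
  obtain ⟨x, hx⟩ := surjective_of_injective S.X₂ g (S.f.hom.app (op V) s)
  let p : pushout g.left g.left ⟶ X := pushout.desc U.hom U.hom rfl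
  have hp : Etale p := by
    refine (IsZariskiLocalAtSource.iff_of_openCover (P := @AlgebraicGeometry.Etale)
      (Scheme.IsLocallyDirected.openCover (span g.left g.left))).2 fun i => ?_
    rcases i with _ | (_ | _)
    · have : colimit.ι (span g.left g.left) none ≫ p = V.hom := by
        rw [← colimit.w (span g.left g.left) WalkingSpan.Hom.fst, Category.assoc]
        exact (congrArg (g.left ≫ ·) (pushout.inl_desc _ _ _)).trans (MorphismProperty.Over.w g)
      exact (show Etale (colimit.ι (span g.left g.left) none ≫ p) from this ▸ V.prop)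
    · exact (show Etale (pushout.inl g.left g.left ≫ p) from
        (pushout.inl_desc _ _ _ : pushout.inl g.left g.left ≫ p = U.hom) ▸ U.prop)
    · exact (show Etale (pushout.inr g.left g.left ≫ p) from
        (pushout.inr_desc _ _ _ : pushout.inr g.left g.left ≫ p = U.hom) ▸ U.prop)
  let W : X.Etale := MorphismProperty.Over.mk ⊤ p hp
  let i₁ : U ⟶ W := MorphismProperty.Over.homMk (pushout.inl g.left g.left) (pushout.inl_desc _ _ _)
  let i₂ : U ⟶ W := MorphismProperty.Over.homMk (pushout.inr g.left g.left) (pushout.inr_desc _ _ _)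
  have hg₁₂ : g ≫ i₁ = g ≫ i₂ := MorphismProperty.Over.Hom.ext pushout.condition
  let π : Bool → (U ⟶ W) := fun b => bif b then i₁ else i₂
  have hcov : Sieve.ofArrows _ π ∈ X.smallEtaleTopology W := by
    rw [Scheme.ofArrows_mem_smallEtaleTopology_iff]
    refine Set.eq_univ_of_forall fun w => ?_
    have h := (LimLib.pushout_opensRange_sup g.left g.left).ge (Set.mem_univ w)
    rcases h with h | h
    · exact Set.mem_iUnion.2 ⟨true, h⟩
    · exact Set.mem_iUnion.2 ⟨false, h⟩
  have hsep : ∀ (G : EtCoh.Ab X), Presieve.IsSheafFor (G.obj ⋙ forget AddCommGrpCat.{u + 1})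
      (Presieve.ofArrows _ π) := fun G =>
    ((isSheaf_iff_isSheaf_of_type _ _).1 ((Presheaf.isSheaf_iff_isSheaf_forget _ _
      (forget AddCommGrpCat.{u + 1})).1 G.property)).isSheafFor _ hcov
  let z : Bool → S.X₃.obj.obj (op U) := fun b => bif b then S.g.hom.app (op U) x else 0
  have hzV : ∀ b, S.X₃.obj.map g.op (z b) = 0 := by
    intro b
    cases b
    · exact map_zero _
    · change S.X₃.obj.map g.op (S.g.hom.app (op U) x) = 0
      rw [← NatTrans.naturality_apply, hx, hfg]
  have hcompat : Presieve.Arrows.Compatible (S.X₃.obj ⋙ forget AddCommGrpCat.{u + 1}) π z := by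
    have key : ∀ (T : X.Etale) (q₁ q₂ : T ⟶ U), q₁ ≫ i₁ = q₂ ≫ i₂ →
        ∃ l : T ⟶ V, l ≫ g = q₁ ∧ l ≫ g = q₂ := by
      intro T q₁ q₂ h
      have hl := congrArg (fun k => k.left) h
      have hr : Set.range q₁.left.base ⊆ Set.range g.left.base := by
        rintro _ ⟨t, rfl⟩
        have hm : (pushout.inl g.left g.left) (q₁.left t) ∈
            Set.range (g.left ≫ pushout.inl g.left g.left) := by
          rw [← LimLib.pushout_range_inter]
          exact ⟨⟨_, rfl⟩, q₂.left t, (Scheme.Hom.comp_apply _ _ t).symm.trans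
            ((congrArg (fun (k : T.left ⟶ _) => k t) hl.symm).trans (Scheme.Hom.comp_apply _ _ t))⟩
        obtain ⟨v, hv⟩ := hm
        exact ⟨v, (pushout.inl g.left g.left).isOpenEmbedding.injective
          ((Scheme.Hom.comp_apply _ _ v).symm.trans hv)⟩
      let l₀ := IsOpenImmersion.lift g.left q₁.left hr
      have hl₀ : l₀ ≫ g.left = q₁.left := IsOpenImmersion.lift_fac _ _ hr
      let l : T ⟶ V := MorphismProperty.Over.homMk l₀
        ((congrArg (l₀ ≫ ·) (MorphismProperty.Over.w g)).symm.trans
          ((Category.assoc _ _ _).symm.trans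
            ((congrArg (· ≫ U.hom) hl₀).trans (MorphismProperty.Over.w q₁))))
      have e1 : l ≫ g = q₁ := MorphismProperty.Over.Hom.ext hl₀
      have : Mono i₂ := by
        haveI : IsOpenImmersion i₂.left := inferInstanceAs (IsOpenImmersion (pushout.inr g.left g.left))
        exact mono_of_isOpenImmersion i₂
      refine ⟨l, e1, (cancel_mono i₂).1 ?_⟩
      rw [Category.assoc, ← hg₁₂, ← Category.assoc, e1, h]
    intro b b' T q₁ q₂ h
    change S.X₃.obj.map q₁.op (z b) = S.X₃.obj.map q₂.op (z b')
    have : Mono i₁ := by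
        haveI : IsOpenImmersion i₁.left := inferInstanceAs (IsOpenImmersion (pushout.inl g.left g.left))
        exact mono_of_isOpenImmersion i₁
    have : Mono i₂ := by
        haveI : IsOpenImmersion i₂.left := inferInstanceAs (IsOpenImmersion (pushout.inr g.left g.left))
        exact mono_of_isOpenImmersion i₂
    cases b <;> cases b'
    · rw [(cancel_mono i₂).1 h]
    · obtain ⟨l, e1, e2⟩ := key T q₂ q₁ h.symm
      rw [← e1, ← e2, op_comp, Functor.map_comp, ConcreteCategory.comp_apply, ConcreteCategory.comp_apply,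
        hzV, hzV]
    · obtain ⟨l, e1, e2⟩ := key T q₁ q₂ h
      rw [← e2, op_comp, Functor.map_comp, ConcreteCategory.comp_apply, hzV]
      rw [← e1, op_comp, Functor.map_comp, ConcreteCategory.comp_apply, hzV]
    · rw [(cancel_mono i₁).1 h]
  obtain ⟨ζ, hζ, -⟩ := (Presieve.isSheafFor_arrows_iff _ _).1 (hsep S.X₃) z hcompat
  obtain ⟨t, rfl⟩ := hF.surjective_sections hS W ζ
  have h1 : S.g.hom.app (op U) (S.X₂.obj.map i₁.op t - x) = 0 := by
    rw [map_sub, NatTrans.naturality_apply, sub_eq_zero]
    exact hζ true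
  have h2 : S.g.hom.app (op U) (S.X₂.obj.map i₂.op t) = 0 := by
    rw [NatTrans.naturality_apply]
    exact hζ false
  obtain ⟨a, ha⟩ := hex U _ h1
  obtain ⟨b, hb⟩ := hex U _ h2
  refine ⟨b - a, hinj V ?_⟩
  rw [NatTrans.naturality_apply, map_sub, ha, hb, map_sub, map_sub, ← hx]
  have e : S.X₂.obj.map g.op (S.X₂.obj.map i₁.op t) = S.X₂.obj.map g.op (S.X₂.obj.map i₂.op t) := by
    rw [← ConcreteCategory.comp_apply, ← ConcreteCategory.comp_apply, ← Functor.map_comp,
      ← Functor.map_comp, ← op_comp, ← op_comp, hg₁₂]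
  rw [e]
  abel

end Groth.Agent.EtaleSite.OpenRestrict
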