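import Groth.Agent.EtaleSite.Stalk
import Groth.Agent.EtaleSite.Covers
import Mathlib.AlgebraicGeometry.Sites.Small
import Mathlib.AlgebraicGeometry.Morphisms.Etale
import Mathlib.AlgebraicGeometry.Limits
import Mathlib.AlgebraicGeometry.Morphisms.UniversallyOpen

/-!
# Étale sheaves = Zariski sheaves with descent for surjections of affines
-/

set_option autoImplicit false

universe w u

open CategoryTheory CategoryTheory.Limits AlgebraicGeometry Opposite

noncomputable section

namespace Groth.Agent.EtaleSite.ZarAffine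

variable {X : Scheme.{u}}

/-- The Zariski topology on the small étale site. -/
abbrev zar (X : Scheme.{u}) : GrothendieckTopology X.Etale :=
  X.smallGrothendieckTopology (P := @IsOpenImmersion)

theorem mem_zar_iff {U : X.Etale} (S : Sieve U) :
    S ∈ zar X U ↔ ∀ u : U.left, ∃ (V : X.Etale) (g : V ⟶ U) (v : V.left),
      S g ∧ IsOpenImmersion g.left ∧ g.left v = u := by
  have hle : (@IsOpenImmersion : MorphismProperty Scheme.{u}) ≤ @Etale := by
    intro A B f (hf : IsOpenImmersion f)
    exact (inferInstance : Etale f)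
  have e := Scheme.smallGrothendieckTopology_eq_toGrothendieck_smallPretopology X hle
  rw [zar, e]
  exact Scheme.mem_toGrothendieck_smallPretopology U S

theorem le_etale {U : X.Etale} {S : Sieve U} (hS : S ∈ zar X U) : S ∈ X.smallEtaleTopology U :=
  mem_topology_of_forall_exists S fun u => by
    obtain ⟨V, g, v, hg, -, hv⟩ := (mem_zar_iff S).1 hS u
    exact ⟨V, g, v, hg, hv⟩

variable (F : X.Etaleᵒᵖ ⥤ Type w)

/-- `y` amalgamates the pullback of `x` along `q`. -/
def Am {U : X.Etale} {R : Sieve U} (x : Presieve.FamilyOfElements F R.arrows)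
    {V : X.Etale} (q : V ⟶ U) (y : F.obj (op V)) : Prop :=
  ∀ ⦃T : X.Etale⦄ (k : T ⟶ V) (hk : R (k ≫ q)), F.map k.op y = x (k ≫ q) hk

variable {F}

theorem Am.map {U : X.Etale} {R : Sieve U} {x : Presieve.FamilyOfElements F R.arrows}
    {V V' : X.Etale} {q : V ⟶ U} {y : F.obj (op V)} (h : Am F x q y) (l : V' ⟶ V) :
    Am F x (l ≫ q) (F.map l.op y) := fun T k hk => by
  rw [← Functor.map_comp_apply, ← op_comp]
  have hk' : R ((k ≫ l) ≫ q) := by rw [Category.assoc]; exact hk
  rw [h (k ≫ l) hk']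
  congr 1

variable (hsep : ∀ {U : X.Etale} (R : Sieve U), R ∈ X.smallEtaleTopology U →
    Presieve.IsSeparatedFor F R.arrows)

include hsep in
theorem Am.unique {U : X.Etale} {R : Sieve U} (hR : R ∈ X.smallEtaleTopology U)
    {x : Presieve.FamilyOfElements F R.arrows} {V : X.Etale} {q : V ⟶ U} {y y' : F.obj (op V)}
    (h : Am F x q y) (h' : Am F x q y') : y = y' :=
  (hsep (R.pullback q) (X.smallEtaleTopology.pullback_stable q hR)).ext fun T k hk =>
    (h k hk).trans (h' k hk).symm

include hsep in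
theorem exists_am_of_zar (hz : Presieve.IsSheaf (zar X) F) {U : X.Etale} {R : Sieve U}
    (hR : R ∈ X.smallEtaleTopology U) (x : Presieve.FamilyOfElements F R.arrows) (hx : x.Compatible)
    {V : X.Etale} (q : V ⟶ U) (S : Sieve V) (hS : S ∈ zar X V)
    (h : ∀ ⦃T : X.Etale⦄ (k : T ⟶ V), S k → ∃ y, Am F x (k ≫ q) y) : ∃ y, Am F x q y := by
  choose y hy using h
  have hc : Presieve.FamilyOfElements.Compatible (P := F) (fun T k hk => y (T := T) k hk) := by
    intro A B T l₁ l₂ k₁ k₂ h₁ h₂ e
    refine Am.unique (x := x) hsep hR (q := (l₁ ≫ k₁) ≫ q) ?_ ?_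
    · rw [Category.assoc]; exact (hy k₁ h₁).map l₁
    · rw [e, Category.assoc]; exact (hy k₂ h₂).map l₂
  refine ⟨(hz S hS).amalgamate _ hc, fun T k hk => ?_⟩
  refine (hz _ ((zar X).pullback_stable k hS)).isSeparatedFor.ext fun A l hl => ?_
  refine (Functor.map_comp_apply F k.op l.op _).symm.trans ?_
  refine (congrArg (fun e => F.map e _) (op_comp (f := l) (g := k)).symm).trans ?_
  refine ((hz S hS).valid_glue hc (l ≫ k) hl).trans ?_
  have hlk : R (𝟙 A ≫ (l ≫ k) ≫ q) := by
    rw [Category.id_comp, Category.assoc]; exact R.downward_closed hk l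
  have e1 := hy (l ≫ k) hl (𝟙 A) hlk
  rw [op_id, F.map_id] at e1
  refine (show _ = _ from e1).trans ?_
  refine Eq.trans ?_ ((Presieve.compatible_iff_sieveCompatible _).1 hx (k ≫ q) l hk)
  congr 1

include hsep in
/-- Descent for covering sieves of affine objects. -/
theorem exists_am_of_affine (hz : Presieve.IsSheaf (zar X) F)
    (haff : ∀ (U V : X.Etale) [IsAffine U.left] [IsAffine V.left] (f : V ⟶ U) [Surjective f.left],
      Presieve.IsSheafFor F (Presieve.singleton f))
    {U : X.Etale} {R : Sieve U} (hR : R ∈ X.smallEtaleTopology U)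
    (x : Presieve.FamilyOfElements F R.arrows) (hx : x.Compatible)
    {V : X.Etale} (f : V ⟶ U) [IsAffine U.left] [IsAffine V.left] [Surjective f.left]
    (h : ∃ v, Am F x f v) : ∃ t, Am F x (𝟙 U) t := by
  obtain ⟨v, hv⟩ := h
  have hc : Presieve.FamilyOfElements.Compatible (P := F) (R := Presieve.singleton f)
      ((Presieve.FamilyOfElements.singletonEquiv F f).symm v) := by
    intro A B T l₁ l₂ g₁ g₂ h₁ h₂ e
    obtain ⟨⟩ := h₁
    obtain ⟨⟩ := h₂
    simp only [Presieve.FamilyOfElements.singletonEquiv_symm_apply_self]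
    refine Am.unique (x := x) hsep hR (q := l₁ ≫ f) (hv.map l₁) ?_
    rw [e]
    exact hv.map l₂
  obtain ⟨t, ht, -⟩ := haff U V f _ hc
  have htv : F.map f.op t = v := (ht f (Presieve.singleton_self f)).trans
    (Presieve.FamilyOfElements.singletonEquiv_symm_apply_self _ _)
  refine ⟨t, fun T k hk => ?_⟩
  have hcov : Sieve.generate (Presieve.singleton f) ∈ X.smallEtaleTopology U :=
    Covers.singleton_mem f f.left.surjective
  refine (hsep _ (X.smallEtaleTopology.pullback_stable k hcov)).ext fun A l hl => ?_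
  obtain ⟨B, a, g, ⟨⟩, e⟩ := hl
  refine (Functor.map_comp_apply F k.op l.op t).symm.trans ?_
  refine (congrArg (fun e => F.map e t) ((op_comp (f := l) (g := k)).symm.trans
    ((congrArg Quiver.Hom.op e).symm.trans (op_comp (f := a) (g := f))))).trans ?_
  refine (Functor.map_comp_apply F f.op a.op t).trans ?_
  rw [htv]
  have hlk : R (a ≫ f) := by
    rw [e]
    refine R.downward_closed ?_ l
    rw [Category.comp_id] at hk
    exact hk
  rw [hv a hlk]
  refine Eq.trans ?_ ((Presieve.compatible_iff_sieveCompatible _).1 hx (k ≫ 𝟙 U) l hk)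
  congr 1

/-- An affine open inside an object of the small étale site. -/
abbrev openObj (V : X.Etale) (W : V.left.Opens) : X.Etale :=
  MorphismProperty.Over.mk ⊤ (W.ι ≫ V.hom)
    (have : Etale V.hom := V.prop; (inferInstance : Etale (W.ι ≫ V.hom)))

/-- Its inclusion. -/
abbrev openHom (V : X.Etale) (W : V.left.Opens) : openObj V W ⟶ V :=
  MorphismProperty.Over.homMk W.ι rfl

/-- A covering sieve of an affine object contains a finite affine cover. -/
theorem exists_affine_surjective {U : X.Etale} [IsAffine U.left] {R : Sieve U}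
    (hR : R ∈ X.smallEtaleTopology U) :
    ∃ (V : X.Etale) (_ : IsAffine V.left) (f : V ⟶ U) (_ : Surjective f.left)
      (S : Sieve V), S ∈ zar X V ∧ ∀ ⦃T : X.Etale⦄ (k : T ⟶ V), S k → R (k ≫ f) := by
  have h : ∀ u : U.left, ∃ (V : X.Etale) (g : V ⟶ U) (v : V.left),
      R g ∧ IsAffine V.left ∧ g.left v = u := fun u => by
    obtain ⟨V, g, v, hg, hv⟩ := Covers.exists_of_mem hR u
    obtain ⟨W, hW, hvW, -⟩ := TopologicalSpace.Opens.isBasis_iff_nbhd.1 V.left.isBasis_affineOpens
      (U := ⊤) (TopologicalSpace.Opens.mem_top v)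
    exact ⟨openObj V W, openHom V W ≫ g, ⟨v, hvW⟩, R.downward_closed hg _, hW,
      (Scheme.Hom.comp_apply _ _ _).trans hv⟩
  choose V g v hg hV hv using h
  have hopen : ∀ u, IsOpen (Set.range (g u).left.base) := fun u => by
    have : Etale (g u).left := by
      have := (V u).prop
      have := U.prop
      have e : Etale ((g u).left ≫ U.hom) := by
        rw [MorphismProperty.Over.w (g u)]; exact (V u).prop
      exact MorphismProperty.of_postcomp (W := @AlgebraicGeometry.Etale) (W' := @AlgebraicGeometry.Etale)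
        (g u).left U.hom U.prop e
    exact (g u).left.isOpenMap.isOpen_range
  obtain ⟨s, hs⟩ := isCompact_univ.elim_finite_subcover (fun u => Set.range (g u).left.base) hopen
    fun u _ => Set.mem_iUnion.2 ⟨u, v u, hv u⟩
  let gfam : s → Scheme.{u} := fun i => (V i.1).left
  have : ∀ i, IsAffine (gfam i) := fun i => hV i.1
  let p : (∐ gfam) ⟶ X := Sigma.desc fun i => (V i.1).hom
  have hp : Etale p := IsZariskiLocalAtSource.sigmaDesc (P := @AlgebraicGeometry.Etale)
    fun i => (V i.1).prop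
  let W : X.Etale := MorphismProperty.Over.mk ⊤ p hp
  let f : W ⟶ U := MorphismProperty.Over.homMk (Sigma.desc fun i => (g i.1).left) (by
    refine Sigma.hom_ext _ _ fun i => ?_
    refine (Sigma.ι_desc_assoc _ _ _).trans ?_
    exact (MorphismProperty.Over.w (g i.1)).trans
      (Sigma.ι_desc (f := gfam) (fun i => (V i.1).hom) i).symm)
  let inc : ∀ i : s, V i.1 ⟶ W := fun i =>
    MorphismProperty.Over.homMk (Sigma.ι gfam i) (Sigma.ι_desc (f := gfam) (fun i => (V i.1).hom) i)
  have hinc : ∀ i, inc i ≫ f = g i.1 := fun i =>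
    MorphismProperty.Over.Hom.ext (Sigma.ι_desc (f := gfam) (fun i => (g i.1).left) i)
  refine ⟨W, (inferInstance : IsAffine (∐ gfam)), f, ⟨fun u => ?_⟩,
    Sieve.ofArrows _ inc, (mem_zar_iff _).2 fun w => ?_, ?_⟩
  · obtain ⟨u', hu', y, hy⟩ := Set.mem_iUnion₂.1 (hs (Set.mem_univ u))
    refine ⟨(inc ⟨u', hu'⟩).left y, ?_⟩
    exact (Scheme.Hom.comp_apply _ _ _).symm.trans
      ((congrArg (fun (k : V u' ⟶ U) => k.left y) (hinc ⟨u', hu'⟩)).trans hy)
  · obtain ⟨i, y, hy⟩ := (sigmaOpenCover gfam).exists_eq w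
    exact ⟨_, inc i, y, Sieve.ofArrows_mk _ _ i,
      (inferInstance : IsOpenImmersion (Sigma.ι gfam i)), hy⟩
  · rintro T k ⟨B, a, b, ⟨i⟩, rfl⟩
    rw [Category.assoc, hinc]
    exact R.downward_closed (hg i.1) a

/-- The criterion. -/
theorem isSheaf_iff (F : X.Etaleᵒᵖ ⥤ Type w) :
    Presieve.IsSheaf X.smallEtaleTopology F ↔
      Presieve.IsSheaf (zar X) F ∧
        ∀ (U V : X.Etale) [IsAffine U.left] [IsAffine V.left] (f : V ⟶ U) [Surjective f.left],
          Presieve.IsSheafFor F (Presieve.singleton f) := by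
  refine ⟨fun h => ⟨fun U S hS => h S (le_etale hS), fun U V _ _ f _ =>
    h.isSheafFor _ (Covers.singleton_mem f f.left.surjective)⟩, fun ⟨hz, haff⟩ => ?_⟩
  have affOpens : ∀ U : X.Etale, ∃ S ∈ zar X U, ∀ ⦃T : X.Etale⦄ (k : T ⟶ U), S k →
      ∃ (W : X.Etale) (a : T ⟶ W) (b : W ⟶ U), a ≫ b = k ∧ IsAffine W.left := fun U => by
    refine ⟨Sieve.ofArrows _ (fun W : {W : U.left.Opens // IsAffineOpen W} => openHom U W.1),
      (mem_zar_iff _).2 fun u => ?_, ?_⟩
    · obtain ⟨W, hW, huW, -⟩ := TopologicalSpace.Opens.isBasis_iff_nbhd.1 U.left.isBasis_affineOpens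
        (U := ⊤) (TopologicalSpace.Opens.mem_top u)
      exact ⟨_, openHom U W, ⟨u, huW⟩, Sieve.ofArrows_mk _ _ (⟨W, hW⟩ : {W : U.left.Opens // IsAffineOpen W}),
        (inferInstance : IsOpenImmersion (Scheme.Opens.ι W)), rfl⟩
    · rintro T k ⟨B, a, b, ⟨W⟩, rfl⟩
      exact ⟨_, a, _, rfl, W.2⟩
  have sepAff : ∀ {U : X.Etale}, IsAffine U.left → ∀ (R : Sieve U), R ∈ X.smallEtaleTopology U →
      Presieve.IsSeparatedFor F R.arrows := by
    intro U _ R hR x t t' ht ht'
    obtain ⟨V, _, f, _, S, hS, hSR⟩ := exists_affine_surjective hR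
    refine (haff U V f).isSeparatedFor.ext fun T q hq => ?_
    obtain ⟨⟩ := hq
    refine (hz S hS).isSeparatedFor.ext fun T k hk => ?_
    rw [← Functor.map_comp_apply, ← Functor.map_comp_apply, ← op_comp]
    exact (ht _ (hSR k hk)).trans (ht' _ (hSR k hk)).symm
  have hsep : ∀ {U : X.Etale} (R : Sieve U), R ∈ X.smallEtaleTopology U →
      Presieve.IsSeparatedFor F R.arrows := by
    intro U R hR
    rw [Presieve.IsSeparatedFor]
    intro x t t' ht ht'
    obtain ⟨S, hS, hSa⟩ := affOpens U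
    refine (hz S hS).isSeparatedFor.ext fun T k hk => ?_
    obtain ⟨W, a, b, rfl, hW⟩ := hSa k hk
    rw [op_comp, Functor.map_comp_apply, Functor.map_comp_apply]
    congr 1
    refine (sepAff hW (R.pullback b) (X.smallEtaleTopology.pullback_stable b hR)).ext fun A l hl => ?_
    rw [← Functor.map_comp_apply, ← Functor.map_comp_apply, ← op_comp]
    exact (ht _ hl).trans (ht' _ hl).symm
  intro U R hR x hx
  obtain ⟨S, hS, hSa⟩ := affOpens U
  obtain ⟨t, ht⟩ : ∃ t, Am F x (𝟙 U) t := by
    refine exists_am_of_zar hsep hz hR x hx (𝟙 U) S hS fun T k hk => ?_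
    obtain ⟨W, a, b, rfl, hW⟩ := hSa k hk
    have hR' := X.smallEtaleTopology.pullback_stable b hR
    obtain ⟨V, _, f, _, S', hS', hS'R⟩ := exists_affine_surjective hR'
    obtain ⟨y, hy⟩ := exists_am_of_affine hsep hz haff hR' (x.pullback b) (hx.pullback b) f
      (exists_am_of_zar hsep hz hR' _ (hx.pullback b) f S' hS' fun T' k' hk' =>
        ⟨x.pullback b (k' ≫ f) (hS'R k' hk'), fun A l hl =>
          ((Presieve.compatible_iff_sieveCompatible _).1 (hx.pullback b) (k' ≫ f) l (hS'R k' hk')).symm⟩)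
    have hyb : Am F x b y := fun A l hl => by
      have h1 : (R.pullback b) (l ≫ 𝟙 W) := by rw [Category.comp_id]; exact hl
      refine (hy l h1).trans ?_
      change x ((l ≫ 𝟙 W) ≫ b) _ = x (l ≫ b) _
      congr 1
    refine ⟨F.map a.op y, fun A l hl => ?_⟩
    have h1 : R (l ≫ a ≫ b) := by rw [Category.comp_id] at hl; exact hl
    refine (hyb.map a l h1).trans ?_
    congr 1
  have hu : ∀ ⦃T : X.Etale⦄ (k : T ⟶ U) (hk : R k), F.map k.op t = x k hk := fun T k hk => by
    have h1 : R (k ≫ 𝟙 U) := by rw [Category.comp_id]; exact hk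
    refine (ht k h1).trans ?_
    congr 1
  exact ⟨t, hu, fun t' ht' => hsep R hR x t' t ht' hu⟩

end Groth.Agent.EtaleSite.ZarAffine
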