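import Groth.Agent.EtaleSite.AdjExt

/-!
# `Ext` along an adjunction in low degrees
-/

universe w w' v v' u u'

open CategoryTheory CategoryTheory.Limits

namespace Groth.Agent.EtaleSite.AdjExt

variable {C : Type u} [Category.{v} C] [Abelian C] [EnoughInjectives C] [HasExt.{w} C]
  {D : Type u'} [Category.{v'} D] [Abelian D] [HasExt.{w'} D]
  {L : D ⥤ C} [L.Additive] [PreservesFiniteLimits L] [PreservesFiniteColimits L]
  {R : C ⥤ D} [R.Additive] [PreservesFiniteLimits R]
  (adj : L ⊣ R)

omit [EnoughInjectives C] [R.Additive] [PreservesFiniteLimits R] in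
theorem toExt_zero (A : D) (F : C) (n : ℕ) : toExt adj A F n 0 = 0 :=
  (AddMonoidHom.mk' (toExt adj A F n) fun a b => by
    simp [toExt, Abelian.Ext.mapExactFunctor_add, Abelian.Ext.add_comp]).map_zero

/-- In degree one `e ↦ L e ≫ counit` is injective. -/
theorem toExt_one_injective (A : D) (F : C) : Function.Injective (toExt adj A F 1) := by
  rw [show toExt adj A F 1 = AddMonoidHom.mk' (toExt adj A F 1) (fun a b => by
    simp [toExt, Abelian.Ext.mapExactFunctor_add, Abelian.Ext.add_comp]) from rfl,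
    injective_iff_map_eq_zero]
  intro e he
  let S : ShortComplex C := ShortComplex.mk (Injective.ι F) (cokernel.π _) (cokernel.condition _)
  have hS : S.ShortExact := { exact := ShortComplex.exact_cokernel _ }
  have hI : Injective S.X₂ := inferInstanceAs (Injective (Injective.under F))
  have hex : (S.map R).Exact := hS.exact.map_of_mono_of_preservesKernel R hS.mono_f inferInstance
  haveI := hS.mono_f
  haveI : Mono (R.map S.f) := R.map_mono S.f
  let T : ShortComplex D := ShortComplex.mk (R.map S.f) (cokernel.π _) (cokernel.condition _)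
  have hT : T.ShortExact := { exact := ShortComplex.exact_cokernel _, mono_f := inferInstanceAs (Mono (R.map S.f)) }
  haveI : Injective T.X₂ := Injective.injective_of_adjoint adj S.X₂
  let m : T.X₃ ⟶ R.obj S.X₃ := cokernel.desc (R.map S.f) (R.map S.g) (S.map R).zero
  haveI : Mono m := hex.mono_cokernelDesc
  obtain ⟨x, hx⟩ := Abelian.Ext.covariant_sequence_exact₁ A hT e
    (Abelian.Ext.eq_zero_of_injective _) (rfl : 0 + 1 = 1)
  obtain ⟨x, rfl⟩ := (Abelian.Ext.mk₀_bijective _ _).2 x
  let f : T.map L ⟶ S :=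
    { τ₁ := adj.counit.app S.X₁
      τ₂ := adj.counit.app S.X₂
      τ₃ := (adj.homEquiv _ _).symm m
      comm₁₂ := (adj.counit_naturality S.f).symm
      comm₂₃ := by
        show adj.counit.app S.X₂ ≫ S.g = L.map (cokernel.π (R.map S.f)) ≫ (adj.homEquiv _ _).symm m
        rw [← adj.homEquiv_naturality_left_symm, cokernel.π_desc, adj.homEquiv_counit]
        exact (adj.counit_naturality S.g).symm }
  have h := (hT.map_of_exact L).extClass_naturality hS f
  have h0 : (Abelian.Ext.mk₀ ((adj.homEquiv _ _).symm (x ≫ m))).comp hS.extClass (zero_add 1) = 0 := by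
    refine Eq.trans ?_ (he : toExt adj A F 1 e = 0)
    show _ = (e.mapExactFunctor L).comp (Abelian.Ext.mk₀ (adj.counit.app S.X₁)) (add_zero 1)
    rw [adj.homEquiv_naturality_left_symm, ← Abelian.Ext.mk₀_comp_mk₀_assoc, ← hx,
      Abelian.Ext.mapExactFunctor_comp, Abelian.Ext.mapExactFunctor_mk₀,
      Abelian.Ext.mapExactFunctor_extClass]
    refine Eq.trans ?_ (Abelian.Ext.comp_assoc_of_third_deg_zero _ _ _ _).symm
    exact congrArg (fun z => (Abelian.Ext.mk₀ (L.map x)).comp z (zero_add 1)) h.symm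
  obtain ⟨y, hy⟩ := Abelian.Ext.covariant_sequence_exact₃ (L.obj A) hS _ (rfl : 0 + 1 = 1) h0
  obtain ⟨y, rfl⟩ := (Abelian.Ext.mk₀_bijective _ _).2 y
  rw [Abelian.Ext.mk₀_comp_mk₀] at hy
  have h2 : x ≫ m = adj.homEquiv _ _ y ≫ R.map S.g := by
    rw [← adj.homEquiv_naturality_right, (Abelian.Ext.mk₀_bijective _ _).1 hy, Equiv.apply_symm_apply]
  have h3 : x = adj.homEquiv _ _ y ≫ T.g := by
    rw [← cancel_mono m, h2, Category.assoc]
    exact congrArg (adj.homEquiv _ _ y ≫ ·) (cokernel.π_desc _ _ _).symm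
  rw [← hx, h3, ← Abelian.Ext.mk₀_comp_mk₀_assoc, hT.comp_extClass, Abelian.Ext.comp_zero]

/-- In degree two `e ↦ L e ≫ counit` is injective when `R` keeps an injective resolution step exact. -/
theorem toExt_two_injective (A : D) (F : C) {S : ShortComplex C} (hS : S.ShortExact) (e₁ : S.X₁ = F)
    [Injective S.X₂] (he : Epi (R.map S.g)) : Function.Injective (toExt adj A F 2) := by
  subst e₁
  rw [show toExt adj A S.X₁ 2 = AddMonoidHom.mk' (toExt adj A S.X₁ 2) (fun a b => by
    simp [toExt, Abelian.Ext.mapExactFunctor_add, Abelian.Ext.add_comp]) from rfl,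
    injective_iff_map_eq_zero]
  intro e hz
  have hRS : (S.map R).ShortExact :=
    { exact := hS.exact.map_of_mono_of_preservesKernel R hS.mono_f inferInstance
      mono_f := (haveI := hS.mono_f; R.map_mono S.f)
      epi_g := he }
  haveI : Injective (S.map R).X₂ := Injective.injective_of_adjoint adj S.X₂
  obtain ⟨x, hx⟩ := Abelian.Ext.covariant_sequence_exact₁ A hRS e
    (Abelian.Ext.eq_zero_of_injective _) (rfl : 1 + 1 = 2)
  have h0 : (toExt adj A S.X₃ 1 x).comp hS.extClass rfl = 0 := by
    refine (toExt_comp_extClass adj hS hRS x).symm.trans ?_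
    exact (congrArg (toExt adj A S.X₁ 2) hx).trans hz
  obtain ⟨z, hz'⟩ := Abelian.Ext.covariant_sequence_exact₃ (L.obj A) hS _ rfl h0
  rw [Abelian.Ext.eq_zero_of_injective z, Abelian.Ext.zero_comp] at hz'
  have hx0 : x = 0 := toExt_one_injective adj A S.X₃ (hz'.symm.trans (toExt_zero adj A S.X₃ 1).symm)
  rw [← hx, hx0]
  simp
  rfl

end Groth.Agent.EtaleSite.AdjExt
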