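import Groth.Agent.AdeqAmitsur.Cech
import Groth.Agent.EtaleSite.Clopen
import Groth.Agent.EtaleSite.Covers
import Mathlib.CategoryTheory.Limits.Constructions.Over.Products
import Mathlib.CategoryTheory.Limits.Constructions.FiniteProductsOfBinaryProducts
import Mathlib.Algebra.Category.Grp.Adjunctions
import Mathlib.CategoryTheory.Abelian.FunctorCategory
import Mathlib.CategoryTheory.Abelian.Exact
import Mathlib.CategoryTheory.Preadditive.Injective.Basic

/-!
# The Amitsur complex of an injective sheaf on the small étale site of a scheme is exact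

The scheme form of `AlgSpEN.AmitsurInj`.
-/

set_option autoImplicit false
universe u

open CategoryTheory CategoryTheory.Limits AlgebraicGeometry Opposite

set_option backward.isDefEq.respectTransparency false
set_option backward.isDefEq.respectTransparency.types false

noncomputable section

namespace Groth.Agent.EtaleSite.Amitsur

open Groth.Agent.AdeqAmitsur

variable {X : Scheme.{u}}

instance hasFiniteProducts_over (E : X.Etale) : HasFiniteProducts (Over E) :=
  have : HasBinaryProducts (Over E) := Over.ConstructProducts.over_binaryProduct_of_pullback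
  hasFiniteProducts_of_has_binary_and_terminal

variable {E : X.Etale}

/-- A presheaf on the site, read on the objects over `E`. -/
abbrev secPre (E : X.Etale) (F : (X.Etale)ᵒᵖ ⥤ AddCommGrpCat.{u + 1}) :
    (Over E)ᵒᵖ ⥤ AddCommGrpCat.{u + 1} :=
  (Over.forget E).op ⋙ F

/-- The underlying map of schemes of an object over `E`. -/
abbrev str (W : Over E) : W.left.left ⟶ E.left := W.hom.left

/-- The covering sieve of a surjective object. -/
theorem cover_mem (U : Over E) (hU : Surjective (str U)) :
    Sieve.ofArrows (fun _ : PUnit.{u + 1} => U.left) (fun _ => U.hom) ∈ X.smallEtaleTopology E :=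
  EtaleSite.mem_topology_of_forall_exists _ fun x => by
    obtain ⟨y, hy⟩ := hU.surj x
    exact ⟨U.left, U.hom, y, Sieve.ofArrows_mk _ (fun _ : PUnit.{u + 1} => U.hom) ⟨⟩, hy⟩

/-- All Amitsur complexes of affine coverings of affine objects are exact. -/
def Cech (F : EtCoh.Ab X) : Prop :=
  ∀ (E : X.Etale) [IsAffine E.left] (U : Over E) [IsAffine U.left.left],
    Surjective (str U) → ∀ m, ExactD U (secPre E F.obj) m

/-- Products over `E` are fibre products of schemes. -/
theorem isPullback_prod (W U : Over E) :
    IsPullback (prod.fst : W ⨯ U ⟶ W).left.left (prod.snd : W ⨯ U ⟶ U).left.left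
      (str W) (str U) :=
  (Over.isPullback_of_binaryFan_isLimit _ (prodIsProd W U)).map (Scheme.Etale.forget X ⋙ Over.forget X)

theorem isAffine_prod [IsAffine E.left] (W U : Over E) [IsAffine W.left.left]
    [IsAffine U.left.left] : IsAffine (W ⨯ U).left.left :=
  IsAffine.of_isIso (isPullback_prod W U).isoPullback.hom

theorem isAffine_O [IsAffine E.left] (U : Over E) [IsAffine U.left.left] :
    ∀ m, IsAffine (O U m).left.left
  | 0 => by
    let t : IsTerminal (O U 0) := IsTerminal.ofUniqueHom
      (fun _ => Pi.lift fun i => i.elim0) (fun _ _ => Pi.hom_ext _ _ fun i => i.elim0)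
    let e := t.uniqueUpToIso (Over.mkIdTerminal (X := E))
    have : IsIso e.hom.left.left :=
      ((Over.forget _ ⋙ Scheme.Etale.forget X ⋙ Over.forget X).mapIso e).isIso_hom
    exact IsAffine.of_isIso (X := (O U 0).left.left) (Y := E.left) e.hom.left.left
  | m + 1 => by
    have := isAffine_O U m
    have := isAffine_prod (O U m) U
    let e : O U (m + 1) ≅ O U m ⨯ U :=
      { hom := prod.lift (face U m 0) (π U 0)
        inv := Pi.lift (Fin.cases prod.snd fun j => prod.fst ≫ π U j)
        hom_inv_id := by
          refine Pi.hom_ext _ _ fun j => ?_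
          induction j using Fin.cases with
          | zero => simp
          | succ k => simp [face]
        inv_hom_id := by
          refine Limits.prod.hom_ext ?_ ?_
          · refine Pi.hom_ext _ _ fun j => ?_
            simp [face]
          · simp }
    have : IsIso e.hom.left.left :=
      ((Over.forget _ ⋙ Scheme.Etale.forget X ⋙ Over.forget X).mapIso e).isIso_hom
    exact IsAffine.of_isIso e.hom.left.left

/-! ### Injective sheaves -/

/-- The free presheaf of maps into an object. -/
abbrev freePre (A : X.Etale) : (X.Etale)ᵒᵖ ⥤ AddCommGrpCat.{u + 1} :=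
  uliftYoneda.{u + 1}.obj A ⋙ AddCommGrpCat.free

/-- A generator. -/
abbrev gen {A W : X.Etale} (g : W ⟶ A) : (freePre A).obj (op W) := FreeAbelianGroup.of (ULift.up g)

/-- The morphism classifying a section. -/
def classify (F : (X.Etale)ᵒᵖ ⥤ AddCommGrpCat.{u + 1}) {A : X.Etale} (c : F.obj (op A)) : freePre A ⟶ F where
  app W := AddCommGrpCat.ofHom (FreeAbelianGroup.lift fun g => (F.map g.down.op).hom c)
  naturality W W' f := by
    refine AddCommGrpCat.hom_ext (FreeAbelianGroup.lift_ext _ _ fun g => ?_)
    change FreeAbelianGroup.lift (fun g => (F.map g.down.op).hom c)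
        (FreeAbelianGroup.map ((uliftYoneda.{u + 1}.obj A).map f) (FreeAbelianGroup.of g)) =
      (F.map f).hom (FreeAbelianGroup.lift (fun g => (F.map g.down.op).hom c) (FreeAbelianGroup.of g))
    rw [FreeAbelianGroup.map_of_apply, FreeAbelianGroup.lift_apply_of, FreeAbelianGroup.lift_apply_of]
    change (F.map (f.unop ≫ g.down).op).hom c = _
    rw [op_comp, Functor.map_comp]
    rfl

theorem classify_gen (F : (X.Etale)ᵒᵖ ⥤ AddCommGrpCat.{u + 1}) {A W : X.Etale} (c : F.obj (op A))
    (g : W ⟶ A) : ((classify F c).app (op W)).hom (gen g) = (F.map g.op).hom c :=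
  FreeAbelianGroup.lift_apply_of _ _

variable (U : Over E)

/-- The boundary on free presheaves. -/
def bd (m : ℕ) : freePre (O U (m + 1)).left ⟶ freePre (O U m).left :=
  ∑ i : Fin (m + 1), ((-1 : ℤ) ^ (i : ℕ)) •
    Functor.whiskerRight (uliftYoneda.{u + 1}.map (face U m i).left) AddCommGrpCat.free

theorem bd_gen (m : ℕ) {W : X.Etale} (g : W ⟶ (O U (m + 1)).left) :
    ((bd U m).app (op W)).hom (gen g) =
      ∑ i : Fin (m + 1), ((-1 : ℤ) ^ (i : ℕ)) • gen (g ≫ (face U m i).left) := by
  simp only [bd, NatTrans.app_sum, NatTrans.app_zsmul]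
  exact hom_sum_apply _ _ _

variable {U} (F : EtCoh.Ab X)

theorem comp_eq_zero_of_bd {m : ℕ} (c : (secPre E F.obj).obj (op (O U (m + 1))))
    (hc : D U (secPre E F.obj) (m + 1) c = 0) (hU : Surjective (str U)) {W : X.Etale}
    (x : (freePre (O U (m + 1)).left).obj (op W)) (hx : ((bd U m).app (op W)).hom x = 0) :
    ((classify F.obj c).app (op W)).hom x = 0 := by
  classical
  -- liftable objects
  let Lift : ∀ {Z : X.Etale}, (Z ⟶ E) → Prop := fun σ => ∃ v : _ ⟶ U.left, v ≫ U.hom = σ
  -- the extra coordinate
  let ψ : ∀ Z : X.Etale, (freePre (O U m).left).obj (op Z) →+ F.obj.obj (op Z) := fun Z =>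
    FreeAbelianGroup.lift fun g =>
      if h : Lift (g.down ≫ (O U m).hom) then
        (F.obj.map (Pi.lift (f := fun _ : Fin (m + 1) => U)
          (Fin.cases (Over.homMk (U := Over.mk (g.down ≫ (O U m).hom)) h.choose h.choose_spec)
            fun j => Over.homMk g.down rfl ≫ π U j)).left.op).hom c
      else 0
  -- on liftable generators the section factors through the boundary
  have key : ∀ (Z : X.Etale) (g : Z ⟶ (O U (m + 1)).left), Lift (g ≫ (O U (m + 1)).hom) →
      ((classify F.obj c).app (op Z)).hom (gen g) = ψ Z (((bd U m).app (op Z)).hom (gen g)) := by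
    intro Z g hg
    let σ := g ≫ (O U (m + 1)).hom
    let T : Over E := Over.mk σ
    let v : T ⟶ U := Over.homMk hg.choose hg.choose_spec
    let g' : T ⟶ O U (m + 1) := Over.homMk g rfl
    let k : T ⟶ O U (m + 2) := Pi.lift (Fin.cases v fun j => g' ≫ π U j)
    have h0 : k ≫ face U (m + 1) 0 = g' := by
      refine Pi.hom_ext _ _ fun j => ?_
      simp [k, face]
    have hcomp : ∀ i : Fin (m + 1), (g ≫ (face U m i).left) ≫ (O U m).hom = σ := fun i => by
      rw [Category.assoc, Over.w]
    have hs : ∀ i : Fin (m + 1), ψ Z (gen (g ≫ (face U m i).left)) =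
        (F.obj.map (k ≫ face U (m + 1) i.succ).left.op).hom c := fun i => by
      have hl : Lift ((g ≫ (face U m i).left) ≫ (O U m).hom) := by rw [hcomp]; exact hg
      refine (FreeAbelianGroup.lift_apply_of _ _).trans ((dif_pos hl).trans ?_)
      have aux : ∀ (τ : Z ⟶ E) (e : τ = σ) (h : ∃ v : _ ⟶ U.left, v ≫ U.hom = τ)
          (a : Over.mk τ ⟶ O U m) (_ : a.left = g ≫ (face U m i).left),
          (Pi.lift (f := fun _ : Fin (m + 1) => U)
            (Fin.cases (Over.homMk (U := Over.mk τ) h.choose h.choose_spec) fun j => a ≫ π U j)).left =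
              (k ≫ face U (m + 1) i.succ).left := by
        rintro τ rfl h a ha
        have ha' : a = g' ≫ face U m i := Over.OverMorphism.ext ha
        congr 1
        refine Pi.hom_ext _ _ fun j => ?_
        induction j using Fin.cases with
        | zero => simp [k, face, v]
        | succ j => simp [k, face, ha', Category.assoc]
      exact congrArg (fun q => (F.obj.map (Quiver.Hom.op q)).hom c)
        (aux _ (hcomp i) hl (Over.homMk (g ≫ (face U m i).left) rfl) rfl)
    have hD := congrArg (pm (secPre E F.obj) k) hc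
    rw [map_zero, D_apply, map_sum, Fin.sum_univ_succ] at hD
    simp only [map_zsmul, map_neg, ← pm_comp, h0, Fin.val_zero, pow_zero, one_zsmul, Fin.val_succ, pow_succ,
      mul_neg, mul_one, neg_smul, Finset.sum_neg_distrib, add_neg_eq_zero] at hD
    rw [classify_gen, bd_gen, map_sum]
    simp only [map_zsmul, hs]
    exact hD
  have key' : ∀ y : (freePre (O U (m + 1)).left).obj (op W), ∃ R ∈ X.smallEtaleTopology W, ∀ (Z : X.Etale) (f : Z ⟶ W), R f →
      ((classify F.obj c).app (op Z)).hom (((freePre (O U (m + 1)).left).map f.op).hom y) =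
        ψ Z (((bd U m).app (op Z)).hom (((freePre (O U (m + 1)).left).map f.op).hom y)) := by
    intro y
    induction y using FreeAbelianGroup.induction_on with
    | zero =>
      exact ⟨⊤, X.smallEtaleTopology.top_mem W, fun Z f _ => ((congrArg _ (map_zero _)).trans (map_zero _)).trans
        ((congrArg (ψ Z) ((congrArg _ (map_zero _)).trans (map_zero _))).trans (map_zero _)).symm⟩
    | of g =>
      refine ⟨Sieve.pullback (g.down ≫ (O U (m + 1)).hom) (Sieve.ofArrows (fun _ : PUnit.{u + 1} => U.left) fun _ => U.hom),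
        X.smallEtaleTopology.pullback_stable _ (cover_mem U hU), fun Z f hf => ?_⟩
      refine key Z (f ≫ g.down) ?_
      obtain ⟨-, v, hv⟩ := Sieve.mem_ofArrows_iff .. |>.1 hf
      exact ⟨v, by rw [← hv, Category.assoc]⟩
    | neg g h =>
      obtain ⟨R, hR, h'⟩ := h
      exact ⟨R, hR, fun Z f hf => by simp only [map_neg, h' Z f hf]⟩
    | add a b ha hb =>
      obtain ⟨R, hR, h⟩ := ha
      obtain ⟨R', hR', h'⟩ := hb
      exact ⟨R ⊓ R', X.smallEtaleTopology.intersection_covering hR hR', fun Z f hf => by
        simp only [map_add, h Z f hf.1, h' Z f hf.2]⟩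
  obtain ⟨R, hR, h⟩ := key' x
  refine F.property.isSeparated _ R hR _ _ fun Z f hf => ?_
  rw [map_zero]
  refine Eq.trans (NatTrans.naturality_apply (classify F.obj c) f.op x).symm ?_
  refine (h Z f hf).trans ((congrArg (ψ Z) ?_).trans (map_zero _))
  exact (NatTrans.naturality_apply (bd U m) f.op x).trans ((congrArg _ hx).trans (map_zero _))

/-- Injective sheaves have exact Amitsur complexes. -/
theorem cech_of_injective [HasSheafify X.smallEtaleTopology AddCommGrpCat.{u + 1}] (I : EtCoh.Ab X) [Injective I] : Cech I := by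
  intro E _ U _ hU m c hc
  have : Injective I.obj :=
    (sheafificationAdjunction X.smallEtaleTopology AddCommGrpCat.{u + 1}).map_injective I inferInstance
  let K : ShortComplex ((X.Etale)ᵒᵖ ⥤ AddCommGrpCat.{u + 1}) :=
    ShortComplex.mk (kernel.ι (bd U m)) (bd U m) (kernel.condition _)
  have hK : K.Exact := ShortComplex.exact_kernel _
  have hz : K.f ≫ classify I.obj c = 0 := by
    ext W y
    refine comp_eq_zero_of_bd I c hc hU _ ?_
    exact congr(($(NatTrans.congr_app (kernel.condition (bd U m)) W)).hom y)
  let b := hK.descToInjective (classify I.obj c) hz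
  refine ⟨(b.app (op (O U m).left)).hom (gen (𝟙 _)), ?_⟩
  have hb : bd U m ≫ b = classify I.obj c := hK.comp_descToInjective _ hz
  have h := congr(($(NatTrans.congr_app hb (op (O U (m + 1)).left))).hom (gen (𝟙 _)))
  refine Eq.trans ?_ (h.trans ((classify_gen I.obj c (𝟙 _)).trans (pm_id (secPre E I.obj) c)))
  rw [D_apply, NatTrans.comp_app, AddCommGrpCat.hom_comp, AddMonoidHom.comp_apply, bd_gen, map_sum]
  simp only [map_zsmul]
  refine Finset.sum_congr rfl fun i _ => congrArg _ ?_
  exact (NatTrans.naturality_apply b (face U m i).left.op (gen (𝟙 _))).symm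

end Groth.Agent.EtaleSite.Amitsur
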