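import Groth.Agent.EtaleSite.CechPre
import Groth.Agent.HyperLib.DerivedHom

/-!
# Čech cohomology of presheaves as a delta functor
-/

set_option autoImplicit false

universe w v u

open CategoryTheory CategoryTheory.Limits Opposite

noncomputable section

namespace Groth.Agent.EtaleSite.CechPre

variable {C : Type u} [Category.{v} C] {U : C} [HasFiniteProducts (Over U)] {ι : Type w}
  (Uf : ι → Over U)

/-- The Čech complex as a functor of the presheaf. -/
abbrev cx : (Cᵒᵖ ⥤ AddCommGrpCat.{w}) ⥤ CochainComplex AddCommGrpCat.{w} ℕ :=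
  (Functor.whiskeringLeft (Over U)ᵒᵖ Cᵒᵖ AddCommGrpCat.{w}).obj (Over.forget U).op ⋙
    cechComplexFunctor Uf

lemma comp_map {P Q : Cᵒᵖ ⥤ AddCommGrpCat.{w}} (φ : P ⟶ Q) {n : ℕ} (a : Fin (n + 1) → ι)
    (c : (EtCech.cechComplex Uf P).X n) :
    comp Uf Q a (((cx Uf).map φ).f n c) = φ.app (op (obj Uf a)) (comp Uf P a c) := by
  rw [← ConcreteCategory.comp_apply, ← ConcreteCategory.comp_apply]
  refine ConcreteCategory.congr_hom ?_ c
  exact Limits.Pi.map_π
    (fun b : Fin (n + 1) → ι => φ.app (op (∏ᶜ (Uf ∘ b)).left)) a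

instance additive_cx : (cx Uf).Additive where
  map_add {P Q φ ψ} := by
    ext n : 1
    ext c
    refine comp_ext Uf Q fun a => ?_
    rw [comp_map, HomologicalComplex.add_f_apply, AddCommGrpCat.hom_add_apply]
    simp only [map_add]
    exact (congrArg₂ (· + ·) (comp_map Uf φ a c) (comp_map Uf ψ a c)).symm

theorem shortExact_cx {S : ShortComplex (Cᵒᵖ ⥤ AddCommGrpCat.{w})} (hS : S.ShortExact) :
    (S.map (cx Uf)).ShortExact := by
  have hev : ∀ V : Cᵒᵖ, (S.map ((evaluation Cᵒᵖ AddCommGrpCat.{w}).obj V)).ShortExact := fun V =>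
    hS.map_of_exact _
  refine HomologicalComplex.shortExact_of_degreewise_shortExact _ fun n => ?_
  refine { exact := ?_, mono_f := ?_, epi_g := ?_ }
  · rw [ShortComplex.ab_exact_iff]
    intro (c : (EtCech.cechComplex Uf S.X₂).X n) hc
    have h : ∀ a : Fin (n + 1) → ι, ∃ y : S.X₁.obj (op (obj Uf a)),
        S.f.app (op (obj Uf a)) y = comp Uf S.X₂ a c := fun a =>
      (ShortComplex.ab_exact_iff _).1 (hev (op (obj Uf a))).exact (comp Uf S.X₂ a c)
        ((comp_map Uf S.g a c).symm.trans ((congrArg (comp Uf S.X₃ a) hc).trans (map_zero _)))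
    choose y hy using h
    refine ⟨mk Uf S.X₁ y, comp_ext Uf S.X₂ fun a => ?_⟩
    exact (comp_map Uf S.f a _).trans ((congrArg _ (comp_mk Uf S.X₁ y a)).trans (hy a))
  · refine (AddCommGrpCat.mono_iff_injective _).2 fun c c' h => ?_
    refine comp_ext Uf S.X₁ fun a => ?_
    exact (AddCommGrpCat.mono_iff_injective _).1 (hev (op (obj Uf a))).mono_f
      ((comp_map Uf S.f a c).symm.trans ((congrArg (comp Uf S.X₂ a) h).trans (comp_map Uf S.f a c')))
  · refine (AddCommGrpCat.epi_iff_surjective _).2 fun (c : (EtCech.cechComplex Uf S.X₃).X n) => ?_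
    have h : ∀ a : Fin (n + 1) → ι, ∃ y : S.X₂.obj (op (obj Uf a)),
        S.g.app (op (obj Uf a)) y = comp Uf S.X₃ a c := fun a =>
      (AddCommGrpCat.epi_iff_surjective _).1 (hev (op (obj Uf a))).epi_g _
    choose y hy using h
    refine ⟨mk Uf S.X₂ y, comp_ext Uf S.X₃ fun a => ?_⟩
    exact (comp_map Uf S.g a _).trans ((congrArg _ (comp_mk Uf S.X₂ y a)).trans (hy a))

instance preservesFiniteLimits_cx : PreservesFiniteLimits (cx Uf) := by
  rw [Functor.preservesFiniteLimits_iff_forall_exact_map_and_mono]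
  exact fun S hS => ⟨(shortExact_cx Uf hS).exact, (shortExact_cx Uf hS).mono_f⟩

/-- Čech cohomology as a delta functor. -/
def cechDelta : DeltaF.CohDeltaFunctor (Cᵒᵖ ⥤ AddCommGrpCat.{w}) AddCommGrpCat.{w} ℕ where
  F n := cx Uf ⋙ HomologicalComplex.homologyFunctor _ _ n
  additive n := inferInstance
  δ S hS n₀ n₁ h := (shortExact_cx Uf hS).δ n₀ n₁ h
  δ_natural {S S'} hS hS' φ n₀ n₁ h :=
    (HomologicalComplex.HomologySequence.δ_naturality ((cx Uf).mapShortComplex.map φ)
      (shortExact_cx Uf hS) (shortExact_cx Uf hS') n₀ n₁ h).symm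
  exact₂ S hS n := (shortExact_cx Uf hS).homology_exact₂ n
  comp_δ S hS n₀ n₁ h := (shortExact_cx Uf hS).comp_δ n₀ n₁ h
  exact₃ S hS n₀ n₁ h := (shortExact_cx Uf hS).homology_exact₃ n₀ n₁ h
  δ_comp S hS n₀ n₁ h := (shortExact_cx Uf hS).δ_comp n₀ n₁ h
  exact₁ S hS n₀ n₁ h := (shortExact_cx Uf hS).homology_exact₁ n₀ n₁ h

/-- Čech cohomology is the derived functor of `Ȟ⁰`. -/
theorem nonempty_cechH_iso_rightDerived [LocallySmall.{w} C]
    [HasInjectiveResolutions (Cᵒᵖ ⥤ AddCommGrpCat.{w})]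
    [(EtCech.cechHFunctor Uf 0).Additive] (p : ℕ) :
    Nonempty (EtCech.cechHFunctor Uf p ≅ (EtCech.cechHFunctor Uf 0).rightDerived p) := by
  have : PreservesFiniteLimits (EtCech.cechHFunctor Uf 0) :=
    have : PreservesFiniteLimits (HomologicalComplex.homologyFunctor AddCommGrpCat.{w} (ComplexShape.up ℕ) 0) :=
      HyperLib.DerivedHom.preservesFiniteLimits_homology₀
    inferInstanceAs (PreservesFiniteLimits (cx Uf ⋙ HomologicalComplex.homologyFunctor _ _ 0))
  obtain ⟨e⟩ := HyperLib.DerivedHom.nonempty_rightDerived_iso (EtCech.cechHFunctor Uf 0) (cechDelta Uf)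
    (fun n P => by
      obtain ⟨R⟩ := (HasInjectiveResolutions.out P).out
      exact ⟨R.cocomplex.X 0, R.ι.f 0, mono_of_isLimit_fork R.isLimitKernelFork,
        (isZero_cechH_injective Uf (R.cocomplex.X 0) n).eq_of_tgt _ _⟩)
    (Iso.refl _) p
  exact ⟨e.symm⟩

end Groth.Agent.EtaleSite.CechPre
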