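import Groth.Agent.EtaleSite.CechPre
import Groth.Agent.EtaleSite.Covers
import Mathlib.AlgebraicGeometry.Limits

/-!
# The Čech complex of a finite family and of its disjoint union
-/

set_option autoImplicit false

universe u

open CategoryTheory CategoryTheory.Limits AlgebraicGeometry Opposite

noncomputable section

namespace Groth.Agent.EtaleSite.CechDisjoint

open CechPre

variable {X : Scheme.{u}} (F : EtCoh.Ab X) (U : X.Etale) [HasFiniteProducts (Over U)]
  {ι : Type (u + 1)} [Finite ι] (Uf : ι → Over U) (V : Over U) (incl : ∀ i, Uf i ⟶ V)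

/-- The one-member family. -/
abbrev Vf : PUnit.{u + 2} → Over U := fun _ => V

/-- The inclusion of the iterated fibre products. -/
def inclProd {n : ℕ} (a : Fin (n + 1) → ι) (a' : Fin (n + 1) → PUnit.{u + 2}) :
    obj Uf a ⟶ obj (Vf U V) a' :=
  (Pi.lift (f := Vf U V ∘ a') fun k => Pi.π (Uf ∘ a) k ≫ incl (a k)).left

lemma inclProd_π {n : ℕ} (a : Fin (n + 1) → ι) (a' : Fin (n + 1) → PUnit.{u + 2}) (k : Fin (n + 1)) :
    inclProd U Uf V incl a a' ≫ π (Vf U V) a' k = π Uf a k ≫ (incl (a k)).left := by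
  rw [inclProd, π, π, ← Over.comp_left, Pi.lift_π]
  rfl

lemma inclProd_face {n : ℕ} (a : Fin (n + 2) → ι) (a' : Fin (n + 2) → PUnit.{u + 2})
    (k : Fin (n + 2)) :
    face Uf a k ≫ inclProd U Uf V incl (a ∘ k.succAbove) (a' ∘ k.succAbove) =
      inclProd U Uf V incl a a' ≫ face (Vf U V) a' k :=
  CechPre.hom_ext (Vf U V) fun j => by
    rw [Category.assoc, Category.assoc, inclProd_π, face_π, inclProd_π,
      ← Category.assoc, face_π]
    rfl

/-- The restriction of cochains. -/
def resX (P : X.Etaleᵒᵖ ⥤ AddCommGrpCat.{u + 1}) (n : ℕ) :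
    (EtCech.cechComplex (Vf U V) P).X n ⟶ (EtCech.cechComplex Uf P).X n :=
  Pi.lift fun a : Fin (n + 1) → ι =>
    comp (Vf U V) P (fun _ => PUnit.unit) ≫ P.map (inclProd U Uf V incl a fun _ => PUnit.unit).op

lemma comp_resX (P : X.Etaleᵒᵖ ⥤ AddCommGrpCat.{u + 1}) {n : ℕ} (a : Fin (n + 1) → ι)
    (c : (EtCech.cechComplex (Vf U V) P).X n) :
    comp Uf P a (resX U Uf V incl P n c) =
      P.map (inclProd U Uf V incl a fun _ => PUnit.unit).op
        (comp (Vf U V) P (fun _ => PUnit.unit) c) :=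
  ConcreteCategory.congr_hom (Pi.lift_π (fun a : Fin (n + 1) → ι =>
    comp (Vf U V) P (fun _ => PUnit.unit) ≫
      P.map (inclProd U Uf V incl a fun _ => PUnit.unit).op) a) c

variable (hV : IsColimit (Cofan.mk V.left.left fun i => (incl i).left.left))

include hV in
lemma facts :
    (∀ i, IsOpenImmersion (incl i).left.left) ∧
      (∀ v : V.left.left, ∃ (i : ι) (y : (Uf i).left.left), (incl i).left.left y = v) ∧
      ∀ (i j : ι) (y : (Uf i).left.left) (z : (Uf j).left.left),
        (incl i).left.left y = (incl j).left.left z → i = j := by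
  obtain ⟨m, ⟨e⟩⟩ := Finite.exists_equiv_fin ι
  have : Small.{u} ι := small_map e
  let g : ι → Scheme.{u} := fun i => (Uf i).left.left
  let θ : (∐ g) ≅ V.left.left := (colimit.isColimit (Discrete.functor g)).coconePointUniqueUpToIso hV
  have hθ : ∀ i, Sigma.ι g i ≫ θ.hom = (incl i).left.left := fun i =>
    (colimit.isColimit (Discrete.functor g)).comp_coconePointUniqueUpToIso_hom hV ⟨i⟩
  refine ⟨fun i => ?_, fun v => ?_, fun i j y z h => ?_⟩
  · rw [← hθ i]; infer_instance
  · obtain ⟨i, y, hy'⟩ := (sigmaOpenCover g).exists_eq (θ.inv v)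
    refine ⟨i, y, ?_⟩
    change Sigma.ι g i y = θ.inv v at hy'
    rw [← hθ i, Scheme.Hom.comp_apply, hy', ← Scheme.Hom.comp_apply, θ.inv_hom_id]
    rfl
  · have h' : Sigma.ι g i y = Sigma.ι g j z := by
      rw [← hθ i, ← hθ j, Scheme.Hom.comp_apply, Scheme.Hom.comp_apply] at h
      exact θ.hom.homeomorph.injective h
    exact congrArg Sigma.fst ((sigmaι_eq_iff g i j y z).1 h')

include hV in
lemma exists_preimage {n : ℕ} (w : (obj (Vf U V) (fun _ : Fin (n + 1) => PUnit.unit)).left) :
    ∃ (a : Fin (n + 1) → ι) (y : (obj Uf a).left),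
      (inclProd U Uf V incl a fun _ => PUnit.unit).left y = w := by
  obtain ⟨hoi, hsurj, -⟩ := facts U Uf V incl hV
  let W := obj (Vf U V) (fun _ : Fin (n + 1) => PUnit.unit)
  choose a y hy using fun k => hsurj ((π (Vf U V) (fun _ => PUnit.unit) k).left w)
  let O : W.left.Opens := ⨅ k,
    (π (Vf U V) (fun _ => PUnit.unit) k).left ⁻¹ᵁ (incl (a k)).left.left.opensRange
  have hwO : w ∈ O := by
    rw [← SetLike.mem_coe, TopologicalSpace.Opens.coe_iInf]
    exact Set.mem_iInter.2 fun k => ⟨y k, hy k⟩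
  have : Etale W.hom := W.prop
  let O' : X.Etale := MorphismProperty.Over.mk ⊤ (O.ι ≫ W.hom)
    (show Etale (O.ι ≫ W.hom) from inferInstance)
  let o : O' ⟶ W := MorphismProperty.Over.homMk O.ι rfl
  have hr : ∀ k, Set.range ((o ≫ π (Vf U V) (fun _ => PUnit.unit) k).left.base) ⊆
      Set.range (incl (a k)).left.left.base := by
    rintro k _ ⟨t, rfl⟩
    have ht : O.ι t ∈ O := Subtype.property t
    rw [← SetLike.mem_coe, TopologicalSpace.Opens.coe_iInf] at ht
    exact Set.mem_iInter.1 ht k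
  have hl : ∀ k, ∃ l : O' ⟶ (Uf (a k)).left,
      l ≫ (incl (a k)).left = o ≫ π (Vf U V) (fun _ => PUnit.unit) k := fun k => by
    let l₀ := @IsOpenImmersion.lift _ _ _ (incl (a k)).left.left
      (o ≫ π (Vf U V) (fun _ => PUnit.unit) k).left (hoi _) (hr k)
    have hl₀ : l₀ ≫ (incl (a k)).left.left = (o ≫ π (Vf U V) (fun _ => PUnit.unit) k).left :=
      @IsOpenImmersion.lift_fac _ _ _ _ _ (hoi _) (hr k)
    exact ⟨MorphismProperty.Over.homMk l₀
      ((congrArg (l₀ ≫ ·) (MorphismProperty.Over.w (incl (a k)).left)).symm.trans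
        ((Category.assoc _ _ _).symm.trans ((congrArg (· ≫ V.left.hom) hl₀).trans
          (MorphismProperty.Over.w (o ≫ π (Vf U V) (fun _ => PUnit.unit) k))))),
      MorphismProperty.Over.Hom.ext hl₀⟩
  choose l hl using hl
  have hb : ∀ k, l k ≫ (Uf (a k)).hom = o ≫ (∏ᶜ (Vf U V ∘ fun _ : Fin (n + 1) => PUnit.unit)).hom :=
    fun k => by
      rw [← Over.w (incl (a k)), ← Category.assoc, hl, Category.assoc, π_hom]
  let L : Over.mk (o ≫ (∏ᶜ (Vf U V ∘ fun _ : Fin (n + 1) => PUnit.unit)).hom) ⟶ ∏ᶜ (Uf ∘ a) :=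
    Pi.lift fun k => Over.homMk (l k) (hb k)
  have hL : L.left ≫ inclProd U Uf V incl a (fun _ => PUnit.unit) = o :=
    CechPre.hom_ext (Vf U V) fun k => by
      rw [Category.assoc, inclProd_π, ← Category.assoc, ← hl k]
      congr 1
      rw [π, ← Over.comp_left, Pi.lift_π]
      rfl
  refine ⟨a, L.left.left ⟨w, hwO⟩, ?_⟩
  exact (Scheme.Hom.comp_apply _ _ _).symm.trans
    ((congrArg (fun (q : O' ⟶ W) => q.left ⟨w, hwO⟩) hL).trans rfl)

include hV in
lemma mono_inclProd {n : ℕ} (a : Fin (n + 1) → ι) (a' : Fin (n + 1) → PUnit.{u + 2}) :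
    Mono (inclProd U Uf V incl a a') := by
  obtain ⟨hoi, -, -⟩ := facts U Uf V incl hV
  refine ⟨fun {T} q₁ q₂ h => CechPre.hom_ext Uf fun k => MorphismProperty.Over.Hom.ext ?_⟩
  have := hoi (a k)
  refine (cancel_mono (incl (a k)).left.left).1 ?_
  have e : (q₁ ≫ π Uf a k) ≫ (incl (a k)).left = (q₂ ≫ π Uf a k) ≫ (incl (a k)).left := by
    rw [Category.assoc, Category.assoc, ← inclProd_π U Uf V incl a a' k, ← Category.assoc,
      ← Category.assoc, h]
  exact congrArg (fun q => q.left) e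

include hV in
theorem resX_bijective (n : ℕ) : Function.Bijective (resX U Uf V incl F.obj n) := by
  obtain ⟨-, -, hdisj⟩ := facts U Uf V incl hV
  let A : (Fin (n + 1) → ι) → X.Etale := fun a => obj Uf a
  let W := obj (Vf U V) (fun _ : Fin (n + 1) => PUnit.unit)
  let m : ∀ a, A a ⟶ W := fun a => inclProd U Uf V incl a (fun _ => PUnit.unit)
  have hcov : Sieve.ofArrows A m ∈ X.smallEtaleTopology W := by
    refine mem_topology_of_forall_exists _ fun w => ?_
    obtain ⟨a, y, hy⟩ := exists_preimage U Uf V incl hV w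
    exact ⟨_, m a, y, Sieve.ofArrows_mk _ _ a, hy⟩
  have hsh := ((isSheaf_iff_isSheaf_of_type _ _).1 ((Presheaf.isSheaf_iff_isSheaf_forget _ _
    (forget AddCommGrpCat.{u + 1})).1 F.property)).isSheafFor (Presieve.ofArrows A m) hcov
  have hempty : ∀ (T : X.Etale) (x y : F.obj.obj (op T)), IsEmpty T.left → x = y :=
    fun T x y hT => sect_ext x y fun Ω _ _ ξ t =>
      (hT.false (t.left (default : Spec (CommRingCat.of Ω)))).elim
  have hcompat : ∀ f : ∀ a, F.obj.obj (op (A a)),
      Presieve.Arrows.Compatible (F.obj ⋙ forget AddCommGrpCat.{u + 1}) m f := fun f => by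
    intro a b T q₁ q₂ h
    change F.obj.map q₁.op (f a) = F.obj.map q₂.op (f b)
    by_cases hab : a = b
    · subst hab
      have := mono_inclProd U Uf V incl hV a (fun _ => PUnit.unit)
      rw [(cancel_mono (m a)).1 h]
    · refine hempty T _ _ ⟨fun t => hab (funext fun k => ?_)⟩
      have e := congrArg (fun q => (q ≫ π (Vf U V) (fun _ => PUnit.unit) k).left t) h
      simp only [m, Category.assoc, inclProd_π] at e
      exact hdisj (a k) (b k) ((q₁ ≫ π Uf a k).left t) ((q₂ ≫ π Uf b k).left t) e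
  have hc : ∀ c : (EtCech.cechComplex (Vf U V) F.obj).X n, ∀ b : Fin (n + 1) → PUnit.{u + 2},
      b = fun _ => PUnit.unit := fun _ b => rfl
  constructor
  · intro c c' h
    refine comp_ext (Vf U V) F.obj fun b => ?_
    obtain rfl := hc c b
    refine hsh.isSeparatedFor.ext fun T q hq => ?_
    cases hq with
    | mk a =>
      exact (comp_resX U Uf V incl F.obj a c).symm.trans
        ((congrArg (comp Uf F.obj a) h).trans (comp_resX U Uf V incl F.obj a c'))
  · intro d
    obtain ⟨t, ht, -⟩ := (Presieve.isSheafFor_arrows_iff _ _).1 hsh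
      (fun a => comp Uf F.obj a d) (hcompat _)
    refine ⟨mk (Vf U V) F.obj fun b => t, comp_ext Uf F.obj fun a => ?_⟩
    rw [comp_resX, comp_mk]
    exact ht a

include hV in
theorem nonempty_iso :
    Nonempty (EtCech.cechComplex Uf F.obj ≅ EtCech.cechComplex (Vf U V) F.obj) := by
  have : ∀ n, IsIso (resX U Uf V incl F.obj n) := fun n =>
    (ConcreteCategory.isIso_iff_bijective _).2 (resX_bijective F U Uf V incl hV n)
  refine ⟨(HomologicalComplex.Hom.isoOfComponents (fun n => asIso (resX U Uf V incl F.obj n))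
    ?_).symm⟩
  rintro n _ rfl
  ext c
  refine comp_ext Uf F.obj fun a => ?_
  simp only [asIso_hom, ConcreteCategory.comp_apply, comp_resX, comp_d_apply, map_sum, map_zsmul]
  refine Finset.sum_congr rfl fun k _ => ?_
  congr 1
  refine ((ConcreteCategory.congr_hom (F.obj.map_comp
    (inclProd U Uf V incl (a ∘ k.succAbove) fun _ => PUnit.unit).op (face Uf a k).op) _).symm.trans
    ?_).trans (ConcreteCategory.congr_hom (F.obj.map_comp
      (face (Vf U V) (fun _ => PUnit.unit) k).op (inclProd U Uf V incl a fun _ => PUnit.unit).op) _)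
  exact congrArg (fun (q : obj Uf a ⟶ obj (Vf U V) (fun _ : Fin (n + 1) => PUnit.unit)) =>
    F.obj.map q.op (comp (Vf U V) F.obj (fun _ => PUnit.unit) c))
    (inclProd_face U Uf V incl a (fun _ => PUnit.unit) k)

end Groth.Agent.EtaleSite.CechDisjoint
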