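import Groth.Agent.EtaleSite.HpullFunctor
import Groth.Agent.SpSeqLib.SplitSS
import Mathlib.AlgebraicTopology.CechNerve

/-!
# Cohomology of the Čech nerve of a morphism with a section
-/

set_option linter.style.haveILetI false

universe u

open CategoryTheory CategoryTheory.Limits AlgebraicGeometry Opposite Simplicial

namespace Groth.Agent.EtaleSite.CechSection

section Over

variable {C : Type*} [Category C] (X : SimplicialObject.Augmented C)

/-- An augmented simplicial object as one over the object at the augmentation. -/
def overAug : SimplicialObject.Augmented (Over X.right) where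
  left :=
    { obj := fun n => Over.mk (X.hom.app n)
      map := fun g => Over.homMk (X.left.map g)
        ((X.hom.naturality g).trans (Category.comp_id _))
      map_id := fun n => Over.OverMorphism.ext (X.left.map_id n)
      map_comp := fun g g' => Over.OverMorphism.ext (X.left.map_comp g g') }
  right := Over.mk (𝟙 X.right)
  hom :=
    { app := fun n => Over.homMk (X.hom.app n) (Category.comp_id _)
      naturality := fun n m g => Over.OverMorphism.ext (X.hom.naturality g) }

/-- An extra degeneracy lifts to the category over the object at the augmentation. -/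
def overExtraDegeneracy {X : SimplicialObject.Augmented C}
    (ed : SimplicialObject.Augmented.ExtraDegeneracy X) :
    SimplicialObject.Augmented.ExtraDegeneracy (overAug X) where
  s' := Over.homMk ed.s' ed.s'_comp_ε
  s n := Over.homMk (ed.s n) (by
    have h := (X.hom.naturality (SimplexCategory.δ (0 : Fin (n + 2))).op).trans (Category.comp_id _)
    show ed.s n ≫ X.hom.app (op ⦋n + 1⦌) = X.hom.app (op ⦋n⦌)
    refine (congrArg (ed.s n ≫ ·) h.symm).trans ((Category.assoc _ _ _).symm.trans ?_)
    exact (congrArg (· ≫ X.hom.app (op ⦋n⦌)) (ed.s_comp_δ₀ n)).trans (Category.id_comp _))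
  s'_comp_ε := Over.OverMorphism.ext ed.s'_comp_ε
  s₀_comp_δ₁ := Over.OverMorphism.ext ed.s₀_comp_δ₁
  s_comp_δ₀ n := Over.OverMorphism.ext (ed.s_comp_δ₀ n)
  s_comp_δ n i := Over.OverMorphism.ext (ed.s_comp_δ n i)
  s_comp_σ n i := Over.OverMorphism.ext (ed.s_comp_σ n i)

end Over

variable {X Y : Scheme.{u}} (f : X ⟶ Y) (F : EtCoh.Ab Y)

/-- The rows: cohomology in degree `q` of the Čech nerve, in the opposite category. -/
noncomputable def rowAug (q : ℕ) : SimplicialObject.Augmented AddCommGrpCat.{u + 1}ᵒᵖ :=
  ((SimplicialObject.Augmented.whiskering _ _).obj (HpullFunctor.Hfun Y F q).rightOp).obj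
    (overAug (Arrow.mk f).augmentedCechNerve)

/-- The extra degeneracy of the rows given by a section. -/
noncomputable def rowExtraDegeneracy (s : Y ⟶ X) (hs : s ≫ f = 𝟙 Y) (q : ℕ) :
    SimplicialObject.Augmented.ExtraDegeneracy (rowAug f F q) :=
  (overExtraDegeneracy (Arrow.AugmentedCechNerve.extraDegeneracy (Arrow.mk f) ⟨s, hs⟩)).map _

theorem isZero_punit : IsZero (AddCommGrpCat.of PUnit.{u + 2}) :=
  AddCommGrpCat.isZero_of_subsingleton _

end Groth.Agent.EtaleSite.CechSection
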