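import Groth.Agent.EtaleSite.Stalk
import Groth.Prelude.Def_EtBaseX
import Mathlib.RingTheory.Etale.StandardEtale
import Mathlib.RingTheory.Henselian
import Mathlib.AlgebraicGeometry.Morphisms.Etale

/-!
# The étale local ring of a geometric point is strictly henselian
-/

set_option autoImplicit false

universe u

open CategoryTheory CategoryTheory.Limits AlgebraicGeometry Opposite Polynomial

noncomputable section

namespace Groth.Agent.EtaleSite.EtaleLocalRing

variable {X : Scheme.{u}} {Ω : Type u} [Field Ω] [IsSepClosed Ω]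
  (ξ : Spec (CommRingCat.of Ω) ⟶ X)

/-- Evaluation at an `Ω`-point. -/
def evalPt {U : Scheme.{u}} (x : Spec (CommRingCat.of Ω) ⟶ U) : Γ(U, ⊤) ⟶ CommRingCat.of Ω :=
  x.appTop ≫ (Scheme.ΓSpecIso (CommRingCat.of Ω)).hom

lemma evalPt_comp {U V : Scheme.{u}} (x : Spec (CommRingCat.of Ω) ⟶ V) (g : V ⟶ U) :
    evalPt (x ≫ g) = g.appTop ≫ evalPt x := by
  simp [evalPt]

lemma evalPt_SpecMap {R : CommRingCat.{u}} (φ : R ⟶ CommRingCat.of Ω) :
    evalPt (Spec.map φ) = (Scheme.ΓSpecIso R).hom ≫ φ :=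
  Scheme.ΓSpecIso_naturality φ

lemma comp_toSpecΓ {U : Scheme.{u}} (x : Spec (CommRingCat.of Ω) ⟶ U) :
    x ≫ U.toSpecΓ = Spec.map (evalPt x) := by
  rw [Scheme.toSpecΓ_naturality, evalPt, Spec.map_comp, ← SpecMap_ΓSpecIso_hom]

/-- An element not vanishing at a point is a unit near it. -/
lemma exists_isUnit {U : Scheme.{u}} (x : Spec (CommRingCat.of Ω) ⟶ U) (s : Γ(U, ⊤))
    (hs : evalPt x s ≠ 0) : x default ∈ U.basicOpen s := by
  have h : (default : Spec (CommRingCat.of Ω)) ∈ x ⁻¹ᵁ U.basicOpen s := by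
    change _ ∈ x ⁻¹ᵁ U.basicOpen s
    rw [Scheme.preimage_basicOpen]
    change _ ∈ (Spec (CommRingCat.of Ω)).basicOpen (x.appTop s)
    have hu : IsUnit (x.appTop s) := by
      have h' : IsUnit (evalPt x s) := (Ne.isUnit hs)
      simpa [evalPt] using h'.map (Scheme.ΓSpecIso (CommRingCat.of Ω)).inv.hom
    rw [(Spec (CommRingCat.of Ω)).basicOpen_of_isUnit hu]
    trivial
  exact h

local notation "pt" => Scheme.pointSmallEtale ξ

/-- The point of an étale neighbourhood. -/
abbrev ptOf {U : X.Etale} (x : (pt).fiber.obj U) : Spec (CommRingCat.of Ω) ⟶ U.left :=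
  (show Over.mk ξ ⟶ (Scheme.Etale.forget X).obj U from x).left

/-- The germ. -/
abbrev germ (U : X.Etale) (x : (pt).fiber.obj U) : Γ(U.left, ⊤) ⟶ EtBase.etaleLocalRing ξ :=
  (pt).toPresheafFiber U x (EtBase.OO X)

lemma germ_res {U V : X.Etale} (g : V ⟶ U) (y : (pt).fiber.obj V) :
    g.left.appTop ≫ germ ξ V y = germ ξ U ((pt).fiber.map g y) :=
  (pt).toPresheafFiber_w g y (EtBase.OO X)

/-- Evaluation on the étale local ring. -/
def ev : EtBase.etaleLocalRing ξ ⟶ CommRingCat.of Ω :=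
  (pt).presheafFiberDesc (P := EtBase.OO X) (fun U x => evalPt (ptOf ξ x)) (fun V U g y => by
    exact (evalPt_comp (ptOf ξ y) g.left).symm)

lemma germ_ev (U : X.Etale) (x : (pt).fiber.obj U) : germ ξ U x ≫ ev ξ = evalPt (ptOf ξ x) :=
  (pt).toPresheafFiber_presheafFiberDesc _ _ U x

lemma isUnit_of_ev_ne_zero (r : EtBase.etaleLocalRing ξ) (hr : ev ξ r ≠ 0) : IsUnit r := by
  obtain ⟨U, x, s, rfl⟩ := (pt).toPresheafFiber_jointly_surjective (P := EtBase.OO X) r
  have hs : evalPt (ptOf ξ x) s ≠ 0 := by rw [← germ_ev]; exact hr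
  let W : U.left.Opens := U.left.basicOpen s
  have hxW := exists_isUnit (ptOf ξ x) s hs
  have : Etale U.hom := U.prop
  let V : X.Etale := MorphismProperty.Over.mk ⊤ (W.ι ≫ U.hom) (inferInstance : Etale (W.ι ≫ U.hom))
  let g : V ⟶ U := MorphismProperty.Over.homMk W.ι rfl
  haveI : IsOpenImmersion (Scheme.Opens.ι W) := inferInstanceAs (IsOpenImmersion (Scheme.Opens.ι (U.left.basicOpen s)))
  have hr' : Set.range (ptOf ξ x).base ⊆ Set.range W.ι.base := by
    rintro _ ⟨y, rfl⟩
    rw [Subsingleton.elim y default, Scheme.Opens.range_ι]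
    exact hxW
  let l₀ : Spec (CommRingCat.of Ω) ⟶ (W : Scheme) := IsOpenImmersion.lift W.ι (ptOf ξ x) hr'
  have hl₀ : l₀ ≫ W.ι = ptOf ξ x := IsOpenImmersion.lift_fac W.ι (ptOf ξ x) hr'
  let y : (pt).fiber.obj V := (Over.homMk l₀ (by
    change l₀ ≫ W.ι ≫ U.hom = ξ
    rw [← Category.assoc, hl₀]
    exact Over.w (show Over.mk ξ ⟶ (Scheme.Etale.forget X).obj U from x)) :
      Over.mk ξ ⟶ (Scheme.Etale.forget X).obj V)
  have hy : (pt).fiber.map g y = x := by
    refine Over.OverMorphism.ext ?_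
    exact hl₀
  rw [show (pt).toPresheafFiber U x (EtBase.OO X) s = germ ξ V y (g.left.appTop s) by
    rw [← hy]; exact (ConcreteCategory.congr_hom (germ_res ξ g y) s).symm]
  refine IsUnit.map (germ ξ V y).hom ?_
  change IsUnit (W.ι.appTop s)
  have hu := U.left.toLocallyRingedSpace.toRingedSpace.isUnit_res_basicOpen s
  rw [Scheme.Opens.ι_appTop]
  have h := hu.map (U.left.presheaf.map (homOfLE (Scheme.Opens.ι_image_top W).le).op).hom
  erw [← ConcreteCategory.comp_apply, ← Functor.map_comp] at h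
  exact h

theorem isLocalRing : IsLocalRing (EtBase.etaleLocalRing ξ) :=
  have : Nontrivial (EtBase.etaleLocalRing ξ) :=
    ⟨⟨0, 1, fun h => zero_ne_one (α := Ω) (by simpa using congrArg (ev ξ) h)⟩⟩
  IsLocalRing.of_isUnit_or_isUnit_one_sub_self fun r => by
    by_cases h : ev ξ r = 0
    · right
      refine isUnit_of_ev_ne_zero ξ _ ?_
      simp [h]
    · exact Or.inl (isUnit_of_ev_ne_zero ξ r h)

lemma ker_ev [IsLocalRing (EtBase.etaleLocalRing ξ)] (r : EtBase.etaleLocalRing ξ) :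
    r ∈ IsLocalRing.maximalIdeal (EtBase.etaleLocalRing ξ) ↔ ev ξ r = 0 := by
  rw [IsLocalRing.mem_maximalIdeal, mem_nonunits_iff]
  refine ⟨fun h => by_contra fun h' => h (isUnit_of_ev_ne_zero ξ r h'), fun h hu => ?_⟩
  exact (hu.map (ev ξ).hom).ne_zero h

/-- Finitely many elements live on one neighbourhood. -/
lemma exists_lift_fin (n : ℕ) (c : ℕ → EtBase.etaleLocalRing ξ) :
    ∃ (U : X.Etale) (x : (pt).fiber.obj U) (b : ℕ → Γ(U.left, ⊤)),
      ∀ i, i < n → germ ξ U x (b i) = c i := by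
  induction n with
  | zero =>
    obtain ⟨U, x, -, -⟩ := (pt).toPresheafFiber_jointly_surjective (P := EtBase.OO X) (0 : EtBase.etaleLocalRing ξ)
    exact ⟨U, x, fun _ => 0, fun i hi => absurd hi (Nat.not_lt_zero i)⟩
  | succ n ih =>
    obtain ⟨U, x, b, hb⟩ := ih
    obtain ⟨V, y, t, ht⟩ := (pt).toPresheafFiber_jointly_surjective (P := EtBase.OO X) (c n)
    obtain ⟨z, ⟨p₁, hp₁⟩, ⟨p₂, hp₂⟩, -⟩ :=
      IsCofilteredOrEmpty.cone_objs ((pt).fiber.elementsMk _ x) ((pt).fiber.elementsMk _ y)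
    refine ⟨z.1, z.2, fun i => if i = n then p₂.left.appTop t else p₁.left.appTop (b i), fun i hi => ?_⟩
    by_cases h : i = n
    · subst h
      simp only [if_true]
      rw [← ConcreteCategory.comp_apply, germ_res, hp₂]
      exact ht
    · simp only [if_neg h]
      rw [← ConcreteCategory.comp_apply, germ_res, hp₁]
      exact hb i (by omega)

lemma exists_monic_lift (f : (EtBase.etaleLocalRing ξ)[X]) (hf : f.Monic) :
    ∃ (U : X.Etale) (x : (pt).fiber.obj U) (f₀ : Γ(U.left, ⊤)[X]),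
      f₀.Monic ∧ f₀.map (germ ξ U x).hom = f := by
  obtain ⟨U, x, b, hb⟩ := exists_lift_fin ξ f.natDegree f.coeff
  refine ⟨U, x, Polynomial.X ^ f.natDegree +
    ∑ i ∈ Finset.range f.natDegree, Polynomial.C (b i) * Polynomial.X ^ i, ?_, ?_⟩
  · refine monic_X_pow_add ?_
    refine lt_of_le_of_lt (degree_sum_le _ _) ?_
    refine (Finset.sup_lt_iff (WithBot.bot_lt_coe _)).2 fun i hi => ?_
    exact lt_of_le_of_lt (degree_C_mul_X_pow_le i (b i)) (by exact_mod_cast Finset.mem_range.1 hi)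
  · conv_rhs => rw [hf.as_sum]
    simp only [Polynomial.map_add, Polynomial.map_pow, Polynomial.map_X, Polynomial.map_sum,
      Polynomial.map_mul, Polynomial.map_C]
    congr 1
    exact Finset.sum_congr rfl fun i hi => by rw [hb i (Finset.mem_range.1 hi)]

/-- Simple roots in `Ω` lift. -/
theorem exists_root_lift (f : (EtBase.etaleLocalRing ξ)[X]) (hf : f.Monic) (a₀ : Ω)
    (h₀ : (f.map (ev ξ).hom).eval a₀ = 0) (h₁ : ((derivative f).map (ev ξ).hom).eval a₀ ≠ 0) :
    ∃ a, f.eval a = 0 ∧ ev ξ a = a₀ := by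
  obtain ⟨U, x, f₀, hf₀, rfl⟩ := exists_monic_lift ξ f hf
  let A := Γ(U.left, ⊤)
  let P : StandardEtalePair A := ⟨f₀, hf₀, derivative f₀, 1, 0, 1, by simp⟩
  let φ := evalPt (ptOf ξ x)
  letI : Algebra A Ω := φ.hom.toAlgebra
  have hev : (germ ξ U x ≫ ev ξ).hom = φ.hom := congrArg (·.hom) (germ_ev ξ U x)
  rw [Polynomial.map_map, ← CommRingCat.hom_comp, hev, eval_map] at h₀
  rw [derivative_map, Polynomial.map_map, ← CommRingCat.hom_comp, hev, eval_map] at h₁
  have hm : P.HasMap a₀ := ⟨h₀, (Ne.isUnit h₁ : IsUnit (eval₂ φ.hom a₀ (derivative f₀)))⟩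
  let T : CommRingCat.{u} := CommRingCat.of P.Ring
  let t : Spec T ⟶ Spec A := Spec.map (CommRingCat.ofHom (algebraMap A P.Ring))
  have : Etale t :=
    (HasRingHomProperty.Spec_iff (P := @Etale)).2 (RingHom.etale_algebraMap.2 inferInstance)
  let V := pullback U.left.toSpecΓ t
  let e₁ : V ⟶ U.left := pullback.fst _ _
  let e₂ : V ⟶ Spec T := pullback.snd _ _
  have : Etale U.hom := U.prop
  have : Etale e₁ := MorphismProperty.pullback_fst _ _ ‹Etale t›
  let W : X.Etale := MorphismProperty.Over.mk ⊤ (e₁ ≫ U.hom) (inferInstance : Etale (e₁ ≫ U.hom))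
  let g : W ⟶ U := MorphismProperty.Over.homMk e₁ rfl
  let l : Spec (CommRingCat.of Ω) ⟶ V :=
    pullback.lift (ptOf ξ x) (Spec.map (CommRingCat.ofHom (P.lift a₀ hm).toRingHom)) (by
      rw [comp_toSpecΓ, ← Spec.map_comp]
      congr 1
      ext r
      exact ((P.lift a₀ hm).commutes r).symm)
  let y : (pt).fiber.obj W := (Over.homMk l (by
    change l ≫ e₁ ≫ U.hom = ξ
    rw [← Category.assoc, pullback.lift_fst]
    exact Over.w (show Over.mk ξ ⟶ (Scheme.Etale.forget X).obj U from x)) :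
      Over.mk ξ ⟶ (Scheme.Etale.forget X).obj W)
  have hy : (pt).fiber.map g y = x := Over.OverMorphism.ext (pullback.lift_fst _ _ _)
  let r₀ : Γ(W.left, ⊤) := e₂.appTop ((Scheme.ΓSpecIso T).inv P.X)
  have hroot : (f₀.map g.left.appTop.hom).eval r₀ = 0 := by
    have hc : ∀ a, g.left.appTop a = e₂.appTop ((Scheme.ΓSpecIso T).inv (algebraMap A P.Ring a)) := by
      intro a
      have h := congrArg Scheme.Hom.appTop (pullback.condition (f := U.left.toSpecΓ) (g := t))
      rw [Scheme.Hom.comp_appTop, Scheme.Hom.comp_appTop, Scheme.toSpecΓ_appTop] at h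
      have h' := ConcreteCategory.congr_hom h ((Scheme.ΓSpecIso Γ(U.left, ⊤)).inv a)
      simp only [ConcreteCategory.comp_apply, Iso.inv_hom_id_apply] at h'
      refine h'.trans (congrArg e₂.appTop ?_)
      exact (ConcreteCategory.congr_hom
        (Scheme.ΓSpecIso_inv_naturality (CommRingCat.ofHom (algebraMap A P.Ring))) a).symm
    have : f₀.map g.left.appTop.hom = (f₀.map (algebraMap A P.Ring)).map
        ((Scheme.ΓSpecIso T).inv ≫ e₂.appTop).hom := by
      rw [Polynomial.map_map]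
      exact congrArg (fun ψ => f₀.map ψ) (RingHom.ext hc)
    rw [this]
    change eval (((Scheme.ΓSpecIso T).inv ≫ e₂.appTop).hom P.X) _ = 0
    rw [eval_map, eval₂_at_apply, eval_map, ← aeval_def, StandardEtalePair.hasMap_X.1, map_zero]
  refine ⟨germ ξ W y r₀, ?_, ?_⟩
  · rw [← hy, ← germ_res, CommRingCat.hom_comp, ← Polynomial.map_map]
    refine (eval_map_apply (p := f₀.map g.left.appTop.hom) (germ ξ W y).hom r₀).trans ?_
    rw [hroot, map_zero]
  · rw [← ConcreteCategory.comp_apply, germ_ev]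
    change evalPt l (e₂.appTop ((Scheme.ΓSpecIso T).inv P.X)) = a₀
    rw [← ConcreteCategory.comp_apply e₂.appTop, ← evalPt_comp, pullback.lift_snd, evalPt_SpecMap]
    simp only [ConcreteCategory.comp_apply, Iso.inv_hom_id_apply]
    exact P.lift_X a₀ hm

theorem isStrictlyHenselian : EtCoh.IsStrictlyHenselianLocalRing (EtBase.etaleLocalRing ξ) := by
  haveI := isLocalRing ξ
  refine ⟨{ is_henselian := fun f hf a₀ h0 h1 => ?_ }, ?_⟩
  · obtain ⟨a, ha, ha'⟩ := exists_root_lift ξ f hf (ev ξ a₀)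
      (by rw [eval_map, eval₂_at_apply]; exact (ker_ev ξ _).1 h0)
      (by rw [eval_map, eval₂_at_apply]; exact (h1.map (ev ξ).hom).ne_zero)
    exact ⟨a, ha, (ker_ev ξ _).2 (by rw [map_sub, ha', sub_self])⟩
  · let κ := IsLocalRing.ResidueField (EtBase.etaleLocalRing ξ)
    let ψ : κ →+* Ω := Ideal.Quotient.lift _ (ev ξ).hom fun r hr => (ker_ev ξ r).1 hr
    refine IsSepClosed.of_exists_root κ fun p hp hirr hsep => ?_
    obtain ⟨f, hfp, hdeg, hf⟩ := lifts_and_degree_eq_and_monic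
      (Polynomial.map_surjective (IsLocalRing.residue (EtBase.etaleLocalRing ξ))
        IsLocalRing.residue_surjective p) hp
    have hcomp : f.map (ev ξ).hom = p.map ψ := by
      rw [← hfp, Polynomial.map_map]
      rfl
    have hd : (p.map ψ).degree ≠ 0 := by
      rw [degree_map]
      exact (degree_pos_of_irreducible hirr).ne'
    obtain ⟨a₀, ha₀⟩ := IsSepClosed.exists_root (p.map ψ) hd (hsep.map)
    have hne : ((derivative f).map (ev ξ).hom).eval a₀ ≠ 0 := by
      rw [← derivative_map, hcomp]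
      exact Polynomial.Separable.eval₂_derivative_ne_zero (RingHom.id Ω) hsep.map
        (by simpa [eval₂_id] using ha₀) |> fun h => by simpa [eval₂_id] using h
    obtain ⟨a, ha, ha'⟩ := exists_root_lift ξ f hf a₀ (by rw [hcomp]; exact ha₀) hne
    refine ⟨IsLocalRing.residue _ a, ?_⟩
    change eval _ p = 0
    rw [← hfp, eval_map, eval₂_at_apply, ha, map_zero]

end Groth.Agent.EtaleSite.EtaleLocalRing
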