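import Groth.Agent.EtaleSite.SetPushImage
import Groth.Prelude.Def_EtAcyc
import Mathlib.AlgebraicGeometry.Morphisms.QuasiCompact
import Mathlib.RingTheory.Spectrum.Prime.RingHom

/-!
# `(-1)`-acyclic morphisms
-/

set_option linter.style.haveILetI false

universe u

open CategoryTheory CategoryTheory.Limits AlgebraicGeometry Opposite

namespace Groth.Agent.EtaleSite.MinusOne

open SetStalk (stalkSh stalkPullShIso)

variable {X Y : Scheme.{u}}

/-- A point outside the image of a quasi-compact morphism has an open neighbourhood in which no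
point of the image is a specialisation of it. -/
theorem exists_etale_nbhd (g : X ⟶ Y) [QuasiCompact g] (y : Y) (hy : y ∉ Set.range g.base) :
    ∃ (V : Y.Etale) (v : V.left), V.hom.base v = y ∧
      ∀ z : ↥(pullback V.hom g), ¬ v ⤳ (pullback.fst V.hom g) z := by
  classical
  obtain ⟨A, jW, hjW, hmem, -⟩ := Scheme.exists_affine_mem_range_and_range_subset
    (x := y) (U := ⊤) (by trivial)
  obtain ⟨p, hp⟩ := hmem
  let P := pullback jW g
  haveI : CompactSpace P := QuasiCompact.compactSpace_of_compactSpace (pullback.fst jW g)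
  let 𝒰 := P.affineCover.finiteSubcover
  have key : ∀ i : 𝒰.I₀, ∃ s : A, s ∉ p.asIdeal ∧ ∀ w : ↥(𝒰.X i),
      p ⤳ (𝒰.f i ≫ pullback.fst jW g) w → s ∈ ((𝒰.f i ≫ pullback.fst jW g) w).asIdeal := by
    intro i
    haveI : IsAffine (𝒰.X i) := inferInstanceAs (IsAffine (P.affineCover.X _))
    obtain ⟨φ, hφ⟩ := Spec.map_surjective ((𝒰.X i).isoSpec.inv ≫ 𝒰.f i ≫ pullback.fst jW g)
    have hnr : p ∉ Set.range (PrimeSpectrum.comap φ.hom) := by
      rintro ⟨q, hq⟩
      apply hy
      let q' : ↥(Spec Γ(𝒰.X i, ⊤)) := q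
      let w := 𝒰.f i ((𝒰.X i).isoSpec.inv q')
      refine ⟨pullback.snd jW g w, ?_⟩
      have h1 : pullback.fst jW g w = p := by
        show ((𝒰.X i).isoSpec.inv ≫ 𝒰.f i ≫ pullback.fst jW g) q' = p
        rw [← hφ]
        exact hq
      have h2 := congrArg (fun k => k w) (pullback.condition (f := jW) (g := g))
      exact h2.symm.trans ((congrArg jW h1).trans hp)
    have hnr' : (p.asIdeal.map φ.hom).comap φ.hom ≠ p.asIdeal := fun h =>
      hnr ((PrimeSpectrum.mem_range_comap_iff φ.hom).2 h)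
    obtain ⟨s, hs, hs'⟩ : ∃ s, s ∈ (p.asIdeal.map φ.hom).comap φ.hom ∧ s ∉ p.asIdeal := by
      by_contra hc
      push_neg at hc
      exact hnr' (le_antisymm hc Ideal.le_comap_map)
    refine ⟨s, hs', fun w hw => ?_⟩
    have e : (𝒰.f i ≫ pullback.fst jW g) w = (Spec.map φ) ((𝒰.X i).isoSpec.hom w) := by
      rw [hφ]
      show _ = ((𝒰.X i).isoSpec.hom ≫ (𝒰.X i).isoSpec.inv ≫ 𝒰.f i ≫ pullback.fst jW g) w
      rw [Iso.hom_inv_id_assoc]
    rw [e] at hw ⊢
    have hle : p.asIdeal ≤ (PrimeSpectrum.comap φ.hom ((𝒰.X i).isoSpec.hom w)).asIdeal :=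
      (PrimeSpectrum.le_iff_specializes p _).2 hw
    exact Ideal.comap_mono (f := φ.hom) (Ideal.map_le_iff_le_comap.2 hle) hs
  choose s hs hs' using key
  have : Fintype 𝒰.I₀ := Fintype.ofFinite _
  let t := ∏ i, s i
  have ht : t ∉ p.asIdeal := fun h => by
    obtain ⟨i, -, hi⟩ := Ideal.IsPrime.prod_mem_iff.1 h
    exact hs i hi
  let D : (Spec A).Opens := PrimeSpectrum.basicOpen t
  refine ⟨Scheme.Etale.mk (D.ι ≫ jW), (⟨p, ht⟩ : D), hp, fun (z : ↥(pullback (D.ι ≫ jW) g)) hz => ?_⟩
  let c : pullback (D.ι ≫ jW) g ⟶ P :=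
    pullback.lift (pullback.fst _ _ ≫ D.ι) (pullback.snd _ _) ((Category.assoc _ _ _).trans pullback.condition)
  obtain ⟨w, hw⟩ := 𝒰.covers (c z)
  have e : (𝒰.f (𝒰.idx (c z)) ≫ pullback.fst jW g) w = D.ι (pullback.fst (D.ι ≫ jW) g z) := by
    rw [Scheme.Hom.comp_apply, hw, ← Scheme.Hom.comp_apply, pullback.lift_fst]
    rfl
  have h1 := hs' (𝒰.idx (c z)) w (e ▸ hz.map D.ι.continuous)
  rw [e] at h1
  exact (pullback.fst (D.ι ≫ jW) g z).2 (Ideal.mem_of_dvd _ (Finset.dvd_prod_of_mem _ (Finset.mem_univ _)) h1)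

variable {Ω Ω' : Type u} [Field Ω] [IsSepClosed Ω] [Field Ω'] [IsSepClosed Ω']

set_option backward.isDefEq.respectTransparency.types false in
/-- Stalks of a skyscraper away from the closure of its point are singletons. -/
theorem unique_stalk_skyscraper (ξ : Spec (CommRingCat.of Ω) ⟶ X)
    (η : Spec (CommRingCat.of Ω') ⟶ X) (h : ¬ ξ default ⤳ η default) (M : Type (u + 1)) [Nonempty M] :
    Nonempty ((stalkSh η).obj ((Scheme.pointSmallEtale ξ).skyscraperSheafFunctor.obj M)) ∧
      Subsingleton ((stalkSh η).obj ((Scheme.pointSmallEtale ξ).skyscraperSheafFunctor.obj M)) := by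
  let F := (Scheme.pointSmallEtale ξ).skyscraperSheafFunctor.obj M
  constructor
  · obtain ⟨φ, -⟩ := exists_fiber_point η (EtCoh.top X) (η default) rfl
    exact ⟨SetStalk.germ η F (EtCoh.top X) φ
      ((Types.productIso.{u, u + 1} fun _ : (Scheme.pointSmallEtale ξ).fiber.obj (EtCoh.top X) => M).inv
        fun _ => Classical.arbitrary M)⟩
  · refine ⟨fun a b => ?_⟩
    obtain ⟨V, φ, s, t, rfl, rfl⟩ := SetPush.exists_germ_eq_pair η F a b
    obtain ⟨O, hO, hη, hξ⟩ := not_specializes_iff_exists_open.1 h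
    let Vl : Scheme.{u} := V.left
    let Vh : Vl ⟶ X := V.hom
    let W : Vl.Opens := ⟨Vh ⁻¹' O, hO.preimage Vh.continuous⟩
    have hwη : V.hom (φ.left (default : Spec (CommRingCat.of Ω'))) = η default :=
      congrArg (fun k : Spec (CommRingCat.of Ω') ⟶ X => k default) (Over.w φ)
    have hmem : φ.left (default : Spec (CommRingCat.of Ω')) ∈ W := by
      show V.hom (φ.left (default : Spec (CommRingCat.of Ω'))) ∈ O
      rw [hwη]; exact hη
    let φl : Spec (CommRingCat.of Ω') ⟶ Vl := φ.left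
    have hWι : IsOpenImmersion W.ι := inferInstance
    have hr : Set.range φl ⊆ Set.range W.ι := by
      rw [Scheme.Opens.range_ι]
      rintro _ ⟨o, rfl⟩
      rw [Subsingleton.elim o default]
      exact hmem
    let l : Spec (CommRingCat.of Ω') ⟶ (W : Scheme.{u}) := IsOpenImmersion.lift W.ι φl hr
    have hl : l ≫ W.ι = φl := IsOpenImmersion.lift_fac _ _ _
    let φ' : (Scheme.pointSmallEtale η).fiber.obj (piece V W) :=
      (Over.homMk l (by
        show l ≫ W.ι ≫ V.hom = η
        rw [reassoc_of% hl]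
        exact Over.w φ) : Over.mk η ⟶ (Scheme.Etale.forget X).obj (piece V W))
    have hφ : (Scheme.pointSmallEtale η).fiber.map (pieceHom V W) φ' = φ :=
      Over.OverMorphism.ext hl
    rw [← hφ, ← SetStalk.germ_res, ← SetStalk.germ_res]
    refine congrArg (SetStalk.germ η F (piece V W) φ') ?_
    refine (Types.productIso.{u, u + 1}
      fun _ : (Scheme.pointSmallEtale ξ).fiber.obj (piece V W) => M).toEquiv.injective ?_
    funext ψ
    refine absurd ?_ hξ
    let ψl : Spec (CommRingCat.of Ω) ⟶ (W : Scheme.{u}) := ψ.left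
    have e : ψl ≫ W.ι ≫ Vh = ξ := Over.w ψ
    have e' := congrArg (fun k : Spec (CommRingCat.of Ω) ⟶ X => k default) e
    rw [← e']
    exact (ψl (default : Spec (CommRingCat.of Ω))).2

theorem mono_unit_of_surjective (g : X ⟶ Y) [Surjective g] (F : EtDesc.Sh Y) :
    Mono ((EtDesc.adjSh g).unit.app F) :=
  haveI := SetStalk.faithful_pull g
  inferInstance

theorem surjective_of_isMinusOneAcyclic (g : X ⟶ Y) [QuasiCompact g]
    (h : EtAcyc.IsMinusOneAcyclic g) : Function.Surjective g.base := by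
  intro y
  by_contra hy
  obtain ⟨V, v, hv, hz⟩ := exists_etale_nbhd g y (fun ⟨x, hx⟩ => hy ⟨x, hx⟩)
  let p := pullback.fst V.hom g
  obtain ⟨ξ, hξ⟩ : ∃ ξ : Spec (CommRingCat.of (SeparableClosure (V.left.residueField v))) ⟶ V.left,
      ξ default = v := ⟨geomPointAt V.left v, by
        show (Spec.map _ ≫ V.left.fromSpecResidueField v) default = v
        rw [Scheme.Hom.comp_apply]
        exact Scheme.fromSpecResidueField_apply _ _⟩
  let M : Type (u + 1) := ULift.{u + 1} Bool
  let F := (Scheme.pointSmallEtale ξ).skyscraperSheafFunctor.obj M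
  have hm : Mono ((EtDesc.adjSh p).unit.app F) := h V F
  have hsub : ∀ U : (pullback V.hom g).Etale, Subsingleton (((EtDesc.pullSh p).obj F).obj.obj (op U)) := by
    refine fun U => ⟨fun a b => SetStalk.sect_ext a b fun Ω _ _ ζ x => ?_⟩
    have h1 := (unique_stalk_skyscraper ξ (ζ ≫ p) (by
      rw [hξ, Scheme.Hom.comp_apply]; exact hz (ζ default)) M).2
    exact (@Equiv.subsingleton _ _ ((stalkPullShIso p ζ).app F).toEquiv h1).elim _ _
  haveI : Mono ((EtDesc.adjSh p).unit.app F).hom :=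
    inferInstanceAs (Mono ((sheafToPresheaf _ _).map ((EtDesc.adjSh p).unit.app F)))
  have hinj : Function.Injective (((EtDesc.adjSh p).unit.app F).hom.app (op (EtCoh.top V.left))) :=
    (CategoryTheory.mono_iff_injective _).1 inferInstance
  let φ : (Scheme.pointSmallEtale ξ).fiber.obj (EtCoh.top V.left) :=
    (Over.homMk ξ (Category.comp_id _) : Over.mk ξ ⟶ (Scheme.Etale.forget V.left).obj (EtCoh.top V.left))
  let e := (Types.productIso.{u, u + 1}
    fun _ : (Scheme.pointSmallEtale ξ).fiber.obj (EtCoh.top V.left) => M).toEquiv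
  have := @hinj (e.symm fun _ => ⟨true⟩) (e.symm fun _ => ⟨false⟩) ((hsub _).elim _ _)
  exact Bool.noConfusion (congrArg ULift.down (congrFun (e.symm.injective this) φ))

end Groth.Agent.EtaleSite.MinusOne
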