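import Groth.Agent.GenFinite.ClosedImm
import Mathlib.AlgebraicGeometry.Morphisms.FormallyUnramified
import Mathlib.AlgebraicGeometry.Morphisms.Finite
import Mathlib.AlgebraicGeometry.ResidueField
import Mathlib.AlgebraicGeometry.Fiber
import Mathlib.RingTheory.Unramified.Field

/-!
# Finite unramified morphisms with a one-point fibre of trivial residue extension
-/

set_option autoImplicit false

universe u

open CategoryTheory CategoryTheory.Limits AlgebraicGeometry

noncomputable section

namespace Groth.Agent.EtaleSite.OnePointFibre

theorem isReduced_of_unramified {k : Type u} [Field k] {P : Scheme.{u}}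
    (q : P ⟶ Spec (CommRingCat.of k)) [IsFinite q] [FormallyUnramified q] :
    AlgebraicGeometry.IsReduced P := by
  have : IsAffine P := isAffine_of_isAffineHom q
  let φ := Spec.preimage (P.isoSpec.inv ≫ q)
  have hφ : Spec.map φ = P.isoSpec.inv ≫ q := Spec.map_preimage _
  have h1 : φ.hom.Finite := by rw [← IsFinite.SpecMap_iff, hφ]; infer_instance
  have h2 : φ.hom.FormallyUnramified := by
    rw [← HasRingHomProperty.Spec_iff (P := @FormallyUnramified), hφ,
      MorphismProperty.cancel_left_of_respectsIso @FormallyUnramified]
    infer_instance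
  algebraize [φ.hom]
  have : _root_.IsReduced Γ(P, ⊤) := Algebra.FormallyUnramified.isReduced_of_field k Γ(P, ⊤)
  have : AlgebraicGeometry.IsReduced (Spec Γ(P, ⊤)) := inferInstance
  exact isReduced_of_isOpenImmersion P.isoSpec.hom

theorem isIso_of_unramified_one_point {k : Type u} [Field k] {P : Scheme.{u}}
    (q : P ⟶ Spec (CommRingCat.of k)) [IsFinite q] [FormallyUnramified q] (pt : P)
    (hpt : ∀ y : P, y = pt) (hs : Function.Surjective (q.residueFieldMap pt)) : IsIso q := by
  have := isReduced_of_unramified q
  have hPre : IsPreimmersion (P.fromSpecResidueField pt) := inferInstance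
  have hci : IsClosedImmersion (P.fromSpecResidueField pt) :=
    IsClosedImmersion.of_isPreimmersion _ (by
      rw [Scheme.range_fromSpecResidueField]
      have : ({pt} : Set P) = Set.univ := Set.eq_univ_of_forall hpt
      rw [this]
      exact isClosed_univ)
  have : Surjective (P.fromSpecResidueField pt) :=
    ⟨fun y => ⟨default, (Scheme.fromSpecResidueField_apply _ _).trans (hpt y).symm⟩⟩
  have := isIso_of_isClosedImmersion_of_surjective (P.fromSpecResidueField pt)
  have : IsIso (q.residueFieldMap pt) :=
    (ConcreteCategory.isIso_iff_bijective _).2 ⟨RingHom.injective _, hs⟩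
  have e := Scheme.Hom.SpecMap_residueFieldMap_fromSpecResidueField q pt
  let S := Spec (CommRingCat.of k)
  have hS : IsClosedImmersion (S.fromSpecResidueField (q pt)) :=
    IsClosedImmersion.of_isPreimmersion _ (by
      rw [Scheme.range_fromSpecResidueField]
      have : ({q pt} : Set S) = Set.univ := Set.eq_univ_of_forall fun y => Subsingleton.elim _ _
      rw [this]
      exact isClosed_univ)
  have : Surjective (S.fromSpecResidueField (q pt)) :=
    ⟨fun y => ⟨default, Subsingleton.elim _ _⟩⟩
  have := isIso_of_isClosedImmersion_of_surjective (S.fromSpecResidueField (q pt))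
  have h : IsIso (P.fromSpecResidueField pt ≫ q) := by
    rw [← e]; infer_instance
  exact IsIso.of_isIso_comp_left (P.fromSpecResidueField pt) q

variable {X S : Scheme.{u}} (f : X ⟶ S) [IsFinite f] [FormallyUnramified f] (s : S) (x : X)

theorem isIso_fiber (hx : f.base ⁻¹' {s} = {x}) (hκ : Function.Surjective (f.residueFieldMap x)) :
    IsIso (f.fiberToSpecResidueField s) := by
  have : IsFinite (f.fiberToSpecResidueField s) := MorphismProperty.pullback_snd _ _ ‹_›
  have : FormallyUnramified (f.fiberToSpecResidueField s) := MorphismProperty.pullback_snd _ _ ‹_›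
  have hxs : x ∈ f.base ⁻¹' {s} := by rw [hx]; rfl
  have hr : Set.range (f.fiberι s) = {x} := (f.range_fiberι s).trans hx
  obtain ⟨pt, hp⟩ : x ∈ Set.range (f.fiberι s) := hr ▸ rfl
  have hpre : IsPreimmersion (f.fiberι s) := MorphismProperty.pullback_fst _ _ inferInstance
  have hpt : ∀ y, y = pt := fun y => (f.fiberι s).isEmbedding.injective
    ((Set.mem_singleton_iff.1 (hr ▸ Set.mem_range_self y)).trans hp.symm)
  refine @isIso_of_unramified_one_point (S.residueField s) _ (f.fiber s) (f.fiberToSpecResidueField s) ‹_› ‹_› pt hpt ?_
  subst hp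
  have hι : Function.Surjective ((f.fiberι s).residueFieldMap pt) :=
    Function.Surjective.of_comp (g := ((X.residue (f.fiberι s pt))).hom) (by
      have e := Scheme.residue_residueFieldMap (f.fiberι s) pt
      have : Function.Surjective ((f.fiberι s).stalkMap pt ≫ (f.fiber s).residue pt) :=
        ((f.fiber s).residue_surjective pt).comp ((f.fiberι s).stalkMap_surjective pt)
      rw [← e] at this
      exact this)
  have hcomp := Scheme.Hom.residueFieldMap_congr (Scheme.Hom.fiber_fac f s).symm pt
  have hsurj : Function.Surjective ((f.fiberToSpecResidueField s ≫ S.fromSpecResidueField s).residueFieldMap pt) := by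
    rw [hcomp, Scheme.residueFieldMap_comp]
    exact (hι.comp hκ).comp (ConcreteCategory.bijective_of_isIso _).2
  rw [Scheme.residueFieldMap_comp] at hsurj
  exact Function.Surjective.of_comp hsurj

theorem exists_nhd_isClosedImmersion (hx : f.base ⁻¹' {s} = {x})
    (hκ : Function.Surjective (f.residueFieldMap x)) :
    ∃ U : S.Opens, s ∈ U ∧ IsClosedImmersion (f ∣_ U) := by
  have := isIso_fiber f s x hx hκ
  obtain ⟨U, hU, h⟩ := GenFinite.exists_nhd_isClosedImmersion f (S.fromSpecResidueField s)
    (inferInstanceAs (IsClosedImmersion (f.fiberToSpecResidueField s)))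
  refine ⟨U, ?_, h⟩
  have e : (S.fromSpecResidueField s).base default = s := S.fromSpecResidueField_apply s default
  exact Eq.subst (motive := fun y => y ∈ U) e hU

end Groth.Agent.EtaleSite.OnePointFibre
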