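import Groth.Prelude.Def_SGA4b
import Groth.Agent.EtaleSite.Pull
import Groth.Agent.EtaleSite.Points
import Mathlib.CategoryTheory.Sites.EpiMono
import Mathlib.CategoryTheory.Limits.Types.Filtered

/-!
# Stalks of sheaves of sets on small étale sites
-/

universe u

open CategoryTheory CategoryTheory.Limits AlgebraicGeometry Opposite

namespace Groth.Agent.EtaleSite.SetStalk

instance instPreservesFilteredColimitsForgetType :
    PreservesFilteredColimitsOfSize.{u, u} (forget (Type (u + 1))) :=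
  inferInstance

variable {X : Scheme.{u}}

/-- The stalk functor on sheaves of sets at a geometric point. -/
noncomputable abbrev stalkSh {Ω : Type u} [Field Ω] [IsSepClosed Ω]
    (ξ : Spec (CommRingCat.of Ω) ⟶ X) : EtDesc.Sh X ⥤ Type (u + 1) :=
  (Scheme.pointSmallEtale ξ).sheafFiber

/-- The germ at `x` of sections over `U`. -/
noncomputable abbrev germ {Ω : Type u} [Field Ω] [IsSepClosed Ω]
    (ξ : Spec (CommRingCat.of Ω) ⟶ X) (F : EtDesc.Sh X) (U : X.Etale)
    (x : (Scheme.pointSmallEtale ξ).fiber.obj U) :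
    F.obj.obj (op U) ⟶ (stalkSh ξ).obj F :=
  (Scheme.pointSmallEtale ξ).toPresheafFiber U x F.obj

section Germ

variable {Ω : Type u} [Field Ω] [IsSepClosed Ω] (ξ : Spec (CommRingCat.of Ω) ⟶ X)

theorem germ_naturality {F G : EtDesc.Sh X} (a : F ⟶ G) (U : X.Etale)
    (x : (Scheme.pointSmallEtale ξ).fiber.obj U) (s : F.obj.obj (op U)) :
    (stalkSh ξ).map a (germ ξ F U x s) = germ ξ G U x (a.hom.app (op U) s) :=
  (Scheme.pointSmallEtale ξ).toPresheafFiber_naturality_apply a.hom U x s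

theorem germ_res (F : EtDesc.Sh X) {V U : X.Etale} (g : V ⟶ U)
    (y : (Scheme.pointSmallEtale ξ).fiber.obj V) (s : F.obj.obj (op U)) :
    germ ξ F V y (F.obj.map g.op s) =
      germ ξ F U ((Scheme.pointSmallEtale ξ).fiber.map g y) s :=
  (Scheme.pointSmallEtale ξ).toPresheafFiber_w_apply g y F.obj s

theorem exists_germ_eq (F : EtDesc.Sh X) (p : (stalkSh ξ).obj F) :
    ∃ (U : X.Etale) (x : (Scheme.pointSmallEtale ξ).fiber.obj U) (s : F.obj.obj (op U)),
      germ ξ F U x s = p :=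
  (Scheme.pointSmallEtale ξ).toPresheafFiber_jointly_surjective (P := F.obj) p

theorem germ_eq_iff (F : EtDesc.Sh X) (U : X.Etale)
    (x : (Scheme.pointSmallEtale ξ).fiber.obj U) (s t : F.obj.obj (op U)) :
    germ ξ F U x s = germ ξ F U x t ↔
      ∃ (V : X.Etale) (g : V ⟶ U) (y : (Scheme.pointSmallEtale ξ).fiber.obj V),
        (Scheme.pointSmallEtale ξ).fiber.map g y = x ∧ F.obj.map g.op s = F.obj.map g.op t :=
  (Scheme.pointSmallEtale ξ).toPresheafFiber_eq_iff' (P := F.obj) U x s t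

end Germ

theorem sect_ext {F : EtDesc.Sh X} {U : X.Etale} (s t : F.obj.obj (op U))
    (h : ∀ (Ω : Type u) [Field Ω] [IsSepClosed Ω] (ξ : Spec (CommRingCat.of Ω) ⟶ X)
      (x : (Scheme.pointSmallEtale ξ).fiber.obj U), germ ξ F U x s = germ ξ F U x t) :
    s = t := by
  have hS : Presheaf.equalizerSieve (F := F.obj) s t ∈ X.smallEtaleTopology U := by
    refine mem_topology_of_forall_geomPoint _ fun Ω _ _ ξ x => ?_
    obtain ⟨V, g, y, hy, e⟩ := (germ_eq_iff ξ F U x s t).1 (h Ω ξ x)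
    exact ⟨V, g, y, e, hy⟩
  exact (((isSheaf_iff_isSheaf_of_type _ _).1 F.property).isSeparated _ hS).ext fun V g hg => hg

theorem sect_ext_of_surjective {Z : Scheme.{u}} (g : Z ⟶ X) [Surjective g] {F : EtDesc.Sh X}
    {U : X.Etale} (s t : F.obj.obj (op U))
    (h : ∀ (Ω : Type u) [Field Ω] [IsSepClosed Ω] (ζ : Spec (CommRingCat.of Ω) ⟶ Z)
      (x : (Scheme.pointSmallEtale (ζ ≫ g)).fiber.obj U),
        germ (ζ ≫ g) F U x s = germ (ζ ≫ g) F U x t) :
    s = t := by
  have hS : Presheaf.equalizerSieve (F := F.obj) s t ∈ X.smallEtaleTopology U := by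
    refine mem_topology_of_forall_comp g _ fun Ω _ _ ζ x => ?_
    obtain ⟨V, k, y, hy, e⟩ := (germ_eq_iff (ζ ≫ g) F U x s t).1 (h Ω ζ x)
    exact ⟨V, k, y, e, hy⟩
  exact (((isSheaf_iff_isSheaf_of_type _ _).1 F.property).isSeparated _ hS).ext fun V k hk => hk

theorem hom_ext_of_stalk {F G : EtDesc.Sh X} {a b : F ⟶ G}
    (h : ∀ (Ω : Type u) [Field Ω] [IsSepClosed Ω] (ξ : Spec (CommRingCat.of Ω) ⟶ X),
      (stalkSh ξ).map a = (stalkSh ξ).map b) : a = b := by
  ext U s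
  refine sect_ext (U := U.unop) _ _ fun Ω _ _ ξ x => ?_
  exact ((germ_naturality ξ a U.unop x s).symm.trans
    (congrArg (fun m => m (germ ξ F U.unop x s)) (h Ω ξ))).trans (germ_naturality ξ b U.unop x s)

theorem mono_of_injective {F G : EtDesc.Sh X} (a : F ⟶ G)
    (h : ∀ U, Function.Injective (a.hom.app U)) : Mono a := by
  have : ∀ U, Mono (a.hom.app U) := fun U => (CategoryTheory.mono_iff_injective _).2 (h U)
  have : Mono a.hom := NatTrans.mono_of_mono_app _
  exact (sheafToPresheaf _ _).mono_of_mono_map this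

theorem mono_of_stalk_of_surjective {Z : Scheme.{u}} (g : Z ⟶ X) [Surjective g]
    {F G : EtDesc.Sh X} (a : F ⟶ G)
    (h : ∀ (Ω : Type u) [Field Ω] [IsSepClosed Ω] (ζ : Spec (CommRingCat.of Ω) ⟶ Z),
      Function.Injective ((stalkSh (ζ ≫ g)).map a)) : Mono a := by
  refine mono_of_injective a fun U s t hst => ?_
  refine sect_ext_of_surjective g (U := U.unop) _ _ fun Ω _ _ ζ x => h Ω ζ ?_
  rw [germ_naturality, germ_naturality, hst]

theorem mono_of_stalk {F G : EtDesc.Sh X} (a : F ⟶ G)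
    (h : ∀ (Ω : Type u) [Field Ω] [IsSepClosed Ω] (ξ : Spec (CommRingCat.of Ω) ⟶ X),
      Function.Injective ((stalkSh ξ).map a)) : Mono a :=
  have : Surjective (𝟙 X) := inferInstance
  mono_of_stalk_of_surjective (𝟙 X) a fun Ω _ _ ζ => h Ω _

theorem isLocallySurjective_of_stalk_of_surjective {Z : Scheme.{u}} (g : Z ⟶ X) [Surjective g]
    {F G : EtDesc.Sh X} (a : F ⟶ G)
    (h : ∀ (Ω : Type u) [Field Ω] [IsSepClosed Ω] (ζ : Spec (CommRingCat.of Ω) ⟶ Z),
      Function.Surjective ((stalkSh (ζ ≫ g)).map a)) : Sheaf.IsLocallySurjective a := by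
  constructor
  intro U t
  refine mem_topology_of_forall_comp g _ fun Ω _ _ ζ x => ?_
  obtain ⟨p, hp⟩ := h Ω ζ (germ (ζ ≫ g) G U x t)
  obtain ⟨V, y, s, rfl⟩ := exists_germ_eq (ζ ≫ g) F p
  rw [germ_naturality] at hp
  obtain ⟨z, ⟨p₁, hp₁⟩, ⟨p₂, hp₂⟩, -⟩ :=
    IsCofilteredOrEmpty.cone_objs
      ((Scheme.pointSmallEtale (ζ ≫ g)).fiber.elementsMk _ x)
      ((Scheme.pointSmallEtale (ζ ≫ g)).fiber.elementsMk _ y)
  have hz : germ (ζ ≫ g) G z.1 z.2 (G.obj.map p₂.op (a.hom.app _ s)) =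
      germ (ζ ≫ g) G z.1 z.2 (G.obj.map p₁.op t) := by
    rw [germ_res, germ_res, hp₁, hp₂]
    exact hp
  obtain ⟨W, k, w, hw, hst⟩ := (germ_eq_iff (ζ ≫ g) G z.1 z.2 _ _).1 hz
  refine ⟨W, k ≫ p₁, w, ⟨F.obj.map (k ≫ p₂).op s, ?_⟩, ?_⟩
  · rw [NatTrans.naturality_apply, op_comp, op_comp, Functor.map_comp, Functor.map_comp]
    exact hst
  · rw [Functor.map_comp]
    exact (congrArg _ hw).trans hp₁

theorem epi_of_stalk_of_surjective {Z : Scheme.{u}} (g : Z ⟶ X) [Surjective g]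
    {F G : EtDesc.Sh X} (a : F ⟶ G)
    (h : ∀ (Ω : Type u) [Field Ω] [IsSepClosed Ω] (ζ : Spec (CommRingCat.of Ω) ⟶ Z),
      Function.Surjective ((stalkSh (ζ ≫ g)).map a)) : Epi a :=
  (Sheaf.isLocallySurjective_iff_epi' _ a).1 (isLocallySurjective_of_stalk_of_surjective g a h)

theorem epi_of_stalk {F G : EtDesc.Sh X} (a : F ⟶ G)
    (h : ∀ (Ω : Type u) [Field Ω] [IsSepClosed Ω] (ξ : Spec (CommRingCat.of Ω) ⟶ X),
      Function.Surjective ((stalkSh ξ).map a)) : Epi a :=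
  have : Surjective (𝟙 X) := inferInstance
  epi_of_stalk_of_surjective (𝟙 X) a fun Ω _ _ ζ => h Ω _

theorem stalk_injective_of_mono {F G : EtDesc.Sh X} (a : F ⟶ G) [Mono a] {Ω : Type u} [Field Ω]
    [IsSepClosed Ω] (ξ : Spec (CommRingCat.of Ω) ⟶ X) : Function.Injective ((stalkSh ξ).map a) := by
  have hm : Mono a.hom := inferInstanceAs (Mono ((sheafToPresheaf _ _).map a))
  have hinj : ∀ V, Function.Injective (a.hom.app V) := fun V =>
    (CategoryTheory.mono_iff_injective _).1 inferInstance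
  intro p q hpq
  obtain ⟨U, x, s, rfl⟩ := exists_germ_eq ξ F p
  obtain ⟨V, y, t, rfl⟩ := exists_germ_eq ξ F q
  obtain ⟨z, ⟨p₁, hp₁⟩, ⟨p₂, hp₂⟩, -⟩ :=
    IsCofilteredOrEmpty.cone_objs ((Scheme.pointSmallEtale ξ).fiber.elementsMk _ x)
      ((Scheme.pointSmallEtale ξ).fiber.elementsMk _ y)
  dsimp at p₁ p₂ hp₁ hp₂
  rw [← hp₁, ← hp₂, ← germ_res, ← germ_res] at hpq ⊢
  rw [germ_naturality, germ_naturality, germ_eq_iff] at hpq
  obtain ⟨W, k, w, hw, e⟩ := hpq
  rw [germ_eq_iff]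
  refine ⟨W, k, w, hw, hinj _ ?_⟩
  simp only [NatTrans.naturality_apply] at e ⊢
  exact e

theorem stalk_surjective_of_epi {F G : EtDesc.Sh X} (a : F ⟶ G) [Epi a] {Ω : Type u} [Field Ω]
    [IsSepClosed Ω] (ξ : Spec (CommRingCat.of Ω) ⟶ X) : Function.Surjective ((stalkSh ξ).map a) :=
  (CategoryTheory.epi_iff_surjective _).1 inferInstance

theorem isIso_of_stalk {F G : EtDesc.Sh X} (a : F ⟶ G)
    (h : ∀ (Ω : Type u) [Field Ω] [IsSepClosed Ω] (ξ : Spec (CommRingCat.of Ω) ⟶ X),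
      Function.Bijective ((stalkSh ξ).map a)) : IsIso a :=
  have := mono_of_stalk a fun Ω _ _ ξ => (h Ω ξ).1
  have := epi_of_stalk a fun Ω _ _ ξ => (h Ω ξ).2
  isIso_of_mono_of_epi a

variable {Y : Scheme.{u}} (f : X ⟶ Y)

/-- The stalk of `f⁻¹G` at `ξ` is the stalk of `G` at `ξ ≫ f`. -/
noncomputable def stalkPullShIso {Ω : Type u} [Field Ω] [IsSepClosed Ω]
    (ξ : Spec (CommRingCat.of Ω) ⟶ X) : EtDesc.pullSh f ⋙ stalkSh ξ ≅ stalkSh (ξ ≫ f) :=
  have : (EtDesc.pushSh f).IsRightAdjoint := (EtDesc.adjSh f).isRightAdjoint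
  ((Scheme.pointSmallEtale ξ).sheafFiberComapIso (EtCoh.bc f) (EtCoh.coverPreserving_bc f)
    (Type (u + 1))).symm ≪≫ (sheafFiberIsoOfPointIso (pointBcIso f ξ)).symm

theorem stalk_pull_map_bijective_iff {F G : EtDesc.Sh Y} (a : F ⟶ G) {Ω : Type u} [Field Ω]
    [IsSepClosed Ω] (ξ : Spec (CommRingCat.of Ω) ⟶ X) :
    (Function.Injective ((stalkSh ξ).map ((EtDesc.pullSh f).map a)) ↔
      Function.Injective ((stalkSh (ξ ≫ f)).map a)) ∧
    (Function.Surjective ((stalkSh ξ).map ((EtDesc.pullSh f).map a)) ↔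
      Function.Surjective ((stalkSh (ξ ≫ f)).map a)) := by
  let e : Arrow.mk ((stalkSh ξ).map ((EtDesc.pullSh f).map a)) ≅ Arrow.mk ((stalkSh (ξ ≫ f)).map a) :=
    ((Functor.mapArrowFunctor _ _).mapIso (stalkPullShIso f ξ)).app (Arrow.mk a)
  constructor
  · rw [← CategoryTheory.mono_iff_injective, ← CategoryTheory.mono_iff_injective]
    exact (MorphismProperty.monomorphisms (Type (u + 1))).arrow_mk_iso_iff e
  · rw [← CategoryTheory.epi_iff_surjective, ← CategoryTheory.epi_iff_surjective]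
    exact (MorphismProperty.epimorphisms (Type (u + 1))).arrow_mk_iso_iff e

/-- Inverse image along a surjective morphism reflects monomorphisms, epimorphisms, equalities. -/
theorem mono_of_mono_pull [Surjective f] {F G : EtDesc.Sh Y} (a : F ⟶ G)
    [Mono ((EtDesc.pullSh f).map a)] : Mono a :=
  mono_of_stalk_of_surjective f a fun _ _ _ ζ =>
    (stalk_pull_map_bijective_iff f a ζ).1.1 (stalk_injective_of_mono _ ζ)

theorem epi_of_epi_pull [Surjective f] {F G : EtDesc.Sh Y} (a : F ⟶ G)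
    [Epi ((EtDesc.pullSh f).map a)] : Epi a :=
  epi_of_stalk_of_surjective f a fun _ _ _ ζ =>
    (stalk_pull_map_bijective_iff f a ζ).2.1 (stalk_surjective_of_epi _ ζ)

theorem reflectsIsomorphisms_pull [Surjective f] : (EtDesc.pullSh f).ReflectsIsomorphisms where
  reflects a _ :=
    have := mono_of_mono_pull f a
    have := epi_of_epi_pull f a
    isIso_of_mono_of_epi a

theorem faithful_pull [Surjective f] : (EtDesc.pullSh f).Faithful where
  map_injective {F G a b} h := by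
    ext U s
    refine sect_ext_of_surjective f (U := U.unop) _ _ fun Ω _ _ ζ x => ?_
    have h' : (stalkSh (ζ ≫ f)).map a = (stalkSh (ζ ≫ f)).map b := by
      rw [← cancel_epi ((stalkPullShIso f ζ).hom.app F), ← (stalkPullShIso f ζ).hom.naturality,
        ← (stalkPullShIso f ζ).hom.naturality]
      simp only [Functor.comp_map, h]
    exact ((germ_naturality _ a U.unop x s).symm.trans
      (congrArg (fun m => m (germ (ζ ≫ f) F U.unop x s)) h')).trans
      (germ_naturality _ b U.unop x s)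

end Groth.Agent.EtaleSite.SetStalk
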