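import Groth.Agent.Hens.Stage
import Mathlib.LinearAlgebra.TensorProduct.Vanishing
import Mathlib.LinearAlgebra.TensorProduct.Finiteness

/-!
# `EtLoc A K ⊗ B` as a colimit over étale stages
-/

set_option linter.style.haveILetI false

universe u

open IsLocalRing TensorProduct

namespace Groth.Agent.EtaleSite

variable {A K : Type u} [CommRing A] [Field K] [Algebra A K] {B : Type u} [CommRing B] [Algebra A B]

/-- The map `S ⊗ B → EtLoc A K ⊗ B` of a stage. -/
noncomputable abbrev stageMap {S : Type u} [CommRing S] [Algebra A S]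
    (θ : S →ₐ[A] Hens.EtLoc A K) : S ⊗[A] B →ₐ[A] Hens.EtLoc A K ⊗[A] B :=
  Algebra.TensorProduct.map θ (AlgHom.id A B)

/-- Finitely many elements of `EtLoc A K ⊗ B` come from one stage. -/
theorem exists_stage_tensor {ι : Type*} [Finite ι] (z : ι → Hens.EtLoc A K ⊗[A] B) :
    ∃ (S : Type u) (_ : CommRing S) (_ : Algebra A S),
      Algebra.Etale A S ∧ ∃ (θ : S →ₐ[A] Hens.EtLoc A K) (w : ι → S ⊗[A] B),
        ∀ i, stageMap θ (w i) = z i := by
  classical
  cases nonempty_fintype ι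
  choose s hs using fun i => TensorProduct.exists_finset (z i)
  obtain ⟨S, _, _, hS, θ, hθ⟩ :=
    Hens.exists_stage_finset (Finset.univ.biUnion fun i => (s i).image Prod.fst)
  have h : ∀ i, ∀ p ∈ s i, ∃ a, θ a = p.1 := fun i p hp =>
    hθ _ (Finset.mem_biUnion.2 ⟨i, Finset.mem_univ _, Finset.mem_image_of_mem _ hp⟩)
  choose a ha using h
  refine ⟨S, _, _, hS, θ, fun i => ∑ p ∈ (s i).attach, a i p.1 p.2 ⊗ₜ p.1.2, fun i => ?_⟩
  simp [stageMap, ha, hs i, Finset.sum_attach (s i) (fun p => p.1 ⊗ₜ[A] p.2)]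

theorem exists_sum_tmul {S : Type u} [CommRing S] [Algebra A S] {r : ℕ} {m : Fin r → B}
    (hm : Submodule.span A (Set.range m) = ⊤) (z : S ⊗[A] B) :
    ∃ c : Fin r → S, ∑ i, c i ⊗ₜ m i = z := by
  induction z with
  | zero => exact ⟨0, by simp⟩
  | tmul s b =>
    obtain ⟨c, hc⟩ := (Submodule.mem_span_range_iff_exists_fun A).1 (hm ▸ Submodule.mem_top (x := b))
    exact ⟨fun i => c i • s, by simp [← hc, tmul_sum, smul_tmul]⟩
  | add x y hx hy =>
    obtain ⟨c, rfl⟩ := hx
    obtain ⟨d, rfl⟩ := hy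
    exact ⟨c + d, by simp [add_tmul, Finset.sum_add_distrib]⟩

/-- An element of a stage vanishing in `EtLoc A K ⊗ B` vanishes in a finer stage. -/
theorem exists_stage_kill [Module.Finite A B] {S : Type u} [CommRing S] [Algebra A S]
    [Algebra.Etale A S] (θ : S →ₐ[A] Hens.EtLoc A K) (z : S ⊗[A] B) (hz : stageMap θ z = 0) :
    ∃ (T : Type u) (_ : CommRing T) (_ : Algebra A T), Algebra.Etale A T ∧
      ∃ (g : S →ₐ[A] T) (η : T →ₐ[A] Hens.EtLoc A K),
        η.comp g = θ ∧ Algebra.TensorProduct.map g (AlgHom.id A B) z = 0 := by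
  classical
  obtain ⟨r, m, hm⟩ := Module.Finite.exists_fin (R := A) (M := B)
  obtain ⟨c, rfl⟩ := exists_sum_tmul hm z
  have h0 : ∑ i, m i ⊗ₜ[A] θ (c i) = 0 := by
    have := congrArg (TensorProduct.comm A (Hens.EtLoc A K) B) hz
    simpa [stageMap] using this
  obtain ⟨k, a, y, hy, ha⟩ := TensorProduct.vanishesTrivially_of_sum_tmul_eq_zero A hm h0
  obtain ⟨S₂, _, _, hS₂, θ₂, hθ₂⟩ := Hens.exists_stage_finset (Finset.univ.image y)
  choose y' hy' using fun j => hθ₂ (y j) (Finset.mem_image_of_mem _ (Finset.mem_univ j))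
  let U := S ⊗[A] S₂
  haveI : Algebra.Etale A U := Algebra.Etale.comp A S _
  let ζ : U →ₐ[A] Hens.EtLoc A K :=
    Algebra.TensorProduct.lift θ θ₂ (fun _ _ => Commute.all _ _)
  have hζ : ∀ (x : S) (w : S₂), ζ (x ⊗ₜ w) = θ x * θ₂ w := fun x w =>
    Algebra.TensorProduct.lift_tmul θ θ₂ (fun _ _ => Commute.all _ _) x w
  have hy'' : ∀ j, θ₂ (y' j) = y j := hy'
  have he : ∀ i, ζ (c i ⊗ₜ 1) = ζ (∑ j, a i j • ((1 : S) ⊗ₜ[A] y' j)) := fun i => by
    rw [map_sum]; simp only [map_smul, hζ, map_one, mul_one, one_mul, hy'']; exact hy i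
  choose s hs hs' using fun i => Hens.exists_mul_eq_of_map_eq ζ (he i)
  let P := ∏ i, s i
  have hP : Hens.point A K (ζ P) ≠ 0 := by
    simp only [P, map_prod]
    exact Finset.prod_ne_zero_iff.2 fun i _ => hs i
  have hu : IsUnit (ζ P) :=
    (IsLocalRing.notMem_maximalIdeal.1 fun hmem => hP ((Hens.mem_maximalIdeal_iff_point _).1 hmem))
  let q : U →ₐ[A] Localization.Away P := IsScalarTower.toAlgHom A U _
  haveI : Algebra.Etale A (Localization.Away P) := inferInstance
  refine ⟨Localization.Away P, _, _, inferInstance, q.comp Algebra.TensorProduct.includeLeft,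
    Hens.awayExt ζ P hu, ?_, ?_⟩
  · refine AlgHom.ext fun x => ?_
    show Hens.awayExt ζ P hu (algebraMap U _ (x ⊗ₜ 1)) = θ x
    rw [Hens.awayExt_algebraMap]
    simp [hζ]
  · have hc : ∀ i, q (c i ⊗ₜ 1) = ∑ j, a i j • q ((1 : S) ⊗ₜ[A] y' j) := fun i => by
      simp only [← map_smul, ← map_sum]
      have hu' : IsUnit (q (s i)) := by
        have := IsLocalization.Away.algebraMap_isUnit (S := Localization.Away P) P
        rw [show algebraMap U (Localization.Away P) P = ∏ j, q (s j) from map_prod _ _ _] at this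
        exact IsUnit.prod_iff.1 this i (Finset.mem_univ i)
      refine hu'.mul_left_cancel ?_
      rw [← map_mul, ← map_mul, hs' i]
    simp only [map_sum, Algebra.TensorProduct.map_tmul, AlgHom.comp_apply,
      AlgHom.id_apply]
    refine (Finset.sum_congr rfl fun i _ => congrArg (· ⊗ₜ[A] m i) (hc i)).trans ?_
    simp only [sum_tmul]
    rw [Finset.sum_comm]
    refine Finset.sum_eq_zero fun j _ => ?_
    simp only [smul_tmul, ← tmul_sum, ha j, tmul_zero]

end Groth.Agent.EtaleSite
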