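import Groth.Agent.EtaleSite.TopInv
import Groth.Agent.EtaleSite.Clopen
import Groth.Prelude.Def_EtBase
import Mathlib.AlgebraicGeometry.Gluing

/-!
# Topological invariance: gluing local lifts
-/

set_option linter.style.haveILetI false

universe u

open CategoryTheory CategoryTheory.Limits AlgebraicGeometry Opposite

namespace Groth.Agent.EtaleSite

variable {X Y : Scheme.{u}} (f : X ⟶ Y) [IsIntegralHom f] [UniversallyInjective f] [Surjective f]

set_option backward.isDefEq.respectTransparency.types false in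
theorem bijective_bc_map (V W : Y.Etale) :
    Function.Bijective (fun φ : V ⟶ W => (EtCoh.bc f).map φ) := by
  let v : Over Y := (Scheme.Etale.forget Y).obj V
  let w : Over Y := (Scheme.Etale.forget Y).obj W
  haveI : Etale w.hom := W.prop
  have hb := bijective_pullback_map f w v
  constructor
  · intro a b h
    refine (Scheme.Etale.forget Y).map_injective (hb.1 ?_)
    exact congrArg (fun k => (Scheme.Etale.forget X).map k) h
  · intro ψ
    obtain ⟨φ, hφ⟩ := hb.2 ((Scheme.Etale.forget X).map ψ)
    refine ⟨(Scheme.Etale.forget Y).preimage φ, (Scheme.Etale.forget X).map_injective ?_⟩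
    exact (congrArg (Over.pullback f).map ((Scheme.Etale.forget Y).map_preimage φ)).trans hφ

/-- Base change along a universal homeomorphism is fully faithful. -/
noncomputable def fullyFaithfulBc : (EtCoh.bc f).FullyFaithful where
  preimage ψ := ((bijective_bc_map f _ _).2 ψ).choose
  map_preimage ψ := ((bijective_bc_map f _ _).2 ψ).choose_spec
  preimage_map φ := (bijective_bc_map f _ _).1 ((bijective_bc_map f _ _).2 _).choose_spec

/-- `U` lifts over the open `W`. -/
def Liftable (U : X.Etale) (W : U.left.Opens) : Prop :=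
  ∃ V : Y.Etale, Nonempty ((EtCoh.bc f).obj V ≅ piece U W)

set_option backward.isDefEq.respectTransparency.types false in
/-- The projection of a base change is bijective on points. -/
theorem bijective_fst (V : Y.Etale) : Function.Bijective (pullback.fst V.hom f) := by
  haveI : UniversallyInjective (pullback.fst V.hom f) := MorphismProperty.pullback_fst V.hom f ‹_›
  exact ⟨(pullback.fst V.hom f).injective, (pullback.fst V.hom f).surjective⟩

set_option backward.isDefEq.respectTransparency.types false in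
theorem liftable_mono (U : X.Etale) {W' W : U.left.Opens} (hle : W' ≤ W) (h : Liftable f U W) :
    Liftable f U W' := by
  obtain ⟨V, ⟨e⟩⟩ := h
  let el : pullback V.hom f ⟶ (W : Scheme.{u}) := e.hom.left
  haveI : IsIso el := inferInstanceAs (IsIso ((Scheme.Etale.forget X ⋙ Over.forget X).map e.hom))
  let p : pullback V.hom f ⟶ V.left := pullback.fst V.hom f
  have hp : IsHomeomorph p := isHomeomorph_iff_continuous_isClosedMap_bijective.2
    ⟨p.continuous, p.isClosedMap, bijective_fst f V⟩
  let S : (pullback V.hom f).Opens := (el ≫ W.ι) ⁻¹ᵁ W'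
  let O : V.left.Opens := ⟨p '' (S : Set ↥(pullback V.hom f)), hp.isOpenMap _ S.2⟩
  let be : ((EtCoh.bc f).obj (piece V O)).left ⟶ pullback V.hom f :=
    ((EtCoh.bc f).map (pieceHom V O)).left
  have sq := EtCoh.isPullback_bc_map f (pieceHom V O)
  haveI : IsOpenImmersion be :=
    MorphismProperty.of_isPullback (P := @IsOpenImmersion) sq.flip (inferInstanceAs (IsOpenImmersion O.ι))
  have hbe : be ≫ p = pullback.fst (O.ι ≫ V.hom) f ≫ O.ι := sq.w
  have hrange : Set.range (be ≫ el ≫ W.ι) = Set.range W'.ι := by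
    rw [Scheme.Opens.range_ι]
    ext w
    constructor
    · rintro ⟨z, rfl⟩
      have h1 : p (be z) = O.ι (pullback.fst (O.ι ≫ V.hom) f z) :=
        congrArg (fun k : _ ⟶ V.left => k z) hbe
      obtain ⟨s, hs, hs'⟩ := (pullback.fst (O.ι ≫ V.hom) f z).2
      obtain rfl : s = be z := hp.injective (hs'.trans h1.symm)
      exact hs
    · intro hw
      obtain ⟨s, hs⟩ := el.surjective ⟨w, hle hw⟩
      have hsS : s ∈ S := by
        show W.ι (el s) ∈ W'
        rw [hs]; exact hw
      obtain ⟨z, hz, -⟩ := Scheme.Pullback.exists_preimage_pullback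
        (f := p) (g := O.ι) s ⟨p s, s, hsS, rfl⟩ rfl
      refine ⟨sq.isoPullback.inv z, ?_⟩
      have h2 : be (sq.isoPullback.inv z) = s := by
        exact (congrArg (fun q => q z) sq.isoPullback_inv_fst).trans hz
      show W.ι (el (be (sq.isoPullback.inv z))) = w
      rw [h2, hs]
      rfl
  let j' : (W' : Scheme.{u}) ⟶ U.left := W'.ι
  let j₁ : (W : Scheme.{u}) ⟶ U.left := W.ι
  have hj' : IsOpenImmersion j' := inferInstanceAs (IsOpenImmersion W'.ι)
  have hj₁ : IsOpenImmersion j₁ := inferInstanceAs (IsOpenImmersion W.ι)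
  haveI : IsOpenImmersion (be ≫ el ≫ j₁) := inferInstance
  refine ⟨piece V O, ⟨MorphismProperty.Over.isoMk
    (@IsOpenImmersion.isoOfRangeEq _ _ _ (be ≫ el ≫ j₁) j' ‹_› hj' hrange) ?_⟩⟩
  have h3 : (@IsOpenImmersion.isoOfRangeEq _ _ _ (be ≫ el ≫ j₁) j' ‹_› hj' hrange).hom ≫ W'.ι =
      be ≫ el ≫ W.ι := IsOpenImmersion.lift_fac _ _ _
  show _ ≫ W'.ι ≫ U.hom = _
  refine (Category.assoc _ _ _).symm.trans ((congrArg (· ≫ U.hom) h3).trans ?_)
  refine (Category.assoc _ _ _).trans ((congrArg (be ≫ ·) (Category.assoc _ _ _)).trans ?_)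
  refine (congrArg (be ≫ ·) (MorphismProperty.Over.w e.hom)).trans ?_
  exact MorphismProperty.Over.w ((EtCoh.bc f).map (pieceHom V O))

variable (U : X.Etale)

/-- The poset of liftable opens. -/
abbrev LiftIdx := {W : U.left.Opens // Liftable f U W}

/-- A chosen lift. -/
noncomputable def liftObj (W : LiftIdx f U) : Y.Etale := W.2.choose

/-- The identification of a chosen lift. -/
noncomputable def liftIso (W : LiftIdx f U) :
    (EtCoh.bc f).obj (liftObj f U W) ≅ piece U W.1 := W.2.choose_spec.some

/-- The inclusion of opens. -/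
noncomputable def pieceMap {W' W : U.left.Opens} (h : W' ≤ W) : piece U W' ⟶ piece U W :=
  MorphismProperty.Over.homMk (U.left.homOfLE h)
    ((Category.assoc _ _ _).symm.trans (congrArg (· ≫ U.hom) (U.left.homOfLE_ι h))) trivial

theorem pieceMap_comp {A B C : U.left.Opens} (h : A ≤ B) (h' : B ≤ C) :
    pieceMap U h ≫ pieceMap U h' = pieceMap U (h.trans h') :=
  MorphismProperty.Over.Hom.ext (Scheme.homOfLE_homOfLE _ h h')

theorem pieceMap_refl (A : U.left.Opens) : pieceMap U (le_refl A) = 𝟙 _ :=
  MorphismProperty.Over.Hom.ext (Scheme.homOfLE_rfl U.left A)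

/-- The diagram of chosen lifts. -/
noncomputable def liftFunctor : LiftIdx f U ⥤ Y.Etale where
  obj := liftObj f U
  map {W' W} h := (fullyFaithfulBc f).preimage
    ((liftIso f U W').hom ≫ pieceMap U (leOfHom h) ≫ (liftIso f U W).inv)
  map_id W := (fullyFaithfulBc f).map_injective (by
    rw [Functor.FullyFaithful.map_preimage, pieceMap_refl, Category.id_comp, Iso.hom_inv_id,
      CategoryTheory.Functor.map_id])
  map_comp {A B C} h h' := (fullyFaithfulBc f).map_injective (by
    simp only [Functor.map_comp, Functor.FullyFaithful.map_preimage, Category.assoc,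
      Iso.inv_hom_id_assoc]
    rw [← Category.assoc (pieceMap U _), pieceMap_comp])

/-- The diagram of underlying schemes. -/
noncomputable def liftScheme : LiftIdx f U ⥤ Scheme.{u} :=
  liftFunctor f U ⋙ Scheme.Etale.forget Y ⋙ Over.forget Y

/-- The underlying map of a point of a chosen lift to a point of `U`. -/
noncomputable def liftIncl (W : LiftIdx f U) : pullback (liftObj f U W).hom f ⟶ U.left :=
  (liftIso f U W).hom.left ≫ W.1.ι

set_option backward.isDefEq.respectTransparency.types false in
instance isOpenImmersion_liftIncl (W : LiftIdx f U) : IsOpenImmersion (liftIncl f U W) := by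
  let i : pullback (liftObj f U W).hom f ⟶ (W.1 : Scheme.{u}) := (liftIso f U W).hom.left
  haveI : IsIso i :=
    inferInstanceAs (IsIso ((Scheme.Etale.forget X ⋙ Over.forget X).map (liftIso f U W).hom))
  let j : (W.1 : Scheme.{u}) ⟶ U.left := W.1.ι
  haveI : IsOpenImmersion j := inferInstanceAs (IsOpenImmersion W.1.ι)
  exact inferInstanceAs (IsOpenImmersion (i ≫ j))

set_option backward.isDefEq.respectTransparency.types false in
theorem range_liftIncl (W : LiftIdx f U) : Set.range (liftIncl f U W) = W.1 := by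
  let i : pullback (liftObj f U W).hom f ⟶ (W.1 : Scheme.{u}) := (liftIso f U W).hom.left
  haveI : IsIso i :=
    inferInstanceAs (IsIso ((Scheme.Etale.forget X ⋙ Over.forget X).map (liftIso f U W).hom))
  show Set.range (i ≫ W.1.ι) = _
  rw [Scheme.Hom.comp_base, TopCat.coe_comp, Set.range_comp, i.surjective.range_eq,
    Set.image_univ, Scheme.Opens.range_ι]

set_option backward.isDefEq.respectTransparency.types false in
theorem map_liftIncl {W' W : LiftIdx f U} (h : W' ⟶ W) :
    ((EtCoh.bc f).map ((liftFunctor f U).map h)).left ≫ liftIncl f U W = liftIncl f U W' := by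
  have h1 : (EtCoh.bc f).map ((liftFunctor f U).map h) ≫ (liftIso f U W).hom =
      (liftIso f U W').hom ≫ pieceMap U (leOfHom h) := by
    simp [liftFunctor]
  have h2 := congrArg (fun k => k.left ≫ W.1.ι) h1
  refine ((Category.assoc _ _ _).symm.trans ?_)
  refine h2.trans ((Category.assoc _ _ _).trans ?_)
  exact congrArg ((liftIso f U W').hom.left ≫ ·) (U.left.homOfLE_ι (leOfHom h))

set_option backward.isDefEq.respectTransparency.types false in
theorem map_fst {W' W : LiftIdx f U} (h : W' ⟶ W) :
    ((EtCoh.bc f).map ((liftFunctor f U).map h)).left ≫ pullback.fst (liftObj f U W).hom f =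
      pullback.fst (liftObj f U W').hom f ≫ ((liftScheme f U).map h) :=
  (EtCoh.isPullback_bc_map f ((liftFunctor f U).map h)).w

set_option backward.isDefEq.respectTransparency.types false in
instance isOpenImmersion_liftScheme_map {W' W : LiftIdx f U} (h : W' ⟶ W) :
    IsOpenImmersion ((liftScheme f U).map h) := by
  let m : pullback (liftObj f U W').hom f ⟶ pullback (liftObj f U W).hom f :=
    ((EtCoh.bc f).map ((liftFunctor f U).map h)).left
  haveI := isOpenImmersion_liftIncl f U W
  haveI := isOpenImmersion_liftIncl f U W'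
  haveI : IsOpenImmersion (m ≫ liftIncl f U W) := by
    rw [show m ≫ liftIncl f U W = liftIncl f U W' from map_liftIncl f U h]; infer_instance
  haveI : IsOpenImmersion m := IsOpenImmersion.of_comp m (liftIncl f U W)
  haveI : UniversallyInjective (pullback.fst (liftObj f U W).hom f) :=
    MorphismProperty.pullback_fst _ f ‹_›
  let a : (liftObj f U W').left ⟶ (liftObj f U W).left := (liftScheme f U).map h
  haveI : UniversallyInjective (pullback.fst (liftObj f U W').hom f ≫ a) := by
    rw [show pullback.fst (liftObj f U W').hom f ≫ a = m ≫ pullback.fst (liftObj f U W).hom f from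
      (map_fst f U h).symm]
    exact MorphismProperty.comp_mem @UniversallyInjective _ _ inferInstance ‹_›
  haveI : UniversallyInjective a :=
    Thick.Topo.universallyInjective_of_comp_surjective (pullback.fst (liftObj f U W').hom f) a
  haveI : Etale a := by
    haveI : Etale (liftObj f U W).hom := (liftObj f U W).prop
    haveI : Etale (a ≫ (liftObj f U W).hom) := by
      rw [show a ≫ (liftObj f U W).hom = (liftObj f U W').hom from
        MorphismProperty.Over.w ((liftFunctor f U).map h)]
      exact (liftObj f U W').prop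
    exact Etale.of_comp a (liftObj f U W).hom
  exact isOpenImmersion_of_etale_of_universallyInjective a

set_option backward.isDefEq.respectTransparency.types false in
instance isLocallyDirected_liftScheme : (liftScheme f U ⋙ Scheme.forget).IsLocallyDirected := by
  refine ⟨fun {i j k} fi fj xi xj hx => ?_⟩
  obtain ⟨zi, rfl⟩ := (bijective_fst f (liftObj f U i)).2 xi
  obtain ⟨zj, rfl⟩ := (bijective_fst f (liftObj f U j)).2 xj
  have e1 := fun (l : LiftIdx f U) (m : l ⟶ k) (z : ↥(pullback (liftObj f U l).hom f)) =>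
    (congrArg (fun q : pullback (liftObj f U l).hom f ⟶ (liftObj f U k).left => q z) (map_fst f U m))
  have e2 := fun (l : LiftIdx f U) (m : l ⟶ k) (z : ↥(pullback (liftObj f U l).hom f)) =>
    (congrArg (fun q : pullback (liftObj f U l).hom f ⟶ U.left => q z) (map_liftIncl f U m))
  have h2 : liftIncl f U i zi = liftIncl f U j zj := by
    rw [← e2 i fi, ← e2 j fj]
    refine congrArg (liftIncl f U k) ((bijective_fst f (liftObj f U k)).1 ?_)
    exact (e1 i fi zi).trans (hx.trans (e1 j fj zj).symm)
  let u₀ := liftIncl f U i zi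
  have hi : u₀ ∈ i.1 := (range_liftIncl f U i).le ⟨zi, rfl⟩
  have hj : u₀ ∈ j.1 := (range_liftIncl f U j).le ⟨zj, h2.symm⟩
  let l : LiftIdx f U := ⟨i.1 ⊓ j.1, liftable_mono f U inf_le_left i.2⟩
  obtain ⟨zl, hzl⟩ := (range_liftIncl f U l).ge ⟨hi, hj⟩
  let al : l ⟶ i := homOfLE (show l.1 ≤ i.1 from inf_le_left)
  let ar : l ⟶ j := homOfLE (show l.1 ≤ j.1 from inf_le_right)
  refine ⟨l, al, ar, pullback.fst (liftObj f U l).hom f zl, ?_, ?_⟩
  · refine (congrArg (fun q : _ ⟶ (liftObj f U i).left => q zl)
      (map_fst f U al)).symm.trans ?_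
    refine congrArg (pullback.fst (liftObj f U i).hom f) ?_
    refine (liftIncl f U i).isOpenEmbedding.injective ?_
    refine Eq.trans ?_ hzl
    exact congrArg (fun q : _ ⟶ U.left => q zl) (map_liftIncl f U al)
  · refine (congrArg (fun q : _ ⟶ (liftObj f U j).left => q zl)
      (map_fst f U ar)).symm.trans ?_
    refine congrArg (pullback.fst (liftObj f U j).hom f) ?_
    refine (liftIncl f U j).isOpenEmbedding.injective ?_
    refine Eq.trans ?_ (hzl.trans h2)
    exact congrArg (fun q : _ ⟶ U.left => q zl) (map_liftIncl f U ar)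

set_option backward.isDefEq.respectTransparency.types false in
/-- If `U` lifts near every point, it lifts. -/
theorem mem_essImage_bc (hU : ∀ u : U.left, ∃ W : LiftIdx f U, u ∈ W.1) :
    (EtCoh.bc f).essImage U := by
  let D := liftScheme f U
  let c : Cocone D := ⟨Y, { app := fun W => (liftObj f U W).hom
                            naturality := fun W' W h =>
                              (MorphismProperty.Over.w ((liftFunctor f U).map h)).trans
                                (Category.comp_id _).symm }⟩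
  let v : colimit D ⟶ Y := colimit.desc D c
  have hv : ∀ W, colimit.ι D W ≫ v = (liftObj f U W).hom := fun W => colimit.ι_desc c W
  haveI : Etale v := by
    refine IsZariskiLocalAtSource.of_openCover (Scheme.IsLocallyDirected.openCover D) fun W => ?_
    show Etale (colimit.ι D W ≫ v)
    rw [hv]
    exact (liftObj f U W).prop
  let V : Y.Etale := Scheme.Etale.mk v
  let ιV : ∀ W, liftObj f U W ⟶ V := fun W =>
    MorphismProperty.Over.homMk (colimit.ι D W) (hv W) trivial
  have hιV : ∀ {W' W : LiftIdx f U} (h : W' ⟶ W), (liftFunctor f U).map h ≫ ιV W = ιV W' :=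
    fun h => MorphismProperty.Over.Hom.ext (colimit.w D h)
  -- the map on the piece `W`
  let ψ : ∀ W : LiftIdx f U, piece U W.1 ⟶ (EtCoh.bc f).obj V := fun W =>
    (liftIso f U W).inv ≫ (EtCoh.bc f).map (ιV W)
  have hψ : ∀ {W' W : LiftIdx f U} (h : W' ⟶ W), pieceMap U (leOfHom h) ≫ ψ W = ψ W' := by
    intro W' W h
    refine Eq.trans ?_ (congrArg (fun q => (liftIso f U W').inv ≫ q)
      (((EtCoh.bc f).map_comp _ _).symm.trans (congrArg (EtCoh.bc f).map (hιV h))))
    simp [liftFunctor, ψ]
  let 𝒰 : U.left.OpenCover := U.left.openCoverOfIsOpenCover (fun W : LiftIdx f U => W.1)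
    (.mk (eq_top_iff.2 fun u _ => by
      obtain ⟨W, hW⟩ := hU u
      exact TopologicalSpace.Opens.mem_iSup.2 ⟨W, hW⟩))
  let ψl : ∀ W : LiftIdx f U, (W.1 : Scheme.{u}) ⟶ pullback v f := fun W => (ψ W).left
  let φ : U.left ⟶ pullback v f := 𝒰.glueMorphisms ψl fun W W' => by
    let l : LiftIdx f U := ⟨W.1 ⊓ W'.1, liftable_mono f U inf_le_left W.2⟩
    let P := pullback (𝒰.f W) (𝒰.f W')
    let k : P ⟶ (l.1 : Scheme.{u}) := IsOpenImmersion.lift l.1.ι (pullback.fst _ _ ≫ W.1.ι) (by
      rw [Scheme.Opens.range_ι]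
      rintro _ ⟨z, rfl⟩
      refine ⟨(pullback.fst (𝒰.f W) (𝒰.f W') z).2, ?_⟩
      have e := congrArg (fun q : P ⟶ U.left => q z)
        (pullback.condition (f := 𝒰.f W) (g := 𝒰.f W'))
      exact e ▸ (pullback.snd (𝒰.f W) (𝒰.f W') z).2)
    have hk : k ≫ l.1.ι = pullback.fst _ _ ≫ W.1.ι := IsOpenImmersion.lift_fac _ _ _
    have a1 : k ≫ (pieceMap U (inf_le_left : l.1 ≤ W.1)).left = pullback.fst (𝒰.f W) (𝒰.f W') := by
      refine (cancel_mono W.1.ι).1 ?_
      exact ((Category.assoc _ _ _).trans
        (congrArg (k ≫ ·) (U.left.homOfLE_ι (inf_le_left : l.1 ≤ W.1)))).trans hk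
    have a2 : k ≫ (pieceMap U (inf_le_right : l.1 ≤ W'.1)).left = pullback.snd (𝒰.f W) (𝒰.f W') := by
      refine (cancel_mono W'.1.ι).1 ?_
      exact (((Category.assoc _ _ _).trans
        (congrArg (k ≫ ·) (U.left.homOfLE_ι (inf_le_right : l.1 ≤ W'.1)))).trans hk).trans
        pullback.condition
    have b1 := congrArg (fun q => k ≫ q.left) (hψ (homOfLE (show l.1 ≤ W.1 from inf_le_left) : l ⟶ W))
    have b2 := congrArg (fun q => k ≫ q.left) (hψ (homOfLE (show l.1 ≤ W'.1 from inf_le_right) : l ⟶ W'))
    exact (congrArg (· ≫ ψl W) a1).symm.trans ((Category.assoc _ _ _).trans (b1.trans (b2.symm.trans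
      ((Category.assoc _ _ _).symm.trans (congrArg (· ≫ ψl W') a2)))))
  have hφ : ∀ W : LiftIdx f U, W.1.ι ≫ φ = ψl W := fun W => 𝒰.ι_glueMorphisms ψl _ W
  have hψw : ∀ W : LiftIdx f U, ψl W ≫ pullback.snd v f = W.1.ι ≫ U.hom :=
    fun W => MorphismProperty.Over.w (ψ W)
  have hφw : φ ≫ pullback.snd v f = U.hom := by
    refine 𝒰.hom_ext _ _ fun W => ?_
    show W.1.ι ≫ φ ≫ pullback.snd v f = W.1.ι ≫ U.hom
    rw [reassoc_of% (hφ W), hψw]
  let be : ∀ W, pullback (liftObj f U W).hom f ⟶ pullback v f :=
    fun W => ((EtCoh.bc f).map (ιV W)).left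
  have hbe : ∀ W, be W ≫ pullback.fst v f = pullback.fst (liftObj f U W).hom f ≫ colimit.ι D W :=
    fun W => (EtCoh.isPullback_bc_map f (ιV W)).w
  have hφbe : ∀ W, liftIncl f U W ≫ φ = be W := by
    intro W
    show ((liftIso f U W).hom.left ≫ W.1.ι) ≫ φ = be W
    refine (Category.assoc _ _ _).trans ?_
    refine (congrArg ((liftIso f U W).hom.left ≫ ·) (hφ W)).trans ?_
    exact congrArg (fun q => q.left) (Iso.hom_inv_id_assoc (liftIso f U W) ((EtCoh.bc f).map (ιV W)))
  have hbeo : ∀ W, IsOpenImmersion (be W) := fun W =>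
    MorphismProperty.of_isPullback (P := @IsOpenImmersion)
      (EtCoh.isPullback_bc_map f (ιV W)).flip (inferInstanceAs (IsOpenImmersion (colimit.ι D W)))
  haveI : ∀ W, IsOpenImmersion (liftIncl f U W) := isOpenImmersion_liftIncl f U
  have hloc : ∀ u, ∃ (W : LiftIdx f U) (z : ↥(pullback (liftObj f U W).hom f)),
      liftIncl f U W z = u := fun u => by
    obtain ⟨W, hW⟩ := hU u
    exact ⟨W, (range_liftIncl f U W).ge hW⟩
  haveI : Surjective φ := ⟨fun p => by
    obtain ⟨W, x, hx⟩ := Scheme.IsLocallyDirected.ι_jointly_surjective D (pullback.fst v f p)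
    obtain ⟨z, rfl⟩ := (bijective_fst f (liftObj f U W)).2 x
    refine ⟨liftIncl f U W z, (bijective_fst f V).1 ?_⟩
    refine Eq.trans ?_ hx
    exact (congrArg (pullback.fst v f)
      (congrArg (fun q : _ ⟶ pullback v f => q z) (hφbe W))).trans
      (congrArg (fun q : _ ⟶ colimit D => q z) (hbe W))⟩
  have hinj : Function.Injective φ := by
    intro u u' h
    obtain ⟨W, z, rfl⟩ := hloc u
    obtain ⟨W', z', rfl⟩ := hloc u'
    have h1 : be W z = be W' z' :=
      (congrArg (fun q : _ ⟶ pullback v f => q z) (hφbe W)).symm.trans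
        (h.trans (congrArg (fun q : _ ⟶ pullback v f => q z') (hφbe W')))
    have h2 : colimit.ι D W (pullback.fst (liftObj f U W).hom f z) =
        colimit.ι D W' (pullback.fst (liftObj f U W').hom f z') :=
      ((congrArg (fun q : _ ⟶ colimit D => q z) (hbe W)).symm.trans
        (congrArg (pullback.fst v f) h1)).trans
        (congrArg (fun q : _ ⟶ colimit D => q z') (hbe W'))
    obtain ⟨k, a, b, x, hxa, hxb⟩ := (Scheme.IsLocallyDirected.ι_eq_ι_iff D).1 h2
    obtain ⟨w, rfl⟩ := (bijective_fst f (liftObj f U k)).2 x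
    have e : ∀ (l : LiftIdx f U) (m : k ⟶ l) (y : ↥(pullback (liftObj f U l).hom f)),
        D.map m (pullback.fst (liftObj f U k).hom f w) = pullback.fst (liftObj f U l).hom f y →
        liftIncl f U l y = liftIncl f U k w := fun l m y hy => by
      rw [← congrArg (fun q : _ ⟶ U.left => q w) (map_liftIncl f U m)]
      refine congrArg (liftIncl f U l) ((bijective_fst f (liftObj f U l)).1 ?_)
      exact hy.symm.trans (congrArg (fun q : _ ⟶ (liftObj f U l).left => q w) (map_fst f U m)).symm
    exact (e W a z hxa).trans (e W' b z' hxb).symm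
  haveI hcomp : ∀ W : LiftIdx f U, IsOpenImmersion (liftIncl f U W ≫ φ) := fun W => by
    rw [hφbe]; exact hbeo W
  have hopen : IsOpenMap φ := fun O hO => by
    refine isOpen_iff_forall_mem_open.2 ?_
    rintro _ ⟨u, hu, rfl⟩
    obtain ⟨W, z, rfl⟩ := hloc u
    refine ⟨(liftIncl f U W ≫ φ) '' (liftIncl f U W ⁻¹' O), ?_,
      (liftIncl f U W ≫ φ).isOpenEmbedding.isOpenMap _ (hO.preimage (liftIncl f U W).continuous),
      z, hu, rfl⟩
    rintro _ ⟨z', hz', rfl⟩
    exact ⟨_, hz', rfl⟩
  haveI : ∀ u, IsIso (φ.stalkMap u) := fun u => by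
    obtain ⟨W, z, rfl⟩ := hloc u
    haveI := hcomp W
    haveI := isOpenImmersion_liftIncl f U W
    haveI : IsIso (φ.stalkMap (liftIncl f U W z) ≫ (liftIncl f U W).stalkMap z) := by
      rw [← Scheme.Hom.stalkMap_comp]; exact (IsOpenImmersion.iff_isIso_stalkMap.1 (hcomp W)).2 z
    haveI : IsIso ((liftIncl f U W).stalkMap z) :=
      (IsOpenImmersion.iff_isIso_stalkMap.1 (isOpenImmersion_liftIncl f U W)).2 z
    exact IsIso.of_isIso_comp_right (φ.stalkMap _) ((liftIncl f U W).stalkMap z)
  haveI : IsOpenImmersion φ := IsOpenImmersion.of_isIso_stalkMap φ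
    (Topology.IsOpenEmbedding.of_continuous_injective_isOpenMap φ.continuous hinj hopen)
  haveI : Epi φ.base := (TopCat.epi_iff_surjective _).2 φ.surjective
  have hφiso : IsIso φ := IsOpenImmersion.isIso φ
  exact ⟨V, ⟨(MorphismProperty.Over.isoMk (P := EtCoh.etaleMP) (Q := ⊤) (A := U)
    (B := (EtCoh.bc f).obj V) (@asIso _ _ _ _ φ hφiso) hφw).symm⟩⟩

/-- Local lifts make base change an equivalence. -/
theorem isEquivalence_bc (h : ∀ (U : X.Etale) (u : U.left), ∃ (V : Y.Etale)
    (k : pullback V.hom f ⟶ U.left), k ≫ U.hom = pullback.snd V.hom f ∧ IsOpenImmersion k ∧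
      u ∈ Set.range k) : (EtCoh.bc f).IsEquivalence where
  full := (fullyFaithfulBc f).full
  faithful := (fullyFaithfulBc f).faithful
  essSurj := ⟨fun U => mem_essImage_bc f U fun u => by
    obtain ⟨V, k, hk, hko, hu⟩ := h U u
    refine ⟨⟨k.opensRange, V, ⟨MorphismProperty.Over.isoMk k.isoOpensRange ?_⟩⟩, hu⟩
    show k.isoOpensRange.hom ≫ k.opensRange.ι ≫ U.hom = pullback.snd V.hom f
    rw [← Category.assoc, Scheme.Hom.isoOpensRange_hom_ι, hk]⟩

end Groth.Agent.EtaleSite
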