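import Groth.Agent.EtaleSite.TopInvGlue
import Groth.Agent.SGA1Desc.QuasiFiniteEff
import Groth.Agent.S5115
import Groth.Agent.UH.Basic
import Groth.Agent.AlgSp.DescentAffine
import Mathlib.RingTheory.Smooth.NoetherianDescent

/-!
# Topological invariance of the étale site: local lifts

An affine étale scheme over the source of an integral universally injective surjection of affine
schemes lives over a Noetherian model of that surjection; there it carries a descent datum, which is
effective.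
-/

set_option autoImplicit false
set_option linter.style.haveILetI false
set_option backward.isDefEq.respectTransparency false

universe u

open CategoryTheory CategoryTheory.Limits AlgebraicGeometry Opposite TensorProduct

namespace Groth.Agent.EtaleSite.TopInvLift

section Algebra

open MvPolynomial

variable {A B : Type u} [CommRing A] [CommRing B] (φ : A →+* B)

/-- Finitely many elements of a radicial integral extension satisfy a radiciality identity. -/
theorem exists_radicial_witness (hφ : WN.IsRadHomeo φ) {n : ℕ} (x : Fin n → B) (i : Fin n) :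
    ∃ (N : ℕ) (P : Finset (MvPolynomial (Fin n) A)) (c c' : MvPolynomial (Fin n) A → MvPolynomial (Fin n ⊕ Fin n) A),
      (∀ p ∈ P, eval₂ φ x p = 0) ∧
      (X (Sum.inl i) - X (Sum.inr i) : MvPolynomial (Fin n ⊕ Fin n) A) ^ N =
        ∑ p ∈ P, (c p * rename Sum.inl p + c' p * rename Sum.inr p) := by
  classical
  letI := φ.toAlgebra
  let π : MvPolynomial (Fin n) A →ₐ[A] B := aeval x
  let T : Subalgebra A B := π.range
  have hT : WN.IsRadicial (algebraMap A T) := UH.isRadicial_restrict hφ.isIntegral hφ.radicial T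
  let I : Ideal (MvPolynomial (Fin n) A) := RingHom.ker π.toRingHom
  let G : Set (MvPolynomial (Fin n ⊕ Fin n) A) :=
    (rename Sum.inl '' (I : Set _)) ∪ (rename Sum.inr '' (I : Set _))
  let δ : MvPolynomial (Fin n ⊕ Fin n) A := X (Sum.inl i) - X (Sum.inr i)
  have hrad : δ ∈ (Ideal.span G).radical := by
    rw [Ideal.radical_eq_sInf, Submodule.mem_sInf]
    rintro q ⟨hq, hqp⟩
    let K := FractionRing (MvPolynomial (Fin n ⊕ Fin n) A ⧸ q)
    let ψ : MvPolynomial (Fin n ⊕ Fin n) A →+* K :=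
      (algebraMap (MvPolynomial (Fin n ⊕ Fin n) A ⧸ q) K).comp (Ideal.Quotient.mk q)
    have hψ : ∀ z, ψ z = 0 ↔ z ∈ q := fun z => by
      simp only [ψ, RingHom.comp_apply, map_eq_zero_iff _ (IsFractionRing.injective _ K),
        Ideal.Quotient.eq_zero_iff_mem]
    have hπT : Function.Surjective (π.rangeRestrict : MvPolynomial (Fin n) A →+* T) :=
      π.rangeRestrict_surjective
    have hker : RingHom.ker (π.rangeRestrict : MvPolynomial (Fin n) A →+* T) = I := by
      ext z
      simp only [RingHom.mem_ker, I]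
      exact ⟨fun h => congrArg Subtype.val h, fun h => Subtype.ext h⟩
    have hl : RingHom.ker (π.rangeRestrict : MvPolynomial (Fin n) A →+* T) ≤
        RingHom.ker (ψ.comp (rename Sum.inl : MvPolynomial (Fin n) A →ₐ[A] _).toRingHom) := fun z hz => by
      rw [RingHom.mem_ker, RingHom.comp_apply, hψ]
      exact hq (Ideal.subset_span (Or.inl ⟨z, hker ▸ hz, rfl⟩))
    have hr : RingHom.ker (π.rangeRestrict : MvPolynomial (Fin n) A →+* T) ≤
        RingHom.ker (ψ.comp (rename Sum.inr : MvPolynomial (Fin n) A →ₐ[A] _).toRingHom) := fun z hz => by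
      rw [RingHom.mem_ker, RingHom.comp_apply, hψ]
      exact hq (Ideal.subset_span (Or.inr ⟨z, hker ▸ hz, rfl⟩))
    let g₁ := RingHom.liftOfSurjective _ hπT ⟨_, hl⟩
    let g₂ := RingHom.liftOfSurjective _ hπT ⟨_, hr⟩
    have e₁ : ∀ z, g₁ (π.rangeRestrict z) = ψ (rename Sum.inl z) := fun z =>
      RingHom.liftOfRightInverse_comp_apply _ _ _ ⟨_, hl⟩ z
    have e₂ : ∀ z, g₂ (π.rangeRestrict z) = ψ (rename Sum.inr z) := fun z =>
      RingHom.liftOfRightInverse_comp_apply _ _ _ ⟨_, hr⟩ z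
    have hg : g₁ = g₂ := hT K g₁ g₂ (RingHom.ext fun a => by
      have ha : algebraMap A T a = π.rangeRestrict (C a) := (π.rangeRestrict.commutes a).symm
      rw [RingHom.comp_apply, RingHom.comp_apply, ha, e₁, e₂, rename_C, rename_C])
    rw [← hψ, map_sub, sub_eq_zero, ← rename_X Sum.inl i, ← rename_X Sum.inr i, ← e₁, ← e₂, hg]
  obtain ⟨N, hN⟩ := hrad
  let f : I ⊕ I → MvPolynomial (Fin n ⊕ Fin n) A :=
    Sum.elim (fun p => rename Sum.inl p.1) (fun p => rename Sum.inr p.1)
  have hG : G = Set.range f := by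
    rw [Set.Sum.elim_range]
    simp only [G, Set.image_eq_range]
    rfl
  rw [hG, Finsupp.mem_ideal_span_range_iff_exists_finsupp] at hN
  obtain ⟨cf, hcf⟩ := hN
  let P' : Finset I := cf.support.image (Sum.elim id id)
  have hsub : cf.support ⊆ P'.disjSum P' := fun a ha => by
    rcases a with p | p
    · exact Finset.inl_mem_disjSum.2 (Finset.mem_image.2 ⟨Sum.inl p, ha, rfl⟩)
    · exact Finset.inr_mem_disjSum.2 (Finset.mem_image.2 ⟨Sum.inr p, ha, rfl⟩)
  rw [Finsupp.sum_of_support_subset cf hsub (fun a c => c * f a) (fun a _ => zero_mul _), Finset.sum_disjSum,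
    ← Finset.sum_add_distrib] at hcf
  refine ⟨N, P'.map (Function.Embedding.subtype _), fun p => if h : p ∈ I then cf (Sum.inl ⟨p, h⟩) else 0,
    fun p => if h : p ∈ I then cf (Sum.inr ⟨p, h⟩) else 0, fun p hp => ?_, ?_⟩
  · obtain ⟨⟨p, hpI⟩, -, rfl⟩ := Finset.mem_map.1 hp
    exact hpI
  · rw [Finset.sum_map]
    refine hcf.symm.trans (Finset.sum_congr rfl fun p _ => ?_)
    simp [f]

/-- A Noetherian model of an integral radicial surjection, through which given elements factor. -/
theorem exists_model (hφ : WN.IsRadHomeo φ) (s : Finset B) :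
    ∃ (A₁ : Subalgebra ℤ A) (B₁ : Type u) (_ : CommRing B₁) (ι : B₁ →+* B) (ψ : A₁ →+* B₁),
      IsNoetherianRing A₁ ∧ Function.Injective ι ∧ ι.comp ψ = φ.comp A₁.val.toRingHom ∧
      (↑s : Set B) ⊆ Set.range ι ∧
      ψ.Finite ∧ Function.Surjective (PrimeSpectrum.comap ψ) ∧ WN.IsRadicial ψ := by
  classical
  let x : Fin s.card → B := fun i => (s.equivFin.symm i).1
  choose N P c c' hP hid using exists_radicial_witness φ hφ x
  choose q hqm hq using fun i => hφ.isIntegral (x i)
  let S : Set A := (⋃ i, ((q i).coeffs : Set A)) ∪ (⋃ i, ⋃ p ∈ P i,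
    (p.coeffs : Set A) ∪ ((c i p).coeffs : Set A) ∪ ((c' i p).coeffs : Set A))
  have hS : S.Finite := (Set.finite_iUnion fun i => Finset.finite_toSet _).union
    (Set.finite_iUnion fun i => (P i).finite_toSet.biUnion fun p _ =>
      ((Finset.finite_toSet _).union (Finset.finite_toSet _)).union (Finset.finite_toSet _))
  let A₁ : Subalgebra ℤ A := Algebra.adjoin ℤ S
  have hA₁ : A₁.FG := Subalgebra.fg_def.2 ⟨S, hS, rfl⟩
  haveI : Algebra.FiniteType ℤ A₁ := ⟨A₁.fg_top.mpr hA₁⟩
  haveI : IsNoetherianRing A₁ := Algebra.FiniteType.isNoetherianRing ℤ A₁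
  letI : Algebra A₁ B := (φ.comp A₁.val.toRingHom).toAlgebra
  let D : Subalgebra A₁ B := Algebra.adjoin A₁ (Set.range x)
  let ψ : A₁ →+* D := algebraMap A₁ D
  have hφ₁ : ∀ a : A₁, algebraMap A₁ B a = φ a := fun a => rfl
  have hint : ∀ i, IsIntegral A₁ (x i) := fun i => by
    rcases subsingleton_or_nontrivial A with hA | hA
    · have : Subsingleton B := RingHom.codomain_trivial φ
      exact Subsingleton.elim (x i) 0 ▸ isIntegral_zero
    obtain ⟨r, hr, -, hrm⟩ := Polynomial.lifts_and_degree_eq_and_monic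
      ((Polynomial.lifts_iff_coeff_lifts (f := A₁.val.toRingHom) (q i)).2 fun m => by
        by_cases hm : (q i).coeff m = 0
        · exact ⟨0, by simp [hm]⟩
        · exact ⟨⟨_, Algebra.subset_adjoin (Or.inl (Set.mem_iUnion.2 ⟨i, Polynomial.coeff_mem_coeffs hm⟩))⟩, rfl⟩)
      (hqm i)
    refine ⟨r, hrm, ?_⟩
    rw [← hq i, ← hr, Polynomial.eval₂_map]
    rfl
  refine ⟨A₁, D, inferInstance, D.val.toRingHom, ψ, inferInstance, Subtype.coe_injective, rfl,
    fun b hb => ?_, ?_, ?_, ?_⟩
  · exact ⟨⟨b, Algebra.subset_adjoin ⟨s.equivFin ⟨b, hb⟩, by simp [x]⟩⟩, rfl⟩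
  · haveI : Module.Finite A₁ D := Module.Finite.iff_fg.2
      (fg_adjoin_of_finite (Set.finite_range x) (by rintro _ ⟨i, rfl⟩; exact hint i))
    exact RingHom.finite_algebraMap.2 this
  · refine WN.surj_of_isIntegral_of_ker_le ?_ fun a ha => ?_
    · haveI : Module.Finite A₁ D := Module.Finite.iff_fg.2
        (fg_adjoin_of_finite (Set.finite_range x) (by rintro _ ⟨i, rfl⟩; exact hint i))
      exact (RingHom.finite_algebraMap.2 this).to_isIntegral
    · have h0 : φ (a : A) = 0 := congrArg (fun b : D => (b : B)) ha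
      exact (IsNilpotent.map_iff (f := A₁.val.toRingHom) Subtype.coe_injective).1
        (WN.ker_le_nilradical_of_surj hφ.surj h0)
  · intro K _ g₁ g₂ hg
    let y : Fin s.card → D := fun i => ⟨x i, Algebra.subset_adjoin ⟨i, rfl⟩⟩
    have hlift : ∀ {τ : Type} (p : MvPolynomial τ A), (↑p.coeffs : Set A) ⊆ S →
        ∃ p₁ : MvPolynomial τ A₁, MvPolynomial.map A₁.val.toRingHom p₁ = p := fun {τ} p hp =>
      RingHom.mem_range.1 (MvPolynomial.mem_range_map_iff_coeffs_subset.2 fun a ha =>
        ⟨⟨a, Algebra.subset_adjoin (hp ha)⟩, rfl⟩)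
    have hinj : ∀ τ : Type, Function.Injective
        (MvPolynomial.map (σ := τ) A₁.val.toRingHom) := fun τ =>
      MvPolynomial.map_injective _ Subtype.coe_injective
    have key : ∀ i, g₁ (y i) = g₂ (y i) := fun i => by
      let h : A₁ →+* K := g₁.comp ψ
      let z : Fin s.card ⊕ Fin s.card → K := Sum.elim (fun j => g₁ (y j)) (fun j => g₂ (y j))
      have hmem : ∀ p ∈ P i, (↑p.coeffs : Set A) ⊆ S ∧ (↑(c i p).coeffs : Set A) ⊆ S ∧
          (↑(c' i p).coeffs : Set A) ⊆ S := fun p hp =>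
        ⟨fun a ha => Or.inr (Set.mem_iUnion.2 ⟨i, Set.mem_iUnion₂.2 ⟨p, hp, Or.inl (Or.inl ha)⟩⟩),
          fun a ha => Or.inr (Set.mem_iUnion.2 ⟨i, Set.mem_iUnion₂.2 ⟨p, hp, Or.inl (Or.inr ha)⟩⟩),
          fun a ha => Or.inr (Set.mem_iUnion.2 ⟨i, Set.mem_iUnion₂.2 ⟨p, hp, Or.inr ha⟩⟩)⟩
      choose! p₁ hp₁ using fun p hp => hlift p (hmem p hp).1
      choose! c₁ hc₁ using fun p hp => hlift (c i p) (hmem p hp).2.1
      choose! c₂ hc₂ using fun p hp => hlift (c' i p) (hmem p hp).2.2
      have hD : ∀ p ∈ P i, eval₂ ψ y (p₁ p) = 0 := fun p hp => by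
        refine Subtype.ext ?_
        change D.val.toRingHom (eval₂ ψ y (p₁ p)) = 0
        rw [eval₂_comp_left]
        refine Eq.trans ?_ ((congrArg (eval₂ φ x) (hp₁ p hp)).trans (hP i p hp))
        rw [eval₂_map]
        rfl
      have hid₁ : (X (Sum.inl i) - X (Sum.inr i) : MvPolynomial _ A₁) ^ N i =
          ∑ p ∈ P i, (c₁ p * rename Sum.inl (p₁ p) + c₂ p * rename Sum.inr (p₁ p)) := by
        apply hinj
        rw [map_pow, map_sub, map_X, map_X, map_sum, hid i]
        refine Finset.sum_congr rfl fun p hp => ?_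
        rw [map_add, map_mul, map_mul, map_rename, map_rename, hp₁ p hp, hc₁ p hp, hc₂ p hp]
      have h2 := congrArg (eval₂Hom h z) hid₁
      simp only [map_pow, map_sub, map_sum, map_add, map_mul, coe_eval₂Hom, eval₂_X, eval₂_rename] at h2
      rw [Finset.sum_eq_zero fun p hp => ?_] at h2
      · exact sub_eq_zero.1 (eq_zero_of_pow_eq_zero h2)
      · have a₁ : eval₂ h (z ∘ Sum.inl) (p₁ p) = 0 := by
          rw [show z ∘ Sum.inl = g₁ ∘ y from rfl, ← eval₂_comp_left, hD p hp, map_zero]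
        have a₂ : eval₂ h (z ∘ Sum.inr) (p₁ p) = 0 := by
          rw [show h = g₂.comp ψ from hg, show z ∘ Sum.inr = g₂ ∘ y from rfl, ← eval₂_comp_left,
            hD p hp, map_zero]
        rw [a₁, a₂, mul_zero, mul_zero, add_zero]
    refine RingHom.ext fun b => ?_
    obtain ⟨b, hb⟩ := b
    induction hb using Algebra.adjoin_induction with
    | mem b hb =>
      obtain ⟨i, rfl⟩ := hb
      exact key i
    | algebraMap a => exact RingHom.congr_fun hg a
    | add b b' hb hb' e e' =>
      exact ((g₁.map_add ⟨b, hb⟩ ⟨b', hb'⟩).trans (by rw [e, e'])).trans (g₂.map_add ⟨b, hb⟩ ⟨b', hb'⟩).symm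
    | mul b b' hb hb' e e' =>
      exact ((g₁.map_mul ⟨b, hb⟩ ⟨b', hb'⟩).trans (by rw [e, e'])).trans (g₂.map_mul ⟨b, hb⟩ ⟨b', hb'⟩).symm

end Algebra

set_option backward.isDefEq.respectTransparency.types false in
/-- An étale algebra over the source of a radicial integral surjection descends. -/
theorem exists_lift_algebra {A B C : Type u} [CommRing A] [CommRing B] [CommRing C] (φ : A →+* B)
    (hφ : WN.IsRadHomeo φ) [Algebra B C] [Algebra.Etale B C] :
    ∃ (V : Scheme.{u}) (v : V ⟶ Spec (CommRingCat.of A))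
      (k : pullback v (Spec.map (CommRingCat.ofHom φ)) ⟶ Spec (CommRingCat.of C)),
      Etale v ∧ IsIso k ∧
        k ≫ Spec.map (CommRingCat.ofHom (algebraMap B C)) = pullback.snd _ _ := by
  classical
  obtain ⟨B₀, C₀, _, _, ⟨s, hs⟩, hC₀, ⟨e⟩⟩ :=
    Algebra.Etale.exists_subalgebra_fg (R := ℤ) (A := B) (B := C)
  obtain ⟨A₁, B₁, _, ι, ψ, hA₁, hι, hιψ, hsι, hfin, hsurj, hrad⟩ := exists_model φ hφ s
  have hB₀ : ∀ b : B₀, (b : B) ∈ ι.range := fun b =>
    (Algebra.adjoin_le hsι : Algebra.adjoin ℤ (↑s : Set B) ≤ subalgebraOfSubring ι.range) (hs ▸ b.2)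
  let j : B₀ →+* B₁ := (RingEquiv.ofBijective ι.rangeRestrict
    ⟨fun a b h => hι (congrArg Subtype.val h), ι.rangeRestrict_surjective⟩).symm.toRingHom.comp
      (B₀.val.toRingHom.codRestrict ι.range hB₀)
  have hj : ι.comp j = algebraMap B₀ B := RingHom.ext fun b =>
    congrArg Subtype.val ((RingEquiv.ofBijective ι.rangeRestrict
      ⟨fun a b h => hι (congrArg Subtype.val h), ι.rangeRestrict_surjective⟩).apply_symm_apply ⟨b, hB₀ b⟩)
  let g := Spec.map (CommRingCat.ofHom ψ)
  haveI : IsFinite g := (IsFinite.SpecMap_iff _).2 hfin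
  haveI : Surjective g := ⟨hsurj⟩
  haveI : UniversallyInjective g := (WN.universallyInjective_specMap_iff ψ).2 hrad
  haveI : IsNoetherianRing (CommRingCat.of A₁) := hA₁
  haveI : IsLocallyNoetherian (Spec (CommRingCat.of A₁)) := inferInstance
  let u₀ := Spec.map (CommRingCat.ofHom (algebraMap B₀ C₀))
  haveI : Etale u₀ := (HasRingHomProperty.Spec_iff (P := @Etale)).2 (RingHom.etale_algebraMap.2 hC₀)
  let bj := Spec.map (CommRingCat.ofHom j)
  let u₁ : pullback u₀ bj ⟶ Spec (CommRingCat.of B₁) := pullback.snd u₀ bj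
  let Uo : Over (Spec (CommRingCat.of B₁)) := Over.mk u₁
  haveI : Etale Uo.hom := MorphismProperty.pullback_snd u₀ bj ‹_›
  let D := S5115.datum g Uo
  haveI : QuasiCompact D.obj.hom := inferInstanceAs (QuasiCompact u₁)
  haveI : IsSeparated D.obj.hom := inferInstanceAs (IsSeparated u₁)
  haveI : Etale D.obj.hom := ‹Etale Uo.hom›
  obtain ⟨E⟩ := SGA1Desc.exists_eff_of_finite D
  let π := pullback.fst (D.obj.hom ≫ g) (𝟙 (Spec (CommRingCat.of A₁)))
  haveI : IsIso π := inferInstanceAs (IsIso (pullback.fst (D.obj.hom ≫ g) (𝟙 _)))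
  have sq₁ : IsPullback (inv π ≫ E.q) u₁ E.str g := by
    have h := E.isPullback
    rw [Category.comp_id] at h
    exact IsPullback.of_iso h (asIso π) (Iso.refl _) (Iso.refl _) (Iso.refl _)
      (by simp) (by simp [π, Uo, D, S5115.datum]) (by simp) (by simp)
  let a := Spec.map (CommRingCat.ofHom A₁.val.toRingHom)
  let f := Spec.map (CommRingCat.ofHom φ)
  let b₁ := Spec.map (CommRingCat.ofHom ι)
  let b₀ := Spec.map (CommRingCat.ofHom (algebraMap B₀ B))
  let p := Spec.map (CommRingCat.ofHom (algebraMap B C))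
  have hb : b₁ ≫ bj = b₀ := by
    simp only [b₁, bj, b₀, ← Spec.map_comp, ← CommRingCat.ofHom_comp, hj]
  have hg : b₁ ≫ g = f ≫ a := by
    simp only [b₁, g, f, a, ← Spec.map_comp, ← CommRingCat.ofHom_comp, hιψ]
  let c := Spec.map (CommRingCat.ofHom (e.symm.toRingEquiv.toRingHom.comp
    (Algebra.TensorProduct.includeRight (R := B₀) (A := B) (B := C₀)).toRingHom))
  have sqC : IsPullback c p u₀ b₀ := by
    refine IsPullback.of_iso (AlgSp.isPullback_tensor B₀ B C₀).flip
      (Scheme.Spec.mapIso e.toRingEquiv.toCommRingCatIso.op) (Iso.refl _) (Iso.refl _) (Iso.refl _)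
      ?_ ?_ (by simp [u₀]) (by simp [b₀])
    · simp only [Iso.refl_hom, Category.comp_id, Functor.mapIso_hom, Iso.op_hom]
      change Spec.map _ = Spec.map _ ≫ Spec.map _
      rw [← Spec.map_comp]
      congr 1
      ext z
      change (1 : B) ⊗ₜ[B₀] z = e (e.symm ((1 : B) ⊗ₜ z))
      rw [e.apply_symm_apply]
    · simp only [Iso.refl_hom, Category.comp_id, Functor.mapIso_hom, Iso.op_hom]
      change Spec.map _ = Spec.map _ ≫ Spec.map _
      rw [← Spec.map_comp]
      congr 1
      ext z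
      exact (e.commutes z).symm
  let m₁ : Spec (CommRingCat.of C) ⟶ pullback u₀ bj :=
    pullback.lift c (p ≫ b₁) (by rw [Category.assoc, hb, sqC.w])
  have sq₂ : IsPullback m₁ p u₁ b₁ := by
    refine IsPullback.of_right (h₁₂ := pullback.fst u₀ bj) (v₁₃ := u₀) (h₂₂ := bj) ?_
      (pullback.lift_snd _ _ _) (IsPullback.of_hasPullback u₀ bj)
    rw [pullback.lift_fst, hb]
    exact sqC
  have big := sq₂.paste_horiz sq₁
  rw [hg] at big
  let v := pullback.snd E.str a
  have big' := (IsPullback.of_hasPullback v f).paste_horiz (IsPullback.of_hasPullback E.str a)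
  haveI := E.etale
  refine ⟨_, v, (big'.isoIsPullback _ _ big).hom, MorphismProperty.pullback_snd _ _ ‹_›,
    inferInstance, ?_⟩
  exact IsPullback.isoIsPullback_hom_snd _ _ _ _

set_option backward.isDefEq.respectTransparency.types false in
/-- An affine open piece of an étale scheme over an affine open of the base lifts. -/
theorem exists_lift {X Y : Scheme.{u}} (f : X ⟶ Y) [IsIntegralHom f] [UniversallyInjective f]
    [Surjective f] (U : X.Etale) (u : U.left) :
    ∃ (V : Y.Etale) (k : pullback V.hom f ⟶ U.left), k ≫ U.hom = pullback.snd V.hom f ∧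
      IsOpenImmersion k ∧ u ∈ Set.range k := by
  obtain ⟨Y₀, hY₀, hy, -⟩ :=
    exists_isAffineOpen_mem_and_subset (x := f (U.hom u)) (U := ⊤) trivial
  let jY := hY₀.fromSpec
  let fP : pullback f jY ⟶ Spec Γ(Y, Y₀) := pullback.snd f jY
  haveI : IsIntegralHom fP := MorphismProperty.pullback_snd _ _ ‹_›
  haveI : UniversallyInjective fP := MorphismProperty.pullback_snd _ _ ‹_›
  haveI : Surjective fP := MorphismProperty.pullback_snd _ _ ‹_›
  haveI : IsAffine (pullback f jY) := isAffine_of_isAffineHom fP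
  let iX := (pullback f jY).isoSpec
  obtain ⟨φ, hφ⟩ := Spec.map_surjective (iX.inv ≫ fP)
  have hrad : WN.IsRadHomeo φ.hom := by
    rw [← WN.isUnivHomeo_specMap_iff, WN.isUnivHomeo_iff, CommRingCat.ofHom_hom, hφ]
    exact ⟨inferInstance, MorphismProperty.comp_mem _ _ _ (inferInstanceAs (UniversallyInjective iX.inv)) ‹_›, inferInstance⟩
  let UP : Scheme.{u} := pullback U.hom (pullback.fst f jY)
  obtain ⟨w, hw⟩ : ∃ w : UP, pullback.fst U.hom (pullback.fst f jY) w = u := by
    rw [← Set.mem_range, Scheme.Pullback.range_fst, Scheme.Pullback.range_fst]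
    exact hY₀.range_fromSpec.ge hy
  obtain ⟨W, hW, hwW, -⟩ := exists_isAffineOpen_mem_and_subset (x := w) (U := ⊤) trivial
  let p' : Spec Γ(UP, W) ⟶ Spec Γ(pullback f jY, ⊤) :=
    hW.fromSpec ≫ pullback.snd U.hom (pullback.fst f jY) ≫ iX.hom
  haveI : Etale U.hom := U.prop
  haveI : Etale p' := inferInstanceAs (Etale (hW.fromSpec ≫ pullback.snd U.hom (pullback.fst f jY) ≫ iX.hom))
  obtain ⟨χ, hχ⟩ := Spec.map_surjective p'
  letI := χ.hom.toAlgebra
  haveI : Algebra.Etale Γ(pullback f jY, ⊤) Γ(UP, W) := RingHom.etale_algebraMap.1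
    ((HasRingHomProperty.Spec_iff (P := @Etale)).1 (hχ.symm ▸ ‹Etale p'›))
  obtain ⟨V, v, k, hv, hk, hkp⟩ := exists_lift_algebra (C := Γ(UP, W)) φ.hom hrad
  have hkp' : k ≫ p' = pullback.snd v (Spec.map φ) := by rw [← hχ]; exact hkp
  have sqf : IsPullback (Spec.map φ) (iX.inv ≫ pullback.fst f jY) jY f :=
    IsPullback.of_iso (IsPullback.of_hasPullback f jY).flip iX (Iso.refl _) (Iso.refl _) (Iso.refl _)
      (by simp [hφ, fP]) (by simp) (by simp) (by simp)
  have sqv := (IsPullback.of_hasPullback v (Spec.map φ)).paste_vert sqf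
  haveI : Etale (v ≫ jY) := inferInstance
  let i := sqv.isoPullback
  refine ⟨Scheme.Etale.mk (v ≫ jY), i.inv ≫ k ≫ hW.fromSpec ≫ pullback.fst U.hom (pullback.fst f jY),
    ?_, inferInstance, ?_⟩
  · change _ = pullback.snd (v ≫ jY) f
    simp only [Category.assoc, Iso.inv_comp_eq, i, IsPullback.isoPullback_hom_snd, pullback.condition]
    rw [← reassoc_of% hkp']
    simp [p']
  · obtain ⟨z, hz⟩ := hW.range_fromSpec.ge hwW
    obtain ⟨z', rfl⟩ := k.surjective z
    obtain ⟨z'', rfl⟩ := i.inv.surjective z'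
    exact ⟨z'', by simp only [Scheme.Hom.comp_apply]; exact (congrArg _ hz).trans hw⟩

/-- Base change along an integral universally injective surjection is an equivalence of étale sites. -/
theorem isEquivalence_bc_of_universalHomeomorph {X Y : Scheme.{u}} (f : X ⟶ Y) [IsIntegralHom f]
    [UniversallyInjective f] [Surjective f] : (EtCoh.bc f).IsEquivalence :=
  EtaleSite.isEquivalence_bc f fun U u => exists_lift f U u

end Groth.Agent.EtaleSite.TopInvLift
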